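import Mathlib.GroupTheory.SpecificGroups.Alternating.Simple
import Mathlib.Tactic.NormNum

/-!
Small facts about the alternating groups of degree five and six, checked by evaluation.
-/

set_option autoImplicit false
set_option maxRecDepth 100000
set_option Elab.async false
set_option synthInstance.maxSize 1024

namespace CfsgLib.Recog.EPOFive.Alt

open Equiv

/-- The alternating group of degree five. -/
abbrev A5 : Type := ↥(alternatingGroup (Fin 5))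

/-- The alternating group of degree six. -/
abbrev A6 : Type := ↥(alternatingGroup (Fin 6))

/-- A double transposition. -/
def a5 : A5 := ⟨swap 0 1 * swap 2 3, Equiv.Perm.mem_alternatingGroup.2 (by decide)⟩

/-- A second double transposition. -/
def b5 : A5 := ⟨swap 0 2 * swap 1 3, Equiv.Perm.mem_alternatingGroup.2 (by decide)⟩

/-- An element of order three permuting the four group. -/
def y5 : A5 := ⟨swap 1 3 * swap 1 2, Equiv.Perm.mem_alternatingGroup.2 (by decide)⟩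

/-- An element of order three inverted by `a5`. -/
def x5 : A5 := ⟨swap 2 4 * swap 2 3, Equiv.Perm.mem_alternatingGroup.2 (by decide)⟩

/-- An element of order five. -/
def f5 : A5 := ⟨swap 0 4 * swap 0 3 * swap 0 2 * swap 0 1, Equiv.Perm.mem_alternatingGroup.2 (by decide)⟩

theorem five_facts : a5 ^ 2 = 1 ∧ a5 ≠ 1 ∧ b5 ^ 2 = 1 ∧ b5 ≠ 1 ∧ a5 * b5 = b5 * a5 ∧ a5 ≠ b5 ∧
    y5 ^ 3 = 1 ∧ y5 ≠ 1 ∧ y5 * a5 * y5⁻¹ = b5 ∧ y5 * b5 * y5⁻¹ = a5 * b5 ∧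
    y5 * (a5 * b5) * y5⁻¹ = a5 ∧ x5 ^ 3 = 1 ∧ x5 ≠ 1 ∧ a5 * x5 * a5⁻¹ = x5⁻¹ ∧
    f5 ^ 5 = 1 ∧ f5 ≠ 1 := by
  decide +kernel

theorem five_centralizer : ∀ g : A5, g * a5 = a5 * g → g = 1 ∨ g = a5 ∨ g = b5 ∨ g = a5 * b5 := by
  decide +kernel

theorem five_centralizer' : ∀ g : A5, g * b5 = b5 * g → g = 1 ∨ g = a5 ∨ g = b5 ∨ g = a5 * b5 := by
  decide +kernel

theorem five_centralizer'' : ∀ g : A5, g * (a5 * b5) = a5 * b5 * g →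
    g = 1 ∨ g = a5 ∨ g = b5 ∨ g = a5 * b5 := by
  decide +kernel

theorem five_involutions : ∀ q : A5, q ^ 2 = 1 → q ≠ 1 → ∃ g : A5, g * q * g⁻¹ = a5 := by
  decide +kernel

/-- An involution inverting `f5`. -/
def t5 : A5 := ⟨swap 1 4 * swap 2 3, Equiv.Perm.mem_alternatingGroup.2 (by decide)⟩

theorem five_inverted : t5 ^ 2 = 1 ∧ t5 ≠ 1 ∧ t5 * f5 * t5⁻¹ = f5⁻¹ := by
  decide +kernel

theorem five_orders : (a5 * y5) ^ 3 = 1 ∧ a5 * y5 ≠ 1 ∧ b5 * y5 ≠ 1 ∧ (b5 * y5) ^ 3 = 1 ∧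
    (a5 * b5 * y5) ^ 3 = 1 ∧ a5 * b5 * y5 ≠ 1 := by
  decide +kernel

theorem five_four : ∀ g : A5, g ^ 4 = 1 → g ^ 2 = 1 := by
  decide +kernel

theorem five_card : Nat.card A5 = 60 := by
  rw [Nat.card_eq_fintype_card]; decide +kernel

/-- An element of order three. -/
def a6 : A6 := ⟨swap 0 2 * swap 0 1, Equiv.Perm.mem_alternatingGroup.2 (by decide)⟩

/-- Another element of order three. -/
def b6 : A6 := ⟨swap 3 5 * swap 3 4, Equiv.Perm.mem_alternatingGroup.2 (by decide)⟩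

/-- An element of order four normalising `⟨a6, b6⟩`. -/
def r6 : A6 := ⟨swap 0 3 * (swap 1 5 * swap 1 2 * swap 1 4), Equiv.Perm.mem_alternatingGroup.2 (by decide)⟩

/-- An involution inverting `r6`. -/
def s6 : A6 := ⟨swap 0 3 * swap 1 2, Equiv.Perm.mem_alternatingGroup.2 (by decide)⟩

/-- An element of order five. -/
def f6 : A6 := ⟨swap 0 4 * swap 0 3 * swap 0 2 * swap 0 1, Equiv.Perm.mem_alternatingGroup.2 (by decide)⟩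

/-- An involution inverting `f6`. -/
def t6 : A6 := ⟨swap 1 4 * swap 2 3, Equiv.Perm.mem_alternatingGroup.2 (by decide)⟩

theorem six_facts : a6 ^ 3 = 1 ∧ a6 ≠ 1 ∧ b6 ^ 3 = 1 ∧ b6 ≠ 1 ∧ a6 * b6 = b6 * a6 ∧
    b6 ≠ a6 ∧ b6 ≠ a6⁻¹ ∧ r6 ^ 4 = 1 ∧ r6 ^ 2 ≠ 1 ∧ r6 * a6 * r6⁻¹ = b6 ∧
    r6 * b6 * r6⁻¹ = a6⁻¹ ∧ s6 ^ 2 = 1 ∧ s6 ≠ 1 ∧ s6 * r6 * s6⁻¹ = r6⁻¹ ∧
    f6 ^ 5 = 1 ∧ f6 ≠ 1 ∧ t6 ^ 2 = 1 ∧ t6 ≠ 1 ∧ t6 * f6 * t6⁻¹ = f6⁻¹ := by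
  decide +kernel

theorem six_centralizer_r : ∀ g : A6, g * r6 = r6 * g →
    g = 1 ∨ g = r6 ∨ g = r6 ^ 2 ∨ g = r6 ^ 3 := by
  decide +kernel

theorem six_centralizer_z : ∀ g : A6, g * r6 ^ 2 = r6 ^ 2 * g →
    g = 1 ∨ g = r6 ∨ g = r6 ^ 2 ∨ g = r6 ^ 3 ∨
      g = s6 ∨ g = s6 * r6 ∨ g = s6 * r6 ^ 2 ∨ g = s6 * r6 ^ 3 := by
  decide +kernel

theorem six_involutions : ∀ q : A6, q ^ 2 = 1 → q ≠ 1 → ∃ g : A6, g * q * g⁻¹ = r6 ^ 2 := by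
  decide +kernel

/-- A Sylow 3-subgroup, as a set. -/
def S6 : Finset A6 :=
  {1, a6, a6 ^ 2, b6, b6 ^ 2, a6 * b6, a6 * b6 ^ 2, a6 ^ 2 * b6, a6 ^ 2 * b6 ^ 2}

theorem six_S_mul : ∀ a ∈ S6, ∀ b ∈ S6, a * b ∈ S6 := by
  decide +kernel

theorem six_S_inv : ∀ a ∈ S6, a⁻¹ ∈ S6 := by
  decide +kernel

theorem six_S_facts : S6.card = 9 ∧ a6 ∈ S6 ∧ b6 ∈ S6 ∧ (∀ a ∈ S6, r6 * a * r6⁻¹ ∈ S6) ∧
    r6 ^ 2 * a6 * (r6 ^ 2)⁻¹ = a6⁻¹ := by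
  decide +kernel

theorem six_normalizer : ∀ q : A6, q * a6 * q⁻¹ ∈ S6 → q * b6 * q⁻¹ ∈ S6 →
    (q * r6 * q⁻¹ = r6 ∨ q * r6 * q⁻¹ = r6⁻¹) → q = 1 ∨ q = r6 ∨ q = r6 ^ 2 ∨ q = r6 ^ 3 := by
  decide +kernel

theorem six_card : Nat.card A6 = 360 := by
  rw [Nat.card_eq_fintype_card]; decide +kernel

end CfsgLib.Recog.EPOFive.Alt
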