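import Mathlib
import Cfsg.Prelude.Def_Transfer
import Cfsg.Prelude.Def_Solvable

/-!
Finite groups all of whose elements have order at most five: elementary facts.
-/

set_option autoImplicit false

namespace CfsgLib.Recog.EPOFive

open Subgroup

/-- All element orders are at most five. -/
def Spec (G : Type*) [Group G] : Prop := ∀ g : G, orderOf g ≤ 5

/-- The possible conclusions. -/
def Concl (G : Type*) [Group G] : Prop :=
  (∃ (W : Subgroup G) (_ : W.Normal), Cfsg.IsElementaryAbelian 2 W ∧
      Nonempty (G ⧸ W ≃* ↥(alternatingGroup (Fin 5)))) ∨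
    Nonempty (G ≃* ↥(alternatingGroup (Fin 6)))

variable {G : Type*} [Group G] [Finite G]

omit [Finite G] in
theorem Spec.of_injective {H : Type*} [Group H] (hG : Spec G) (f : H →* G)
    (hf : Function.Injective f) : Spec H := fun h => by
  rw [← orderOf_injective f hf h]; exact hG _

theorem Spec.subgroup (hG : Spec G) (H : Subgroup G) : Spec H :=
  hG.of_injective H.subtype H.subtype_injective

theorem Spec.of_surjective {H : Type*} [Group H] (hG : Spec G) (f : G →* H)
    (hf : Function.Surjective f) : Spec H := fun h => by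
  obtain ⟨g, rfl⟩ := hf h
  exact (Nat.le_of_dvd (orderOf_pos g) (orderOf_map_dvd f g)).trans (hG g)

theorem Spec.quotient (hG : Spec G) (N : Subgroup G) [N.Normal] : Spec (G ⧸ N) :=
  hG.of_surjective (QuotientGroup.mk' N) (QuotientGroup.mk'_surjective N)

theorem Spec.orderOf_cases (hG : Spec G) (g : G) :
    orderOf g = 1 ∨ orderOf g = 2 ∨ orderOf g = 3 ∨ orderOf g = 4 ∨ orderOf g = 5 := by
  have := hG g; have := orderOf_pos g; omega

theorem Spec.eq_one_of_commute (hG : Spec G) {a b : G} (hab : Commute a b) (ha : a ≠ 1)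
    (hco : (orderOf a).Coprime (orderOf b)) : b = 1 := by
  by_contra hb
  have h := hG (a * b)
  rw [hab.orderOf_mul_eq_mul_orderOf_of_coprime hco] at h
  have h1 : 2 ≤ orderOf a := by
    have := orderOf_pos a
    have : orderOf a ≠ 1 := fun e => ha (orderOf_eq_one_iff.1 e)
    omega
  have h2 : 2 ≤ orderOf b := by
    have := orderOf_pos b
    have : orderOf b ≠ 1 := fun e => hb (orderOf_eq_one_iff.1 e)
    omega
  have ha' : orderOf a ≤ 2 := by nlinarith
  have hb' : orderOf b ≤ 2 := by nlinarith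
  rw [show orderOf a = 2 by omega, show orderOf b = 2 by omega] at hco
  norm_num at hco

theorem Spec.prime_cases (hG : Spec G) {p : ℕ} (hp : p.Prime) (hd : p ∣ Nat.card G) :
    p = 2 ∨ p = 3 ∨ p = 5 := by
  have := Fact.mk hp
  obtain ⟨g, hg⟩ := exists_prime_orderOf_dvd_card' p hd
  rcases hG.orderOf_cases g with h | h | h | h | h <;> rw [hg] at h <;> subst h <;>
    first | omega | exact absurd hp (by norm_num)

theorem Spec.isPGroup_centralizer (hG : Spec G) {p : ℕ} [hp : Fact p.Prime] {x : G}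
    (hx : orderOf x = p) : IsPGroup p (Subgroup.centralizer ({x} : Set G)) := by
  rintro ⟨g, hg⟩
  have hc : Commute x g := Subgroup.mem_centralizer_singleton_iff.1 hg |>.symm
  have hx1 : x ≠ 1 := fun e => by
    rw [e, orderOf_one] at hx
    exact hp.out.ne_one hx.symm
  rcases Nat.coprime_or_dvd_of_prime hp.out (orderOf g) with h | h
  · refine ⟨0, Subtype.ext ?_⟩
    simpa using hG.eq_one_of_commute hc hx1 (hx ▸ h)
  · have hpc := hG.orderOf_cases x
    rw [hx] at hpc
    have hgc := hG.orderOf_cases g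
    have hp2 := hp.out.two_le
    obtain ⟨k, hk⟩ : ∃ k, orderOf g = p ^ k := by
      rcases hpc with e | e | e | e | e <;> subst e <;>
        rcases hgc with e | e | e | e | e <;> rw [e] at h <;>
        first
          | omega
          | (refine ⟨1, ?_⟩; rw [e, pow_one]; done)
          | (refine ⟨2, ?_⟩; rw [e]; rfl)
          | exact absurd hp.out (by norm_num)
    refine ⟨k, Subtype.ext ?_⟩
    show g ^ p ^ k = 1
    rw [← hk, pow_orderOf_eq_one]

omit [Finite G] in
theorem mem_centralizer_of_commute {x y : G} (h : Commute y x) :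
    y ∈ Subgroup.centralizer ({x} : Set G) :=
  Subgroup.mem_centralizer_singleton_iff.2 h

theorem Spec.pow_eq_one_of_isPGroup (hG : Spec G) {p : ℕ} [hp : Fact p.Prime] (hp2 : p ≠ 2)
    {P : Subgroup G} (hP : IsPGroup p P) {g : G} (hg : g ∈ P) : g ^ p = 1 := by
  obtain ⟨k, hk⟩ := hP.exists_orderOf_eq_pow ⟨g, hg⟩
  rw [Subgroup.orderOf_mk] at hk
  rcases k with _ | k
  · rw [pow_zero, orderOf_eq_one_iff] at hk
    rw [hk, one_pow]
  rcases k with _ | k
  · rw [pow_one] at hk
    rw [← hk, pow_orderOf_eq_one]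
  exfalso
  have h := hG g
  have h3 : 3 ≤ p := by have := hp.out.two_le; omega
  have : 3 ^ 2 ≤ p ^ (k + 1 + 1) :=
    le_trans (Nat.pow_le_pow_left h3 2) (Nat.pow_le_pow_right (by omega) (by omega))
  omega

theorem Spec.pow_four_of_isPGroup (hG : Spec G) {P : Subgroup G} (hP : IsPGroup 2 P) {g : G}
    (hg : g ∈ P) : g ^ 4 = 1 := by
  obtain ⟨k, hk⟩ := hP.exists_orderOf_eq_pow ⟨g, hg⟩
  rw [Subgroup.orderOf_mk] at hk
  have h := hG g
  have hk2 : k ≤ 2 := by
    by_contra hc
    have : 2 ^ 3 ≤ 2 ^ k := Nat.pow_le_pow_right (by norm_num) (by omega)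
    omega
  rw [← orderOf_dvd_iff_pow_eq_one, hk]
  exact (Nat.pow_dvd_pow 2 hk2)

/-- An involution normalising a subgroup of odd order inverts it. -/
theorem Spec.inverts (hG : Spec G) {a : G} (ha : orderOf a = 2) {P : Subgroup G}
    (hP : Odd (Nat.card P)) (hn : a ∈ Subgroup.normalizer (P : Set G)) :
    ∀ y ∈ P, a * y * a⁻¹ = y⁻¹ := by
  have ha2 : a * a = 1 := by rw [← pow_two, ← ha, pow_orderOf_eq_one]
  have hai : a⁻¹ = a := inv_eq_of_mul_eq_one_left ha2
  let φ : P →* P := MonoidHom.mk' (fun y => ⟨a * y * a⁻¹, (Subgroup.mem_normalizer_iff.1 hn y).1 y.2⟩)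
    fun y z => Subtype.ext (by simp [mul_assoc])
  have hfix : MonoidHom.FixedPointFree (φ : P → P) := by
    intro y hy
    have hc : Commute a (y : G) := by
      have := congrArg Subtype.val hy
      show a * y = y * a
      calc a * (y : G) = a * y * a⁻¹ * a := by group
        _ = y * a := by rw [show a * (y : G) * a⁻¹ = y from this]
    have ha1 : a ≠ 1 := fun e => by rw [e, orderOf_one] at ha; omega
    refine Subtype.ext (hG.eq_one_of_commute hc ha1 ?_)
    rw [ha, Nat.coprime_two_left, Subgroup.orderOf_coe]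
    exact hP.of_dvd_nat (orderOf_dvd_natCard y)
  have hinv : Function.Involutive (φ : P → P) := fun y => Subtype.ext (by
    show a * (a * y * a⁻¹) * a⁻¹ = y
    rw [hai, show a * (a * (y : G) * a) * a = (a * a) * y * (a * a) by group, ha2, one_mul, mul_one])
  intro y hy
  exact congrArg Subtype.val (congrFun (hfix.coe_eq_inv_of_involutive hinv) ⟨y, hy⟩)

/-- A four group normalises no nontrivial subgroup of odd order. -/
theorem Spec.klein_contra (hG : Spec G) {a b : G} (ha : orderOf a = 2) (hb : orderOf b = 2)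
    (hab : Commute a b) (hne : a ≠ b) {P : Subgroup G} (hne' : P ≠ ⊥) (hP : Odd (Nat.card P))
    (hna : a ∈ Subgroup.normalizer (P : Set G)) (hnb : b ∈ Subgroup.normalizer (P : Set G)) :
    False := by
  apply hne'
  rw [Subgroup.eq_bot_iff_forall]
  intro y hy
  have ha2 : a * a = 1 := by rw [← pow_two, ← ha, pow_orderOf_eq_one]
  have hb2 : b * b = 1 := by rw [← pow_two, ← hb, pow_orderOf_eq_one]
  have hne1 : a * b ≠ 1 := fun e => hne (by rw [eq_inv_of_mul_eq_one_left e, inv_eq_of_mul_eq_one_left hb2])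
  have hord : orderOf (a * b) = 2 := by
    refine orderOf_eq_prime ?_ hne1
    rw [hab.mul_pow, pow_two, pow_two, ha2, hb2, one_mul]
  have hc : Commute (a * b) y := by
    show a * b * y = y * (a * b)
    calc a * b * y = a * (b * y * b⁻¹) * a⁻¹ * (a * b) := by group
      _ = y * (a * b) := by
        rw [hG.inverts hb hP hnb y hy, hG.inverts ha hP hna y⁻¹ (inv_mem hy), inv_inv]
  refine hG.eq_one_of_commute hc hne1 ?_
  rw [hord, Nat.coprime_two_left]
  exact hP.of_dvd_nat (by simpa using orderOf_dvd_natCard (⟨y, hy⟩ : P))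

/-- An elementary abelian group of order nine normalises no nontrivial 2-subgroup. -/
theorem Spec.nine_contra (hG : Spec G) {a b : G} (ha : orderOf a = 3) (hb : orderOf b = 3)
    (hab : Commute a b) (hne : b ≠ a) (hne₂ : b ≠ a⁻¹) {P : Subgroup G} (hne' : P ≠ ⊥)
    (hP : IsPGroup 2 P) (hna : a ∈ Subgroup.normalizer (P : Set G))
    (hnb : b ∈ Subgroup.normalizer (P : Set G)) : False := by
  have : Fact (Nat.Prime 2) := ⟨Nat.prime_two⟩
  have : Nontrivial P := (Subgroup.nontrivial_iff_ne_bot _).2 hne'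
  set Z : Subgroup G := P ⊓ Subgroup.centralizer (P : Set G) with hZ
  obtain ⟨y₀, hy₀, hy₀1⟩ : ∃ y ∈ Z, y ≠ 1 := by
    have hc : Nontrivial (Subgroup.center P) := hP.center_nontrivial
    obtain ⟨⟨⟨c, hcP⟩, hcc⟩, hc1⟩ := exists_ne (1 : Subgroup.center P)
    refine ⟨c, ⟨hcP, fun q hq => ?_⟩, fun e => hc1 (Subtype.ext (Subtype.ext e))⟩
    exact congrArg Subtype.val (Subgroup.mem_center_iff.1 hcc ⟨q, hq⟩)
  have hnorm : ∀ g, g ∈ Subgroup.normalizer (P : Set G) → ∀ y ∈ Z, g * y * g⁻¹ ∈ Z := by
    intro g hg y hy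
    refine ⟨(Subgroup.mem_normalizer_iff.1 hg y).1 hy.1, fun q hq => ?_⟩
    have h1 : g⁻¹ * q * g ∈ P := by
      have := (Subgroup.mem_normalizer_iff.1 (inv_mem hg) q).1 hq
      simpa using this
    have h2 := hy.2 _ h1
    calc q * (g * y * g⁻¹) = g * ((g⁻¹ * q * g) * y) * g⁻¹ := by group
      _ = g * (y * (g⁻¹ * q * g)) * g⁻¹ := by rw [h2]
      _ = g * y * g⁻¹ * q := by group
  have comm : ∀ u ∈ Z, ∀ w ∈ Z, u * w = w * u := fun u hu w hw => hw.2 u hu.1
  let F : Subgroup.normalizer (P : Set G) → Z → Z := fun g y =>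
    ⟨g * y * (g : G)⁻¹, hnorm g g.2 y y.2⟩
  letI : CommGroup Z :=
    { (inferInstance : Group Z) with mul_comm := fun u w => Subtype.ext (comm u u.2 w w.2) }
  have key : ∀ c : Subgroup.normalizer (P : Set G), orderOf (c : G) = 3 → ∀ y : Z,
      (y * (F c y * F (c * c) y) : Z) = 1 := by
    intro c hc y
    have hc3 : (c : G) * c * c = 1 := by
      rw [← pow_orderOf_eq_one (c : G), hc, pow_succ, pow_two]
    set m : Z := y * (F c y * F (c * c) y) with hm
    have hfix : F c m = m := by
      have h3 : F c (F (c * c) y) = y := Subtype.ext (by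
        show (c : G) * ((c : G) * c * y * ((c : G) * c)⁻¹) * (c : G)⁻¹ = y
        calc _ = ((c : G) * c * c) * y * ((c : G) * c * c)⁻¹ := by group
          _ = y := by rw [hc3]; simp)
      have h2 : F c (F c y) = F (c * c) y := Subtype.ext (by
        show (c : G) * ((c : G) * y * (c : G)⁻¹) * (c : G)⁻¹ =
          (c : G) * c * y * ((c : G) * c)⁻¹
        group)
      have hmul : ∀ u w : Z, F c (u * w) = F c u * F c w := fun u w => Subtype.ext (by
        show (c : G) * ((u : G) * w) * (c : G)⁻¹ = _ * _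
        simp [F, mul_assoc])
      rw [hm, hmul, hmul, h2, h3]
      rw [mul_comm (F (c * c) y) y, ← mul_assoc, mul_comm (F c y) y, mul_assoc]
    have hcomm : Commute (c : G) (m : G) := by
      have := congrArg Subtype.val hfix
      show (c : G) * m = m * c
      calc (c : G) * m = (c : G) * m * (c : G)⁻¹ * c := by group
        _ = m * c := by rw [show (c : G) * (m : G) * (c : G)⁻¹ = m from this]
    have hc1 : (c : G) ≠ 1 := fun e => by rw [e, orderOf_one] at hc; omega
    refine Subtype.ext (hG.eq_one_of_commute hcomm hc1 ?_)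
    obtain ⟨k, hk⟩ := hP.exists_orderOf_eq_pow ⟨m, m.2.1⟩
    rw [Subgroup.orderOf_mk] at hk
    rw [hc, hk]
    exact Nat.Coprime.pow_right _ (by norm_num)
  let α : Subgroup.normalizer (P : Set G) := ⟨a, hna⟩
  let β : Subgroup.normalizer (P : Set G) := ⟨b, hnb⟩
  have hFF : ∀ g h y, F g (F h y) = F (g * h) y := fun g h y => Subtype.ext (by
    show (g : G) * ((h : G) * y * (h : G)⁻¹) * (g : G)⁻¹ = (g : G) * h * y * ((g : G) * h)⁻¹
    group)
  have hFmul : ∀ g u w, F g (u * w) = F g u * F g w := fun g u w => Subtype.ext (by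
    show (g : G) * ((u : G) * w) * (g : G)⁻¹ = _ * _
    simp [F, mul_assoc])
  have hF1 : ∀ g, F g 1 = 1 := fun g => Subtype.ext (by simp [F])
  have ha3 : a * a * a = 1 := by rw [← pow_orderOf_eq_one a, ha, pow_succ, pow_two]
  have hb3 : b * b * b = 1 := by rw [← pow_orderOf_eq_one b, hb, pow_succ, pow_two]
  have : Fact (Nat.Prime 3) := ⟨Nat.prime_three⟩
  have hab' : orderOf (a * b) = 3 := by
    refine orderOf_eq_prime ?_ fun e => hne₂ (eq_inv_of_mul_eq_one_right e)
    rw [hab.mul_pow, ← ha, pow_orderOf_eq_one, ha, ← hb, pow_orderOf_eq_one, one_mul]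
  have habb : orderOf (a * (b * b)) = 3 := by
    refine orderOf_eq_prime ?_ fun e => hne ?_
    · rw [(hab.mul_right hab).mul_pow, ← ha, pow_orderOf_eq_one, ha, one_mul,
        (Commute.refl b).mul_pow, ← hb, pow_orderOf_eq_one, one_mul]
    · have h1 : b * b = a⁻¹ := eq_inv_of_mul_eq_one_right e
      have h2 : b⁻¹ = b * b := inv_eq_of_mul_eq_one_left hb3
      exact inv_injective (h2.trans h1)
  have e1 := key α ha ⟨y₀, hy₀⟩
  have e2 := key β hb ⟨y₀, hy₀⟩
  have e3 := key (α * β) hab' ⟨y₀, hy₀⟩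
  have e4 := key (α * (β * β)) habb ⟨y₀, hy₀⟩
  set y : Z := ⟨y₀, hy₀⟩
  have e5 := congrArg (F α) e2
  have e6 := congrArg (F (α * α)) e2
  simp only [hFmul, hFF, hF1] at e5 e6
  have q1 : (α * β) * (α * β) = α * α * (β * β) := Subtype.ext (by
    show a * b * (a * b) = a * a * (b * b)
    exact (hab.symm.mul_mul_mul_comm a b))
  have q2 : (α * (β * β)) * (α * (β * β)) = α * α * β := Subtype.ext (by
    show a * (b * b) * (a * (b * b)) = a * a * b
    rw [((hab.symm.mul_left hab.symm)).mul_mul_mul_comm, ← mul_assoc (b * b), hb3, one_mul])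
  rw [q1] at e3; rw [q2] at e4
  have h3 : y * y * y = 1 := by
    have hR : (y * (F α y * F (α * α) y)) * (y * (F β y * F (β * β) y)) *
        (y * (F (α * β) y * F (α * α * (β * β)) y)) *
        (y * (F (α * (β * β)) y * F (α * α * β) y)) = 1 := by
      rw [e1, e2, e3, e4]; simp
    have hL : (F α y * (F (α * β) y * F (α * (β * β)) y)) *
        (F (α * α) y * (F (α * α * β) y * F (α * α * (β * β)) y)) *
        (y * (F β y * F (β * β) y)) = 1 := by
      rw [e5, e6, e2]; simp
    rw [← hR]
    calc y * y * y = (y * y * y) * ((F α y * (F (α * β) y * F (α * (β * β)) y)) *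
        (F (α * α) y * (F (α * α * β) y * F (α * α * (β * β)) y)) *
        (y * (F β y * F (β * β) y))) := by rw [hL, mul_one]
      _ = _ := by ac_rfl
  have h3' : y₀ * y₀ * y₀ = 1 := congrArg Subtype.val h3
  obtain ⟨k, hk⟩ := hP.exists_orderOf_eq_pow ⟨y₀, hy₀.1⟩
  rw [Subgroup.orderOf_mk] at hk
  have hd : orderOf y₀ ∣ 3 := orderOf_dvd_of_pow_eq_one (by rw [pow_succ, pow_two]; exact h3')
  rcases (Nat.dvd_prime Nat.prime_three).1 hd with h | h
  · exact hy₀1 (orderOf_eq_one_iff.1 h)
  · rw [hk] at h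
    rcases k with _ | k
    · simp at h
    · omega

/-- A group of order at least nine and exponent three contains commuting independent elements. -/
theorem Spec.exists_nine (hG : Spec G) (h9 : 9 ∣ Nat.card G) :
    ∃ a b : G, orderOf a = 3 ∧ orderOf b = 3 ∧ Commute a b ∧ b ≠ a ∧ b ≠ a⁻¹ := by
  have : Fact (Nat.Prime 3) := ⟨Nat.prime_three⟩
  obtain ⟨A, hA⟩ := Sylow.exists_subgroup_card_pow_prime 3 (n := 2) (G := G) (by simpa using h9)
  have hAp : IsPGroup 3 A := IsPGroup.of_card hA
  have : Nontrivial A := Finite.one_lt_card_iff_nontrivial.1 (by rw [hA]; norm_num)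
  have hord : ∀ g : A, g ≠ 1 → orderOf (g : G) = 3 := fun g hg =>
    orderOf_eq_prime (hG.pow_eq_one_of_isPGroup (by norm_num) hAp g.2) fun e => hg (Subtype.ext e)
  obtain ⟨a, ha⟩ := exists_ne (1 : A)
  obtain ⟨b, hb⟩ : ∃ b : A, b ∉ Subgroup.zpowers a := by
    by_contra hc
    push Not at hc
    have h : Nat.card (Subgroup.zpowers a) = 9 := by
      rw [show Subgroup.zpowers a = ⊤ from eq_top_iff.2 fun g _ => hc g, Subgroup.card_top, hA]
      norm_num
    rw [Nat.card_zpowers, ← Subgroup.orderOf_coe, hord a ha] at h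
    omega
  have hcomm := (IsPGroup.isMulCommutative_of_card_eq_prime_sq (p := 3) (G := A) hA).is_comm.comm
  refine ⟨a, b, hord a ha, hord b ?_, ?_, ?_, ?_⟩
  · intro e; exact hb (e ▸ one_mem _)
  · exact congrArg Subtype.val (hcomm a b)
  · intro e; exact hb (by rw [show b = a from Subtype.ext e]; exact Subgroup.mem_zpowers a)
  · intro e; exact hb (by rw [show b = a⁻¹ from Subtype.ext e]; exact inv_mem (Subgroup.mem_zpowers a))

omit [Finite G] in
/-- A group of exponent four with at most one involution has order at most eight. -/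
theorem card_le_eight {K : Type*} [Group K] [Finite K] (h4 : ∀ g : K, g ^ 4 = 1)
    (h1 : ∀ g h : K, orderOf g = 2 → orderOf h = 2 → g = h) : Nat.card K ≤ 8 := by
  classical
  have := Fintype.ofFinite K
  by_cases hsq : ∀ g : K, g * g = 1
  · by_cases hT : ∃ g : K, g ≠ 1
    · obtain ⟨z, hz⟩ := hT
      have hsub : (Finset.univ : Finset K) ⊆ {1, z} := fun g _ => by
        by_cases hg : g = 1
        · simp [hg]
        · rw [Finset.mem_insert, Finset.mem_singleton]
          exact Or.inr (h1 g z (orderOf_eq_prime (by rw [pow_two, hsq]) hg)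
            (orderOf_eq_prime (by rw [pow_two, hsq]) hz))
      rw [Nat.card_eq_fintype_card, ← Finset.card_univ]
      exact (Finset.card_le_card hsub).trans (Finset.card_le_two.trans (by norm_num))
    · push Not at hT
      have : Subsingleton K := ⟨fun g h => (hT g).trans (hT h).symm⟩
      exact (Finite.card_le_one_iff_subsingleton.2 inferInstance).trans (by norm_num)
  push Not at hsq
  obtain ⟨a, ha⟩ := hsq
  have ha4 : a * a * (a * a) = 1 := by rw [← h4 a]; simp [pow_succ, mul_assoc]
  set z := a * a with hz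
  have hzord : orderOf z = 2 := orderOf_eq_prime (by rw [pow_two, ha4]) ha
  have hsq' : ∀ g : K, g * g = 1 ∨ g * g = z := fun g => by
    by_cases hg : g * g = 1
    · exact Or.inl hg
    · exact Or.inr (h1 _ _ (orderOf_eq_prime (by rw [← h4 g]; simp [pow_succ, mul_assoc]) hg) hzord)
  have hzc : ∀ g : K, g * z = z * g := fun g => by
    have := h1 (g * z * g⁻¹) z (by rw [← hzord]; exact (MulAut.conj g).orderOf_eq z) hzord
    calc g * z = g * z * g⁻¹ * g := by group
      _ = z * g := by rw [this]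
  -- the centralizer of `a`
  have hC : ∀ c : K, c * a = a * c → c ∈ ({1, a, a * a, a * a * a} : Finset K) := by
    intro c hc
    rcases hsq' c with e | e
    · by_cases hc1 : c = 1
      · simp [hc1]
      · simp [h1 c z (orderOf_eq_prime (by rw [pow_two, e]) hc1) hzord, hz]
    · set d := c * a⁻¹ with hd
      have hcd : c = d * a := by rw [hd, inv_mul_cancel_right]
      have hd2 : d * d = 1 := by
        have hc' : a⁻¹ * c = c * a⁻¹ := (Commute.inv_right (show Commute c a from hc)).eq.symm
        calc d * d = c * (a⁻¹ * c) * a⁻¹ := by rw [hd]; group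
          _ = (c * c) * (a * a)⁻¹ := by rw [hc']; group
          _ = 1 := by rw [e, hz, mul_inv_cancel]
      by_cases hd1 : d = 1
      · simp [hcd, hd1]
      · simp [hcd, h1 d z (orderOf_eq_prime (by rw [pow_two, hd2]) hd1) hzord, hz]
  -- every conjugate of `a` is `a` or `z * a`
  have hconj : ∀ g : K, g * a * g⁻¹ = a ∨ g * a * g⁻¹ = z * a := fun g => by
    have key : g * a * g⁻¹ * a⁻¹ = (g * a) * (g * a) * (a * a)⁻¹ * (a * (g * g)⁻¹ * a⁻¹) := by
      have h1 : ∀ t : K, t * t = 1 ∨ t * t = z := hsq'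
      have hgg : (g * g)⁻¹ * a⁻¹ = a⁻¹ * (g * g)⁻¹ := by
        rcases h1 g with e | e
        · simp [e]
        · rw [e, ← mul_inv_rev, ← mul_inv_rev, hzc a]
      calc g * a * g⁻¹ * a⁻¹ = g * a * g * ((g * g)⁻¹ * a⁻¹) := by group
        _ = g * a * g * (a⁻¹ * (g * g)⁻¹) := by rw [hgg]
        _ = g * a * (g * a) * (a * a)⁻¹ * (g * g)⁻¹ := by group
        _ = _ := by
          congr 1
          rcases h1 g with e | e
          · simp [e]
          · rw [e, (Commute.inv_right (show Commute a z from hzc a)).eq, mul_inv_cancel_right]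
    have hcen : a * (g * g)⁻¹ * a⁻¹ = (g * g)⁻¹ := by
      rcases hsq' g with e | e
      · simp [e]
      · rw [e, (Commute.inv_right (show Commute a z from hzc a)).eq, mul_inv_cancel_right]
    rw [hcen] at key
    have hzi : z⁻¹ = z := inv_eq_of_mul_eq_one_left ha4
    have hval : g * a * g⁻¹ * a⁻¹ = 1 ∨ g * a * g⁻¹ * a⁻¹ = z := by
      rw [key]
      rcases hsq' (g * a) with e | e <;> rcases hsq' g with e' | e' <;>
        simp [e, e', ← hz, hzi, ha4, mul_assoc]
    rcases hval with e | e
    · exact Or.inl (mul_inv_eq_one.1 e)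
    · exact Or.inr (mul_inv_eq_iff_eq_mul.1 e)
  by_cases hall : ∀ g : K, g * a * g⁻¹ = a
  · have hsub : (Finset.univ : Finset K) ⊆ {1, a, a * a, a * a * a} := fun g _ =>
      hC g (mul_inv_eq_iff_eq_mul.1 (hall g))
    rw [Nat.card_eq_fintype_card, ← Finset.card_univ]
    exact (Finset.card_le_card hsub).trans (Finset.card_le_four.trans (by norm_num))
  push Not at hall
  obtain ⟨h, hh⟩ := hall
  have hh' := (hconj h).resolve_left hh
  set C : Finset K := {1, a, a * a, a * a * a}
  have hsub : (Finset.univ : Finset K) ⊆ C ∪ C.image (h * ·) := fun g _ => by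
    rcases hconj g with e | e
    · exact Finset.mem_union_left _ (hC g (mul_inv_eq_iff_eq_mul.1 e))
    · refine Finset.mem_union_right _ (Finset.mem_image.2 ⟨h⁻¹ * g, hC _ ?_, mul_inv_cancel_left _ _⟩)
      have e' : h⁻¹ * (g * a * g⁻¹) * h = a := by rw [e, ← hh']; group
      calc h⁻¹ * g * a = h⁻¹ * (g * a * g⁻¹) * h * (h⁻¹ * g) := by group
        _ = a * (h⁻¹ * g) := by rw [e']
  rw [Nat.card_eq_fintype_card, ← Finset.card_univ]
  refine (Finset.card_le_card hsub).trans ((Finset.card_union_le _ _).trans ?_)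
  have h4' : C.card ≤ 4 := Finset.card_le_four
  have := Finset.card_image_le (s := C) (f := (h * ·))
  omega

end CfsgLib.Recog.EPOFive
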