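import Cfsg.Agent.Lib.Recog.EPOFive.Inverted
import Cfsg.Agent.Lib.Recog.EPOFive.Alt
import Cfsg.Agent.Lib.Invol.BrauerSuzuki
import Cfsg.Agent.Lib.Solvable.MinNormal
import Cfsg.Agent.Lib.Solvable.PCore
import Cfsg.Agent.Lib.Char.Burnside
import Cfsg.Agent.S0848
import Cfsg.Agent.S0497

/-!
The simple case: standing hypotheses and first consequences.
-/

set_option autoImplicit false

namespace CfsgLib.Recog.EPOFive

open Subgroup
open scoped commutatorElement

universe u

theorem invol_sq {G : Type*} [Group G] {a : G} (h : orderOf a = 2) : a * a = 1 := by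
  rw [← pow_two, ← h, pow_orderOf_eq_one]

theorem invol_inv {G : Type*} [Group G] {a : G} (h : orderOf a = 2) : a⁻¹ = a :=
  inv_eq_of_mul_eq_one_left (invol_sq h)

theorem invol_conj {G : Type*} [Group G] (g : G) {a : G} (h : orderOf a = 2) :
    orderOf (g * a * g⁻¹) = 2 := by
  rw [← h]; exact (MulAut.conj g).orderOf_eq a

theorem card_conj_invol {G : Type*} [Group G] [Finite G] (t : G)
    (ht : orderOf t = 2) (hcl : ∀ v : G, orderOf v = 2 → ∃ g, g * t * g⁻¹ = v) :
    Nat.card {v : G // orderOf v = 2} * Nat.card (Subgroup.centralizer ({t} : Set G)) = Nat.card G := by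
  choose c hc using fun v : {v : G // orderOf v = 2} => hcl v v.2
  let e : G ≃ {v : G // orderOf v = 2} × Subgroup.centralizer ({t} : Set G) :=
    { toFun := fun g => (⟨g * t * g⁻¹, invol_conj g ht⟩,
        ⟨(c ⟨g * t * g⁻¹, invol_conj g ht⟩)⁻¹ * g, by
          refine mem_centralizer_of_commute ?_
          have := hc ⟨g * t * g⁻¹, invol_conj g ht⟩
          set k := c ⟨g * t * g⁻¹, invol_conj g ht⟩
          show k⁻¹ * g * t = t * (k⁻¹ * g)
          calc k⁻¹ * g * t = k⁻¹ * (g * t * g⁻¹) * g := by group
            _ = k⁻¹ * (k * t * k⁻¹) * g := by rw [this]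
            _ = t * (k⁻¹ * g) := by group⟩)
      invFun := fun p => c p.1 * p.2
      left_inv := fun g => mul_inv_cancel_left _ _
      right_inv := fun p => by
        obtain ⟨v, k⟩ := p
        have hv : (⟨c v * k * t * (c v * k)⁻¹, invol_conj _ ht⟩ : {v : G // orderOf v = 2}) = v :=
          Subtype.ext (by
            show c v * k * t * (c v * k)⁻¹ = v
            rw [mul_assoc (c v), (Subgroup.mem_centralizer_singleton_iff.1 k.2), ← mul_assoc]
            rw [mul_inv_rev, mul_assoc (c v * t), mul_inv_cancel_left, hc v])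
        refine Prod.ext hv (Subtype.ext ?_)
        show (c ⟨_, _⟩)⁻¹ * (c v * k) = k
        rw [hv, inv_mul_cancel_left] }
  rw [Nat.card_congr e, Nat.card_prod]

/-- Standing hypotheses: a simple insoluble group with element orders at most five, order
divisible by nine, all of whose proper insoluble subgroups are known. -/
structure Ctx (G : Type u) [Group G] : Prop where
  spec : Spec G
  insol : ¬ Group.IsSolvable G
  nine : 9 ∣ Nat.card G
  simple : IsSimpleGroup G
  ih : ∀ H : Subgroup G, H ≠ ⊤ → ¬ Group.IsSolvable H → Concl H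

namespace Ctx

variable {G : Type u} [Group G] [Finite G]

theorem nontrivial (h : Ctx G) : Nontrivial G := h.simple.toNontrivial

theorem center_eq_bot (h : Ctx G) : Subgroup.center G = ⊥ := by
  have := h.simple
  refine (Subgroup.Normal.eq_bot_or_eq_top inferInstance).resolve_right fun e => h.insol ?_
  refine isSolvable_of_comm fun a b => ?_
  exact (Subgroup.mem_center_iff.1 (e ▸ Subgroup.mem_top b) a)

theorem perfect (h : Ctx G) : commutator G = ⊤ := by
  have := h.simple
  refine (Subgroup.Normal.eq_bot_or_eq_top inferInstance).resolve_left fun e => h.insol ?_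
  refine isSolvable_of_comm fun a b => ?_
  have : (⁅a, b⁆ : G) ∈ commutator G :=
    Subgroup.commutator_mem_commutator (Subgroup.mem_top a) (Subgroup.mem_top b)
  rw [e, Subgroup.mem_bot, commutatorElement_eq_one_iff_mul_comm] at this
  exact this

theorem normal_eq_bot (h : Ctx G) {N : Subgroup G} (hN : N.Normal) (hs : Group.IsSolvable N) :
    N = ⊥ := by
  have := h.simple
  refine hN.eq_bot_or_eq_top.resolve_right fun e => h.insol ?_
  subst e
  exact Group.isSolvable_of_surjective (f := (Subgroup.topEquiv (G := G)).toMonoidHom) Subgroup.topEquiv.surjective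

theorem pCore_two (h : Ctx G) : Cfsg.pCore 2 G = ⊥ := by
  have : Fact (Nat.Prime 2) := ⟨Nat.prime_two⟩
  have : Group.IsNilpotent (Cfsg.pCore 2 G) := (CfsgLib.Solvable.pCore_isPGroup 2).isNilpotent
  exact h.normal_eq_bot (CfsgLib.Solvable.pCore_normal 2 G) inferInstance

theorem even (h : Ctx G) : Even (Nat.card G) := by
  obtain ⟨p, u, x, -, hu, -⟩ := h.spec.exists_real h.insol
  exact even_iff_two_dvd.2 (hu ▸ orderOf_dvd_natCard u)

/-- There is a four group. -/
theorem four (h : Ctx G) :
    ∃ a b : G, orderOf a = 2 ∧ orderOf b = 2 ∧ Commute a b ∧ a ≠ b := by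
  by_contra hc
  push Not at hc
  have := h.simple
  have hrank : ∀ E : Subgroup G, ¬ IsKleinFour E := fun E hE => by
    classical
    have := hE
    have : Fintype E := Fintype.ofFinite E
    obtain ⟨a, b, ha, hb, hab⟩ : ∃ a b : E, a ≠ 1 ∧ b ≠ 1 ∧ a ≠ b := by
      have h4 : 2 < Fintype.card E := by
        rw [← Nat.card_eq_fintype_card, IsKleinFour.card_four (G := E)]; norm_num
      obtain ⟨a, ha⟩ := Fintype.exists_ne_of_one_lt_card (by omega) (1 : E)
      obtain ⟨b, hb, hba⟩ : ∃ b : E, b ≠ 1 ∧ b ≠ a := by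
        by_contra hcon
        push Not at hcon
        have hsub : (Finset.univ : Finset E) ⊆ {1, a} := fun b _ => by
          by_cases hb : b = 1
          · simp [hb]
          · simp [hcon b hb]
        have := (Finset.card_le_card hsub).trans Finset.card_le_two
        rw [Finset.card_univ] at this
        omega
      exact ⟨a, b, ha, hb, Ne.symm hba⟩
    have hord : ∀ g : E, g ≠ 1 → orderOf (g : G) = 2 := fun g hg => by
      rw [Subgroup.orderOf_coe]
      exact orderOf_eq_prime (by rw [pow_two, IsKleinFour.mul_self]) hg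
    exact hab (Subtype.ext (hc a b (hord a ha) (hord b hb) (by
      have hab' : a * b = b * a := mul_comm_of_exponent_two (IsKleinFour.exponent_two) a b
      exact congrArg Subtype.val hab')))
  obtain ⟨z, hz, hzo⟩ := CfsgLib.Invol.centralInvol G h.even hrank fun N hN hodd =>
    (hN.eq_bot_or_eq_top).resolve_right fun e => by
      rw [e, Subgroup.card_top] at hodd
      exact Nat.not_even_iff_odd.2 hodd h.even
  rw [h.center_eq_bot, Subgroup.mem_bot] at hz
  rw [hz, orderOf_one] at hzo
  all_goals omega

/-- In a dihedral group generated by two involutions with product of even order some involution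
commutes with both. -/
theorem exists_commuting {w v : G} (hw : orderOf w = 2) (hv : orderOf v = 2)
    (he : Even (orderOf (w * v))) : ∃ j : G, orderOf j = 2 ∧ Commute w j ∧ Commute v j := by
  obtain ⟨m, hm⟩ := he
  have hpos := orderOf_pos (w * v)
  set j := (w * v) ^ m with hj
  have hj2 : orderOf j = 2 := by
    rw [hj, orderOf_pow' _ (by omega), hm, show Nat.gcd (m + m) m = m from Nat.gcd_eq_right ⟨2, by ring⟩]
    exact Nat.div_eq_of_eq_mul_left (by omega) (by ring)
  have hji : j⁻¹ = j := invol_inv hj2
  refine ⟨j, hj2, ?_, ?_⟩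
  · have : w * (w * v) * w⁻¹ = (w * v)⁻¹ := by
      rw [mul_inv_rev, invol_inv hw, invol_inv hv, ← mul_assoc w w v, invol_sq hw, one_mul]
    have e : w * j * w⁻¹ = j := by rw [hj, ← conj_pow, this, inv_pow, ← hj, hji]
    exact mul_inv_eq_iff_eq_mul.1 e
  · have : v * (w * v) * v⁻¹ = (w * v)⁻¹ := by
      rw [mul_inv_rev, invol_inv hw, invol_inv hv, mul_assoc v (w * v) v, mul_assoc w v v,
        invol_sq hv, mul_one]
    have e : v * j * v⁻¹ = j := by rw [hj, ← conj_pow, this, inv_pow, ← hj, hji]
    exact mul_inv_eq_iff_eq_mul.1 e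

theorem conj_of_odd {w v : G} (hw : orderOf w = 2) (hv : orderOf v = 2)
    (ho : Odd (orderOf (w * v))) : ∃ g : G, g * w * g⁻¹ = v := by
  obtain ⟨m, hm⟩ := ho
  set d := w * v with hd
  have hd1 : d ^ (2 * m + 1) = 1 := by rw [← hm, pow_orderOf_eq_one]
  refine ⟨d ^ m, ?_⟩
  have hwd : w * (d ^ m)⁻¹ = d ^ m * w := by
    have : w * d⁻¹ * w⁻¹ = d := by
      rw [hd, mul_inv_rev, invol_inv hw, invol_inv hv, mul_assoc w (v * w) w, mul_assoc v w w,
        invol_sq hw, mul_one]
    have e : w * (d⁻¹) ^ m * w⁻¹ = d ^ m := by rw [← conj_pow, this]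
    rw [inv_pow] at e
    exact mul_inv_eq_iff_eq_mul.1 e
  calc d ^ m * w * (d ^ m)⁻¹ = d ^ (2 * m) * w := by rw [mul_assoc, hwd, ← mul_assoc, ← pow_add, two_mul]
    _ = d⁻¹ * w := by rw [eq_inv_of_mul_eq_one_left (show d ^ (2 * m) * d = 1 by rw [← pow_succ, hd1])]
    _ = v := by rw [hd, mul_inv_rev, invol_inv hw, invol_inv hv, mul_assoc, invol_sq hw, mul_one]

/-- If the centralisers of all involutions of a proper subgroup lie in it, its involutions are
conjugate in the whole group, and so are all involutions. -/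
theorem all_conj (h : Ctx G) {K : Subgroup G} (hK : K ≠ ⊤)
    (hC : ∀ t ∈ K, orderOf t = 2 → Subgroup.centralizer ({t} : Set G) ≤ K)
    {w : G} (hw : w ∈ K) (hw2 : orderOf w = 2) :
    ∀ v : G, orderOf v = 2 → ∃ g, g * w * g⁻¹ = v := by
  have := h.simple
  have hout : ∀ u : G, orderOf u = 2 → u ∉ K → ∃ g, g * w * g⁻¹ = u := by
    intro u hu hK'
    by_cases ho : Odd (orderOf (w * u))
    · exact conj_of_odd hw2 hu ho
    · exfalso
      obtain ⟨j, hj, hwj, huj⟩ := exists_commuting hw2 hu (Nat.not_odd_iff_even.1 ho)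
      have hjK : j ∈ K := hC w hw hw2 (mem_centralizer_of_commute hwj.symm)
      exact hK' (hC j hjK hj (mem_centralizer_of_commute huj))
  intro v hv
  by_cases hvK : v ∈ K
  · obtain ⟨g, hg⟩ : ∃ g, g * v * g⁻¹ ∉ K := by
      by_contra hc
      push Not at hc
      have hn : (Subgroup.normalClosure ({v} : Set G)) ≤ K := by
        rw [Subgroup.normalClosure, Subgroup.closure_le]
        intro y hy
        simp only [Group.mem_conjugatesOfSet_iff, Set.mem_singleton_iff, exists_eq_left,
          isConj_iff] at hy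
        obtain ⟨c, rfl⟩ := hy
        exact hc c
      rcases (Subgroup.normalClosure_normal (s := ({v} : Set G))).eq_bot_or_eq_top with e | e
      · have : v ∈ Subgroup.normalClosure ({v} : Set G) := Subgroup.subset_normalClosure rfl
        rw [e, Subgroup.mem_bot] at this
        rw [this, orderOf_one] at hv
        omega
      · exact hK (eq_top_iff.2 (e ▸ hn))
    obtain ⟨c, hc⟩ := hout _ (invol_conj g hv) hg
    exact ⟨g⁻¹ * c, by
      calc g⁻¹ * c * w * (g⁻¹ * c)⁻¹ = g⁻¹ * (c * w * c⁻¹) * g := by group
        _ = v := by rw [hc]; group⟩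
  · exact hout v hv hvK

/-- An involution whose centraliser is dihedral of order eight. -/
theorem of_centralizer_eight (h : Ctx G) {r s : G} (hr : orderOf r = 4) (hs : orderOf s = 2)
    (hsr : s * r * s⁻¹ = r⁻¹) (hne : ∀ i : ℕ, s ≠ r ^ i)
    (hC : ∀ g : G, g * r ^ 2 = r ^ 2 * g → ∃ i : ℕ, g = r ^ i ∨ g = s * r ^ i) :
    Nonempty (G ≃* ↥(alternatingGroup (Fin 6))) := by
  have hz : orderOf (r ^ 2) = 2 := by rw [orderOf_pow' r two_ne_zero, hr]; rfl
  have hr4 : r ^ 4 = 1 := by rw [← hr, pow_orderOf_eq_one]
  have hrs : ∀ i : ℕ, r ^ i * s = s * r ^ (3 * i) := fun i => by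
    have e : s * (r ^ i) * s⁻¹ = r ^ (3 * i) := by
      rw [← conj_pow, hsr, pow_mul, eq_inv_of_mul_eq_one_left (show r ^ 3 * r = 1 by
        rw [← pow_succ, hr4])]
    calc r ^ i * s = s * s * r ^ i * s := by rw [invol_sq hs, one_mul]
      _ = s * (s * r ^ i * s⁻¹) := by rw [invol_inv hs]; simp only [mul_assoc]
      _ = s * r ^ (3 * i) := by rw [e]
  have hmod : ∀ i : ℕ, r ^ i = r ^ (i % 4) := fun i => by
    conv_lhs => rw [← Nat.mod_add_div i 4, pow_add, pow_mul, hr4, one_pow, mul_one]
  let f : DihedralGroup 4 → G := fun d => match d with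
    | .r i => r ^ i.val
    | .sr i => s * r ^ i.val
  have hf : ∀ d e, f (d * e) = f d * f e := by
    intro d e
    rcases d with i | i <;> rcases e with j | j
    · show r ^ (i + j).val = r ^ i.val * r ^ j.val
      rw [← pow_add, hmod (i.val + j.val), ZMod.val_add]
    · show s * r ^ (j - i).val = r ^ i.val * (s * r ^ j.val)
      rw [← mul_assoc, hrs, mul_assoc, ← pow_add, hmod (3 * i.val + j.val)]
      congr 2
      revert i j; decide
    · show s * r ^ (i + j).val = s * r ^ i.val * r ^ j.val
      rw [mul_assoc, ← pow_add, hmod (i.val + j.val), ZMod.val_add]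
    · show r ^ (j - i).val = s * r ^ i.val * (s * r ^ j.val)
      rw [mul_assoc s, ← mul_assoc (r ^ i.val), hrs, ← mul_assoc, ← mul_assoc, invol_sq hs, one_mul,
        ← pow_add, hmod (3 * i.val + j.val)]
      congr 1
      revert i j; decide
  let F : DihedralGroup 4 →* G := MonoidHom.mk' f hf
  have hinj : Function.Injective F := by
    intro d e hde
    have key : ∀ i j : ZMod 4, r ^ i.val = r ^ j.val → i = j := fun i j hij => by
      refine ZMod.val_injective 4 ?_
      exact pow_injOn_Iio_orderOf (by rw [hr]; exact i.val_lt) (by rw [hr]; exact j.val_lt) hij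
    rcases d with i | i <;> rcases e with j | j
    · exact congrArg DihedralGroup.r (key i j (show r ^ i.val = r ^ j.val from hde))
    · exfalso
      apply hne (i.val + 3 * j.val)
      have h' : r ^ i.val = s * r ^ j.val := hde
      calc s = s * r ^ j.val * r ^ (3 * j.val) := by
            rw [mul_assoc, ← pow_add, show j.val + 3 * j.val = 4 * j.val by ring, pow_mul, hr4,
              one_pow, mul_one]
        _ = r ^ (i.val + 3 * j.val) := by rw [← h', ← pow_add]
    · exfalso
      apply hne (j.val + 3 * i.val)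
      have h' : s * r ^ i.val = r ^ j.val := hde
      calc s = s * r ^ i.val * r ^ (3 * i.val) := by
            rw [mul_assoc, ← pow_add, show i.val + 3 * i.val = 4 * i.val by ring, pow_mul, hr4,
              one_pow, mul_one]
        _ = r ^ (j.val + 3 * i.val) := by rw [h', ← pow_add]
    · exact congrArg DihedralGroup.sr (key i j (mul_left_cancel (show s * r ^ i.val = s * r ^ j.val from hde)))
  have hrange : F.range = Subgroup.centralizer ({r ^ 2} : Set G) := by
    ext g
    constructor
    · rintro ⟨d, rfl⟩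
      refine mem_centralizer_of_commute ?_
      rcases d with i | i
      · exact (Commute.refl r).pow_pow _ _
      · refine Commute.mul_left ?_ ((Commute.refl r).pow_pow _ _)
        show s * r ^ 2 = r ^ 2 * s
        rw [hrs 2, hmod (3 * 2)]
    · intro hg
      obtain ⟨i, e | e⟩ := hC g (Subgroup.mem_centralizer_singleton_iff.1 hg)
      · exact ⟨.r (i : ZMod 4), by
          show r ^ (i : ZMod 4).val = g
          rw [ZMod.val_natCast, ← hmod, e]⟩
      · exact ⟨.sr (i : ZMod 4), by
          show s * r ^ (i : ZMod 4).val = g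
          rw [ZMod.val_natCast, ← hmod, e]⟩
  have e := ((MonoidHom.ofInjective hinj).trans (MulEquiv.subgroupCongr hrange)).symm
  have := h.simple
  rcases Cfsg.Agent.S0848.result h.perfect (r ^ 2) hz e with hcard | hcard
  · exfalso
    have : Fact (Nat.Prime 7) := ⟨by norm_num⟩
    obtain ⟨g, hg⟩ := exists_prime_orderOf_dvd_card' (G := G) 7 (by rw [hcard]; norm_num)
    have := h.spec g
    omega
  · exact Cfsg.Agent.S0497.result hcard

end Ctx

end CfsgLib.Recog.EPOFive
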