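import Cfsg.Agent.Lib.Recog.EPOFive.LocalFacts
import Cfsg.Agent.Lib.Solvable.Gaschutz
import Cfsg.Agent.S3050
import Cfsg.Agent.S0252
import Cfsg.Agent.Lib.Classical.SLOrder

/-!
Critical groups with element orders one to five over the alternating group of degree five.
-/

set_option autoImplicit false

namespace CfsgLib.Recog.EPOFive

open Subgroup Matrix

universe u

section Orders

variable {H : Type*} [Group H] [Finite H]

/-- All five orders occur in a nonsplit-looking extension of an elementary abelian 2-group by the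
alternating group of degree five. -/
theorem Spec.range_eq (hH : Spec H) (π : H →* Alt.A5) (hπ : Function.Surjective π)
    (h2 : ∀ a ∈ π.ker, a * a = 1) (hne : π.ker ≠ ⊥) :
    Set.range (orderOf : H → ℕ) = ({1, 2, 3, 4, 5} : Set ℕ) := by
  obtain ⟨f1, f2, f3, f4, f5, f6, f7, f8, f9, f10, f11, f12, f13, f14, f15, f16⟩ := Alt.five_facts
  have : Fact (Nat.Prime 2) := ⟨Nat.prime_two⟩
  have : Fact (Nat.Prime 3) := ⟨Nat.prime_three⟩
  have : Fact (Nat.Prime 5) := ⟨Nat.prime_five⟩
  have hker : IsPGroup 2 π.ker := fun a => ⟨1, Subtype.ext (by simpa [pow_two] using h2 a a.2)⟩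
  obtain ⟨x, hx⟩ := hπ Alt.x5
  obtain ⟨f, hf⟩ := hπ Alt.f5
  have hx3 : orderOf x = 3 := hH.orderOf_lift π (Or.inl rfl) (hx ▸ orderOf_eq_prime f12 f13)
  have hf5 : orderOf f = 5 := hH.orderOf_lift π (Or.inr rfl) (hf ▸ orderOf_eq_prime f15 f16)
  obtain ⟨⟨w, hw⟩, hw'⟩ := Subgroup.ne_bot_iff_exists_ne_one.1 hne
  have hw1 : w ≠ 1 := fun e => hw' (Subtype.ext e)
  have hw2 : orderOf w = 2 := orderOf_eq_prime (by rw [pow_two, h2 w hw]) hw1
  obtain ⟨v, hv, hπv, hvx⟩ := hH.exists_inverting_lift hker π rfl hπ (orderOf_eq_prime f1 f2) f14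
    (Or.inl hx3) hx
  have hv1 : v * v = 1 := by rw [← pow_two, ← hv, pow_orderOf_eq_one]
  have hvi : v⁻¹ = v := inv_eq_of_mul_eq_one_left hv1
  -- `v` does not centralise the kernel
  obtain ⟨c, hc, hcv⟩ : ∃ c ∈ π.ker, ¬ Commute v c := by
    by_contra hcon
    push Not at hcon
    have h2' : Commute (v * (x * v * x⁻¹)) w := by
      refine (hcon w hw).mul_left ?_
      have h := hcon (x⁻¹ * w * x) (by
        rw [MonoidHom.mem_ker] at hw ⊢
        rw [map_mul, map_mul, hw, mul_one, ← map_mul, inv_mul_cancel, map_one])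
      show x * v * x⁻¹ * w = w * (x * v * x⁻¹)
      calc x * v * x⁻¹ * w = x * (v * (x⁻¹ * w * x)) * x⁻¹ := by group
        _ = w * (x * v * x⁻¹) := by rw [h.eq]; group
    have e : v * (x * v * x⁻¹) = x⁻¹ * x⁻¹ := by
      rw [hvi] at hvx
      calc v * (x * v * x⁻¹) = v * x * v * x⁻¹ := by group
        _ = x⁻¹ * x⁻¹ := by rw [hvx]
    rw [e] at h2'
    have ho : orderOf (x⁻¹ * x⁻¹) = 3 := by
      rw [← pow_two, orderOf_pow' _ two_ne_zero, orderOf_inv, hx3]; rfl
    exact hw1 (hH.eq_one_of_commute h2' (fun e' => by rw [e', orderOf_one] at ho; omega)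
      (by rw [ho, hw2]; norm_num))
  have h4 : orderOf (v * c) = 4 := by
    have hπc : π (v * c) = Alt.a5 := by rw [map_mul, hπv, MonoidHom.mem_ker.1 hc, mul_one]
    have hd : orderOf (π (v * c)) ∣ orderOf (v * c) := orderOf_map_dvd π _
    rw [hπc, orderOf_eq_prime f1 f2] at hd
    rcases hH.orderOf_cases (v * c) with e | e | e | e | e <;> rw [e] at hd <;> try omega
    exfalso
    have hsq : v * c * (v * c) = 1 := by rw [← pow_two, ← e, pow_orderOf_eq_one]
    apply hcv
    show v * c = c * v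
    have := inv_eq_of_mul_eq_one_left hsq
    rw [_root_.mul_inv_rev, hvi, inv_eq_of_mul_eq_one_left (h2 c hc)] at this
    exact this.symm
  ext n
  simp only [Set.mem_range, Set.mem_insert_iff, Set.mem_singleton_iff]
  constructor
  · rintro ⟨g, rfl⟩
    rcases hH.orderOf_cases g with e | e | e | e | e <;> omega
  · rintro (rfl | rfl | rfl | rfl | rfl)
    exacts [⟨1, orderOf_one⟩, ⟨w, hw2⟩, ⟨x, hx3⟩, ⟨v * c, h4⟩, ⟨f, hf5⟩]

end Orders

variable {G : Type u} [Group G] [Finite G]

theorem sl2_four_equiv {F : Type*} [Field F] [Fintype F] (hF : Fintype.card F = 4) :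
    Nonempty (Matrix.SpecialLinearGroup (Fin 2) F ≃* Alt.A5) := by
  obtain ⟨e⟩ := Cfsg.Agent.S0252.result hF
  have hz : Subgroup.center (Matrix.SpecialLinearGroup (Fin 2) F) = ⊥ := by
    rw [Subgroup.eq_bot_iff_card, CfsgLib.Classical.card_center_sl, Fintype.card_fin, hF]
    rfl
  exact ⟨((QuotientGroup.quotientMulEquivOfEq hz).trans QuotientGroup.quotientBot).symm.trans e⟩

/-- The affine matrix of a translation vector and a linear part. -/
def affine3 {F : Type*} [Field F] (v : Fin 2 → F) (g : Matrix (Fin 2) (Fin 2) F) :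
    Matrix (Fin 3) (Fin 3) F :=
  !![g 0 0, g 0 1, v 0; g 1 0, g 1 1, v 1; 0, 0, 1]

theorem affine3_mul {F : Type*} [Field F] (v w : Fin 2 → F) (g h : Matrix (Fin 2) (Fin 2) F) :
    affine3 v g * affine3 w h = affine3 (v + g *ᵥ w) (g * h) := by
  ext i j
  fin_cases i <;> fin_cases j <;>
    simp [affine3, Matrix.mul_apply, Fin.sum_univ_two, Fin.sum_univ_three, Matrix.mulVec, dotProduct] <;> ring

theorem det_affine3 {F : Type*} [Field F] (v : Fin 2 → F) (g : Matrix (Fin 2) (Fin 2) F) :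
    (affine3 v g).det = g.det := by
  simp [affine3, Matrix.det_fin_three, Matrix.det_fin_two]

/-- A group critical for the spectrum, with quotient the alternating group of degree five, is the
affine group. -/
theorem critical_affine (hG : Spec G)
    (hcrit : ∀ (H : Subgroup G) (N : Subgroup H) [N.Normal], (H ≠ ⊤ ∨ N ≠ ⊥) →
      Set.range (orderOf : (H ⧸ N) → ℕ) ≠ ({1, 2, 3, 4, 5} : Set ℕ))
    {W : Subgroup G} [W.Normal] (hW : Cfsg.IsElementaryAbelian 2 W) (hne : W ≠ ⊥)
    (e : G ⧸ W ≃* Alt.A5) {F : Type} [Field F] [Fintype F] (hF : Fintype.card F = 4) :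
    Nonempty (G ≃* ↥(Subgroup.closure {M : Matrix.SpecialLinearGroup (Fin 3) F |
      (M : Matrix (Fin 3) (Fin 3) F) 2 0 = 0 ∧ (M : Matrix (Fin 3) (Fin 3) F) 2 1 = 0 ∧
        (M : Matrix (Fin 3) (Fin 3) F) 2 2 = 1})) := by
  classical
  obtain ⟨hWc, hW2⟩ := hW
  have hcomm : ∀ a ∈ W, ∀ b ∈ W, a * b = b * a := fun a ha b hb =>
    congrArg Subtype.val (hWc.is_comm.comm ⟨a, ha⟩ ⟨b, hb⟩)
  have hsq : ∀ a ∈ W, a * a = 1 := fun a ha => by rw [← pow_two]; exact hW2 a ha
  let π : G →* Alt.A5 := e.toMonoidHom.comp (QuotientGroup.mk' W)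
  have hπs : Function.Surjective π := e.surjective.comp (QuotientGroup.mk'_surjective W)
  have hπk : π.ker = W := by ext g; simp [π]
  have hnorm : Subgroup.normalizer (W : Set G) = ⊤ := Subgroup.normalizer_eq_top_iff.2 inferInstance
  let L : LocA5 G :=
    { W := W
      comm := hcomm
      sq := hsq
      ne := hne
      π := π.comp (Subgroup.normalizer (W : Set G)).subtype
      surj := fun q => by
        obtain ⟨g, hg⟩ := hπs q
        exact ⟨⟨g, hnorm ▸ Subgroup.mem_top g⟩, hg⟩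
      ker := by
        ext g
        rw [Subgroup.mem_subgroupOf]
        show π (g : G) = 1 ↔ (g : G) ∈ W
        rw [← MonoidHom.mem_ker, hπk] }
  obtain ⟨Fr⟩ := L.exists_frame hG
  obtain ⟨φ⟩ := sl2_four_equiv hF
  have hfpf : ∀ q ∈ W, Fr.x * q * Fr.x⁻¹ = q → q = 1 := fun q hq hxq => by
    have hc : Commute Fr.x q := mul_inv_eq_iff_eq_mul.1 hxq
    by_contra hq1
    exact hq1 (hG.eq_one_of_commute hc (fun e' => by have := Fr.hx; rw [e', orderOf_one] at this; omega)
      (by rw [Fr.hx, L.orderOf_of_mem hq hq1]; norm_num))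
  obtain ⟨-, k, V, hV, hind, hsup⟩ := Cfsg.Agent.S3050.result W L.isPGroup 2 le_rfl F
    (by rw [hF]; rfl) (e.trans φ.symm) Fr.x Fr.hx hfpf
  have hVne : ∀ i, V i ≠ ⊥ := by
    intro i hi
    obtain ⟨-, -, ρ, ψ, -, hψs, hψk, -⟩ := (hV i).2.2
    obtain ⟨u, hu⟩ := hψs (Multiplicative.ofAdd fun _ => (1 : F))
    have hu1 : (u : G) = 1 := by
      have := u.2
      simp only [hi, Subgroup.mem_bot] at this
      exact this
    rw [(hψk u).2 (by rw [hu1]; exact one_mem _)] at hu
    have := congrFun (congrArg Multiplicative.toAdd hu) 0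
    exact one_ne_zero this.symm
  -- only one summand
  have hk1 : ∀ i j : Fin k, i = j := by
    intro i j
    by_contra hij
    have hdis : Disjoint (V i) (V j) := hind.pairwiseDisjoint hij
    obtain ⟨b, hb, hb1⟩ : ∃ b ∈ V j, b ≠ 1 := by
      obtain ⟨⟨b, hb⟩, hb'⟩ := Subgroup.ne_bot_iff_exists_ne_one.1 (hVne j)
      exact ⟨b, hb, fun e' => hb' (Subtype.ext e')⟩
    have hVn : (V i).Normal := (hV i).2.1
    set N : Subgroup (⊤ : Subgroup G) := (V i).subgroupOf ⊤ with hN
    have hNne : N ≠ ⊥ := fun e' => hVne i (by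
      rw [hN, Subgroup.subgroupOf_eq_bot] at e'
      exact disjoint_self.1 (e'.mono_right le_top))
    refine hcrit ⊤ N (Or.inr hNne) ?_
    let π' : (⊤ : Subgroup G) ⧸ N →* Alt.A5 := QuotientGroup.lift N (π.comp (⊤ : Subgroup G).subtype)
      fun a ha => by
        have h1 : (a : G) ∈ W := (hV i).1 ha
        rw [← hπk] at h1
        exact h1
    have hspec : Spec ((⊤ : Subgroup G) ⧸ N) := (hG.subgroup ⊤).quotient N
    refine hspec.range_eq π' (fun q => ?_) (fun a ha => ?_) (fun e' => ?_)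
    · obtain ⟨g, hg⟩ := hπs q
      exact ⟨QuotientGroup.mk ⟨g, Subgroup.mem_top g⟩, hg⟩
    · obtain ⟨⟨g, hg⟩, rfl⟩ := QuotientGroup.mk_surjective a
      have hgW : g ∈ W := by rw [← hπk]; exact ha
      rw [← QuotientGroup.mk_mul, ← QuotientGroup.mk_one (N := N)]
      exact congrArg _ (Subtype.ext (hsq g hgW))
    · have hbW : b ∈ W := (hV j).1 hb
      have hmem : (QuotientGroup.mk ⟨b, Subgroup.mem_top b⟩ : (⊤ : Subgroup G) ⧸ N) ∈ π'.ker := by
        show π b = 1
        rw [← MonoidHom.mem_ker, hπk]; exact hbW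
      rw [e', Subgroup.mem_bot, QuotientGroup.eq_one_iff] at hmem
      exact hb1 (Subgroup.disjoint_def.1 hdis hmem hb)
  obtain ⟨i₀⟩ : Nonempty (Fin k) := by
    by_contra hc
    rw [not_nonempty_iff] at hc
    exact hne (by rw [← hsup, iSup_of_empty])
  have hV0 : V i₀ = W := by
    rw [← hsup]
    exact le_antisymm (le_iSup V i₀) (iSup_le fun j => (hk1 j i₀) ▸ le_rfl)
  obtain ⟨-, -, hact⟩ := hV i₀
  rw [hV0] at hact
  obtain ⟨-, -, ρ, ψ, hρ, hψs, hψk, heq⟩ := hact
  have hψi : Function.Injective ψ := by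
    rw [injective_iff_map_eq_one]
    intro u hu
    exact Subtype.ext (Subgroup.mem_bot.1 ((hψk u).1 hu))
  let P : G →* Matrix.SpecialLinearGroup (Fin 2) F := ρ.comp (Subgroup.topEquiv (G := G)).symm.toMonoidHom
  have hPs : Function.Surjective P := (MonoidHom.range_eq_top.1 hρ).comp (Subgroup.topEquiv (G := G)).symm.surjective
  have hact' : ∀ (g : G) (u : W), Multiplicative.toAdd (ψ ⟨g * u * g⁻¹, Subgroup.Normal.conj_mem inferInstance _ u.2 g⟩) =
      (P g).1 *ᵥ Multiplicative.toAdd (ψ u) := by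
    intro g u
    obtain ⟨w, hw, hw'⟩ := heq ⟨g, Subgroup.mem_top g⟩ u
    have : w = ⟨g * u * g⁻¹, Subgroup.Normal.conj_mem inferInstance _ u.2 g⟩ := Subtype.ext hw
    rw [← this]
    exact hw'
  have hWP : ∀ w ∈ W, P w = 1 := by
    intro w hw
    apply Subtype.ext
    refine Matrix.ext_of_mulVec_single fun i => ?_
    obtain ⟨u, hu⟩ := hψs (Multiplicative.ofAdd (Pi.single i (1 : F)))
    have h1 := hact' w u
    have h2 : (⟨w * u * w⁻¹, Subgroup.Normal.conj_mem inferInstance _ u.2 w⟩ : W) = u :=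
      Subtype.ext (by show w * u * w⁻¹ = u; rw [hcomm w hw u u.2, mul_inv_cancel_right])
    rw [h2, hu] at h1
    funext j
    have h3 := congrFun h1.symm j
    simpa [Matrix.col, Matrix.one_apply, Pi.single_apply, eq_comm] using h3
  have hPW : ∀ g, P g = 1 → g ∈ W := by
    intro g hg
    have hn : (P.ker.map π).Normal := (MonoidHom.normal_ker P).map π hπs
    rcases hn.eq_bot_or_eq_top with e' | e'
    · rw [← hπk]
      exact Subgroup.mem_bot.1 (e' ▸ ⟨g, hg, rfl⟩)
    exfalso
    obtain ⟨c, hc, hcx⟩ : Alt.x5 ∈ P.ker.map π := e' ▸ Subgroup.mem_top _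
    have hc3 : orderOf c = 3 := by
      have : Fact (Nat.Prime 3) := ⟨Nat.prime_three⟩
      exact hG.orderOf_lift π (Or.inl rfl) (by
        rw [hcx]; exact orderOf_eq_prime Alt.five_facts.2.2.2.2.2.2.2.2.2.2.2.1
          Alt.five_facts.2.2.2.2.2.2.2.2.2.2.2.2.1)
    obtain ⟨w, hw, hw1⟩ := L.exists_mem
    have h1 := hact' c ⟨w, hw⟩
    rw [show P c = 1 from hc, Matrix.SpecialLinearGroup.coe_one, Matrix.one_mulVec] at h1
    have h2 : c * w * c⁻¹ = w := congrArg Subtype.val (hψi (Multiplicative.toAdd.injective h1))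
    have hcm : Commute c w := mul_inv_eq_iff_eq_mul.1 h2
    exact hw1 (hG.eq_one_of_commute hcm (fun e'' => by rw [e'', orderOf_one] at hc3; omega)
      (by rw [hc3, L.orderOf_of_mem hw hw1]; norm_num))
  -- a complement
  have hWc' : IsMulCommutative W := hWc
  let A : Subgroup G :=
    { carrier := {g | g = 1 ∨ Fr.IsE g}
      one_mem' := Or.inl rfl
      mul_mem' := by
        rintro a b (rfl | ha) (rfl | hb)
        · exact Or.inl (one_mul 1)
        · exact Or.inr (by rwa [one_mul])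
        · exact Or.inr (by rwa [mul_one])
        · obtain ⟨hvv, hcom⟩ := Fr.v''_eq hG
          have e1 := Fr.isE_sq (Or.inl rfl)
          have e2 := Fr.isE_sq (Or.inr (Or.inl rfl))
          have e3 := Fr.isE_sq (Or.inr (Or.inr rfl))
          rcases ha with rfl | rfl | rfl <;> rcases hb with rfl | rfl | rfl <;>
            first
              | exact Or.inl e1 | exact Or.inl e2 | exact Or.inl e3
              | exact Or.inr (Or.inr (Or.inr hvv.symm))
              | exact Or.inr (Or.inr (Or.inr (hcom.symm.trans hvv.symm)))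
              | (refine Or.inr (Or.inr (Or.inl ?_)); rw [hvv, ← mul_assoc, e1, one_mul]; done)
              | (refine Or.inr (Or.inr (Or.inl ?_)); rw [hvv, hcom, mul_assoc, e1, mul_one]; done)
              | (refine Or.inr (Or.inl ?_); rw [hvv, hcom, ← mul_assoc, e2, one_mul]; done)
              | (refine Or.inr (Or.inl ?_); rw [hvv, mul_assoc, e2, mul_one]; done)
      inv_mem' := by
        rintro a (rfl | ha)
        · exact Or.inl inv_one
        · exact Or.inr (by rwa [Fr.isE_inv ha]) }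
  have hAW : A ⊓ W = ⊥ := by
    rw [Subgroup.eq_bot_iff_forall]
    rintro g ⟨rfl | hg, hgW⟩
    · rfl
    · exfalso
      obtain ⟨i, hi, hi0⟩ : ∃ i, Fr.ev i = g ∧ i ≠ 0 := by
        rcases hg with rfl | rfl | rfl
        exacts [⟨1, rfl, by decide⟩, ⟨2, rfl, by decide⟩, ⟨3, rfl, by decide⟩]
      exact hi0 (Fr.m_ev (by
        show L.m (Fr.ev i) = L.m (Fr.ev 0)
        rw [hi, L.m_of_mem (g := g) hgW]
        exact (L.m_of_mem (one_mem L.W)).symm))
  have hWA : W ⊔ A = Fr.T := by
    apply le_antisymm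
    · refine sup_le Fr.W_le_T ?_
      rintro g (rfl | hg)
      · exact one_mem _
      · exact Fr.E_le_T (Fr.isE_mem_E hG hg)
    · intro g hg
      rcases Fr.decomp hg with h | ⟨e', he', h⟩
      · exact Subgroup.mem_sup_left h
      · have : g = g * e' * e' := by rw [mul_assoc, Fr.isE_sq he', mul_one]
        rw [this]
        exact mul_mem (Subgroup.mem_sup_left h) (Subgroup.mem_sup_right (Or.inr he'))
  have hcop : (Nat.card W).Coprime Fr.T.index := by
    have : Fact (Nat.Prime 2) := ⟨Nat.prime_two⟩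
    obtain ⟨m, hm⟩ := IsPGroup.iff_card.1 L.isPGroup
    have h1 := Fr.T.index_mul_card
    rw [Fr.card_T hG] at h1
    have h2 := L.card_N
    rw [show L.N = ⊤ from hnorm, Subgroup.card_top] at h2
    have hWpos : 0 < Nat.card W := Nat.card_pos
    have h15 : Fr.T.index = 15 := by
      refine Nat.eq_of_mul_eq_mul_right (show 0 < 4 * Nat.card W by omega) ?_
      show Fr.T.index * (4 * Nat.card L.W) = 15 * (4 * Nat.card L.W)
      rw [h1, h2]; ring
    rw [show Nat.card W = Nat.card L.W from rfl, hm, h15]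
    exact Nat.Coprime.pow_left _ (by norm_num)
  obtain ⟨H, hH⟩ := CfsgLib.Solvable.gaschutz_exists Fr.W_le_T hcop hAW hWA
  have hdec : ∀ g : G, ∃ h ∈ H, g * h⁻¹ ∈ W := fun g => by
    obtain ⟨⟨⟨w, hw⟩, ⟨h, hh⟩⟩, rfl⟩ := hH.2 g
    exact ⟨h, hh, by show w * h * h⁻¹ ∈ W; rw [mul_inv_cancel_right]; exact hw⟩
  choose η hηH hηW using hdec
  have huniq : ∀ g : G, ∀ h ∈ H, g * h⁻¹ ∈ W → η g = h := by
    intro g h hh hgh
    have hd : η g * h⁻¹ ∈ W := by
      have := mul_mem (inv_mem (hηW g)) hgh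
      rwa [_root_.mul_inv_rev, inv_inv, mul_assoc, inv_mul_cancel_left] at this
    have := hH.disjoint
    exact mul_inv_eq_one.1 (Subgroup.disjoint_def.1 this hd (mul_mem (hηH g) (inv_mem hh)))
  let c : G → (Fin 2 → F) := fun g => Multiplicative.toAdd (ψ ⟨g * (η g)⁻¹, hηW g⟩)
  have hPη : ∀ g, P (η g) = P g := fun g => by
    have := hWP _ (hηW g)
    rw [map_mul, map_inv, mul_inv_eq_one] at this
    exact this.symm
  let Θ : G →* Matrix.SpecialLinearGroup (Fin 3) F :=
    MonoidHom.mk' (fun g => ⟨affine3 (c g) (P g).1, by rw [det_affine3]; exact (P g).2⟩) fun g g' => by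
      apply Subtype.ext
      show affine3 (c (g * g')) (P (g * g')).1 = affine3 (c g) (P g).1 * affine3 (c g') (P g').1
      rw [affine3_mul, map_mul]
      have hη : η (g * g') = η g * η g' := by
        refine huniq _ _ (mul_mem (hηH g) (hηH g')) ?_
        rw [show g * g' * (η g * η g')⁻¹ = (g * (η g)⁻¹) * (η g * (g' * (η g')⁻¹) * (η g)⁻¹) by group]
        exact mul_mem (hηW g) (Subgroup.Normal.conj_mem inferInstance _ (hηW g') _)
      have hc : c (g * g') = c g + (P g).1 *ᵥ c g' := by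
        show Multiplicative.toAdd (ψ _) = Multiplicative.toAdd (ψ _) + _
        rw [← hPη g, ← hact' (η g) ⟨g' * (η g')⁻¹, hηW g'⟩, ← toAdd_mul, ← map_mul]
        congr 2
        refine Subtype.ext ?_
        show g * g' * (η (g * g'))⁻¹ = g * (η g)⁻¹ * (η g * (g' * (η g')⁻¹) * (η g)⁻¹)
        rw [hη]; group
      rw [hc]
      rfl
  have hval : ∀ g, (Θ g).1 = affine3 (c g) (P g).1 := fun g => rfl
  have hΘ : Function.Injective Θ := by
    rw [injective_iff_map_eq_one]
    intro g hg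
    have h1 : affine3 (c g) (P g).1 = 1 := congrArg Subtype.val hg
    have e' : ∀ i j, affine3 (c g) (P g).1 i j = (1 : Matrix (Fin 3) (Fin 3) F) i j := fun i j => by rw [h1]
    have hP1 : P g = 1 := by
      refine Matrix.SpecialLinearGroup.ext _ _ fun i j => ?_
      fin_cases i <;> fin_cases j
      · simpa [affine3] using e' 0 0
      · simpa [affine3] using e' 0 1
      · simpa [affine3] using e' 1 0
      · simpa [affine3] using e' 1 1
    have hη1 : η g = 1 := huniq g 1 (one_mem H) (by simpa using hPW g hP1)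
    have hc0 : c g = 0 := by
      funext i
      fin_cases i
      · simpa [affine3] using e' 0 2
      · simpa [affine3] using e' 1 2
    have := congrArg Subtype.val (hψi (a₁ := ⟨g * (η g)⁻¹, hηW g⟩) (a₂ := 1) (by
      rw [map_one]; exact Multiplicative.toAdd.injective hc0))
    simpa [hη1] using this
  refine ⟨(MonoidHom.ofInjective hΘ).trans (MulEquiv.subgroupCongr ?_)⟩
  apply le_antisymm
  · rintro _ ⟨g, rfl⟩
    exact Subgroup.subset_closure ⟨by rw [hval]; simp [affine3], by rw [hval]; simp [affine3],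
      by rw [hval]; simp [affine3]⟩
  · rw [Subgroup.closure_le]
    rintro M ⟨h0, h1, h2⟩
    let m : Matrix (Fin 2) (Fin 2) F := !![M.1 0 0, M.1 0 1; M.1 1 0, M.1 1 1]
    have hm : affine3 ![M.1 0 2, M.1 1 2] m = M.1 := by
      ext i j
      fin_cases i <;> fin_cases j <;> simp [affine3, m, h0, h1, h2]
    have hdet : m.det = 1 := by
      rw [← det_affine3 ![M.1 0 2, M.1 1 2], hm]
      exact M.2
    obtain ⟨g₀, hg₀⟩ := hPs ⟨m, hdet⟩
    obtain ⟨w, hw⟩ := hψs (Multiplicative.ofAdd ![M.1 0 2, M.1 1 2])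
    refine ⟨(w : G) * η g₀, Subtype.ext ?_⟩
    rw [hval]
    have hη : η ((w : G) * η g₀) = η g₀ := huniq _ _ (hηH g₀) (by
      rw [mul_inv_cancel_right]; exact w.2)
    have hc : c ((w : G) * η g₀) = ![M.1 0 2, M.1 1 2] := by
      show Multiplicative.toAdd (ψ _) = _
      rw [show (⟨(w : G) * η g₀ * (η ((w : G) * η g₀))⁻¹, hηW _⟩ : W) = w from Subtype.ext (by
        show (w : G) * η g₀ * (η ((w : G) * η g₀))⁻¹ = w
        rw [hη, mul_inv_cancel_right]), hw]
      rfl
    rw [hc, map_mul, hWP _ w.2, one_mul, hPη, hg₀]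
    exact hm

end CfsgLib.Recog.EPOFive
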