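import Cfsg.Agent.Lib.Recog.EPOFive.Basic
import Cfsg.Agent.Lib.StructB.InvertedOdd

/-!
Elements of odd prime order inverted by involutions, in groups with element orders at most five.
-/

set_option autoImplicit false

namespace CfsgLib.Recog.EPOFive

open Subgroup

variable {G : Type*} [Group G] [Finite G]

/-- A non-soluble group has an involution inverting an element of odd prime order. -/
theorem Spec.exists_real (hG : Spec G) (hns : ¬ Group.IsSolvable G) :
    ∃ (p : ℕ) (u x : G), (p = 3 ∨ p = 5) ∧ orderOf u = 2 ∧ orderOf x = p ∧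
      u * x * u⁻¹ = x⁻¹ := by
  obtain ⟨r, x, y, hr, hr2, hx, ⟨k, hy⟩, hyx⟩ := CfsgLib.StructB.exists_inverted_odd_prime hns
  have hr35 : r = 3 ∨ r = 5 := by
    rcases hG.prime_cases hr (hx ▸ orderOf_dvd_natCard x) with h | h
    · exact absurd h hr2
    · exact h
  have hx1 : x ≠ 1 := fun e => by rw [e, orderOf_one] at hx; exact hr.ne_one hx.symm
  refine ⟨r, y, x, hr35, ?_, hx, hyx⟩
  have hk2 : k ≤ 2 := by
    have := hG y
    by_contra hc
    have : 2 ^ 3 ≤ 2 ^ k := Nat.pow_le_pow_right (by norm_num) (by omega)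
    omega
  interval_cases k
  · exfalso
    rw [pow_zero, orderOf_eq_one_iff] at hy
    rw [hy] at hyx
    simp only [one_mul, inv_one, mul_one] at hyx
    have : orderOf x ∣ 2 := orderOf_dvd_of_pow_eq_one (by rw [pow_two]; nth_rw 1 [hyx]; simp)
    rw [hx] at this
    exact hr2 ((Nat.prime_dvd_prime_iff_eq hr Nat.prime_two).1 this)
  · exact hy
  · exfalso
    have hc : Commute (y * y) x := by
      show y * y * x = x * (y * y)
      calc y * y * x = y * (y * x * y⁻¹) * y⁻¹ * (y * y) := by group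
        _ = x * (y * y) := by
          rw [hyx, show y * x⁻¹ * y⁻¹ = (y * x * y⁻¹)⁻¹ by group, hyx, inv_inv]
    have hord : orderOf (y * y) = 2 := by
      rw [← pow_two, orderOf_pow' y two_ne_zero, hy]; rfl
    refine hx1 (hG.eq_one_of_commute hc (fun e => by rw [e, orderOf_one] at hord; omega) ?_)
    rw [hord, hx]
    exact (Nat.coprime_primes Nat.prime_two hr).2 (Ne.symm hr2)

/-- An involution `u` inverting an element `x` of odd prime order `p`. -/
structure RealElt (G : Type*) [Group G] (p : ℕ) where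
  u : G
  x : G
  hu : orderOf u = 2
  hx : orderOf x = p
  inv : u * x * u⁻¹ = x⁻¹
  hp : p = 3 ∨ p = 5

namespace RealElt

variable {p : ℕ} (R : RealElt G p) (hG : Spec G)

omit [Finite G] in
include R in
theorem prime : p.Prime := by
  rcases R.hp with h | h <;> subst h <;> norm_num

omit [Finite G] in
include R in
theorem ne_two : p ≠ 2 := by rcases R.hp with h | h <;> omega

omit [Finite G] in
include R in
theorem odd : Odd p := R.prime.odd_of_ne_two R.ne_two

/-- The centraliser of the element. -/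
def P : Subgroup G := Subgroup.centralizer ({R.x} : Set G)

omit [Finite G] in
theorem x_mem : R.x ∈ R.P := mem_centralizer_of_commute (Commute.refl _)

omit [Finite G] in
theorem x_ne_one : R.x ≠ 1 := fun e => by
  have := R.hx; rw [e, orderOf_one] at this; exact R.prime.ne_one this.symm

include hG in
theorem isPGroup : IsPGroup p R.P :=
  have := Fact.mk R.prime
  hG.isPGroup_centralizer R.hx

include hG in
theorem odd_card : Odd (Nat.card R.P) := by
  have := Fact.mk R.prime
  obtain ⟨n, hn⟩ := IsPGroup.iff_card.1 (R.isPGroup hG)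
  rw [hn]; exact R.odd.pow

omit [Finite G] in
theorem u_sq : R.u * R.u = 1 := by rw [← pow_two, ← R.hu, pow_orderOf_eq_one]

omit [Finite G] in
theorem u_mem : R.u ∈ Subgroup.normalizer (R.P : Set G) := by
  refine Subgroup.mem_normalizer_iff.2 fun y => ?_
  have hui : R.u⁻¹ = R.u := inv_eq_of_mul_eq_one_left R.u_sq
  have key : ∀ y, Commute y R.x → Commute (R.u * y * R.u⁻¹) R.x := fun y hy => by
    have hc := (hy.conj R.u)
    rw [R.inv] at hc
    simpa using hc.inv_right
  constructor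
  · intro hy
    exact mem_centralizer_of_commute (key y (Subgroup.mem_centralizer_singleton_iff.1 hy))
  · intro hy
    have := key _ (Subgroup.mem_centralizer_singleton_iff.1 hy)
    refine mem_centralizer_of_commute ?_
    have e : R.u * (R.u * y * R.u⁻¹) * R.u⁻¹ = y := by
      rw [hui, show R.u * (R.u * y * R.u) * R.u = (R.u * R.u) * y * (R.u * R.u) by group, R.u_sq,
        one_mul, mul_one]
    rwa [e] at this

include hG in
theorem inverts : ∀ y ∈ R.P, R.u * y * R.u⁻¹ = y⁻¹ :=
  hG.inverts R.hu (R.odd_card hG) R.u_mem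

include hG in
theorem comm : ∀ y ∈ R.P, ∀ z ∈ R.P, y * z = z * y := by
  intro y hy z hz
  have h := R.inverts hG _ (mul_mem hy hz)
  rw [show R.u * (y * z) * R.u⁻¹ = (R.u * y * R.u⁻¹) * (R.u * z * R.u⁻¹) by group,
    R.inverts hG y hy, R.inverts hG z hz] at h
  have := congrArg Inv.inv h
  simpa [mul_inv_rev] using this.symm

include hG in
theorem u_not_mem : R.u ∉ R.P := fun h => by
  have h2 := (R.odd_card hG).of_dvd_nat (orderOf_dvd_natCard (⟨R.u, h⟩ : R.P))
  rw [Subgroup.orderOf_mk, R.hu] at h2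
  exact absurd h2 (by decide)

include hG in
theorem quotient_two (g : G) (hg : g ∈ Subgroup.normalizer (R.P : Set G)) :
    g * R.u * g⁻¹ * R.u⁻¹ ∈ R.P := by
  refine mem_centralizer_of_commute ?_
  show g * R.u * g⁻¹ * R.u⁻¹ * R.x = R.x * (g * R.u * g⁻¹ * R.u⁻¹)
  have hu' : R.u⁻¹ * R.x * R.u = R.x⁻¹ := by
    rw [show R.u⁻¹ = R.u from inv_eq_of_mul_eq_one_left R.u_sq]
    have := R.inv
    rwa [show R.u⁻¹ = R.u from inv_eq_of_mul_eq_one_left R.u_sq] at this
  have hxg : g⁻¹ * R.x⁻¹ * g ∈ R.P := by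
    have := (Subgroup.mem_normalizer_iff.1 (inv_mem hg) R.x⁻¹).1 (inv_mem R.x_mem)
    simpa using this
  have hinv2 := R.inverts hG _ hxg
  calc g * R.u * g⁻¹ * R.u⁻¹ * R.x
      = g * R.u * g⁻¹ * (R.u⁻¹ * R.x * R.u) * R.u⁻¹ := by group
    _ = g * (R.u * (g⁻¹ * R.x⁻¹ * g) * R.u⁻¹) * (R.u * g⁻¹ * R.u⁻¹) := by rw [hu']; group
    _ = g * (g⁻¹ * R.x⁻¹ * g)⁻¹ * (R.u * g⁻¹ * R.u⁻¹) := by rw [hinv2]
    _ = R.x * (g * R.u * g⁻¹ * R.u⁻¹) := by group

/-- The group `N(P)/P`. -/
abbrev Q : Type _ :=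
  ↥(Subgroup.normalizer (R.P : Set G)) ⧸ R.P.subgroupOf (Subgroup.normalizer (R.P : Set G))

include hG in
theorem isPGroup_quotient : IsPGroup 2 R.Q := by
  have hQ : Spec R.Q := (hG.subgroup _).quotient _
  set ub : R.Q := QuotientGroup.mk ⟨R.u, R.u_mem⟩ with hub
  have hub1 : ub ≠ 1 := fun e => R.u_not_mem hG (by
    rw [hub, QuotientGroup.eq_one_iff, Subgroup.mem_subgroupOf] at e; exact e)
  have hub2 : ub * ub = 1 := by
    rw [hub, ← QuotientGroup.mk_mul, show (⟨R.u, R.u_mem⟩ : Subgroup.normalizer (R.P : Set G)) *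
      ⟨R.u, R.u_mem⟩ = 1 from Subtype.ext R.u_sq]
    rfl
  have huo : orderOf ub = 2 := orderOf_eq_prime (by rw [pow_two, hub2]) hub1
  intro q
  have hc : Commute q ub := by
    obtain ⟨⟨g, hg⟩, rfl⟩ := QuotientGroup.mk_surjective q
    show QuotientGroup.mk _ * _ = _ * QuotientGroup.mk _
    rw [hub, ← QuotientGroup.mk_mul, ← QuotientGroup.mk_mul]
    refine (QuotientGroup.eq_iff_div_mem).2 ?_
    rw [Subgroup.mem_subgroupOf]
    have := R.quotient_two hG g hg
    simpa [div_eq_mul_inv, mul_assoc, mul_inv_rev] using this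
  rcases hQ.orderOf_cases q with h | h | h | h | h
  · exact ⟨0, by rw [pow_zero, pow_one]; exact orderOf_eq_one_iff.1 h⟩
  · exact ⟨1, by rw [pow_one, ← h, pow_orderOf_eq_one]⟩
  · exact absurd (hQ.eq_one_of_commute hc.symm hub1 (by rw [h, huo]; norm_num))
      fun e => by rw [e, orderOf_one] at h; omega
  · exact ⟨2, by rw [show (2 : ℕ) ^ 2 = 4 from rfl, ← h, pow_orderOf_eq_one]⟩
  · exact absurd (hQ.eq_one_of_commute hc.symm hub1 (by rw [h, huo]; norm_num))
      fun e => by rw [e, orderOf_one] at h; omega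

include hG in
/-- The centraliser is a maximal `p`-subgroup. -/
theorem eq_of_le {S : Subgroup G} (hS : IsPGroup p S) (hle : R.P ≤ S) : S = R.P := by
  have := Fact.mk R.prime
  by_contra hne
  have hlt : R.P.subgroupOf S < ⊤ := by
    rw [lt_top_iff_ne_top, Ne, Subgroup.subgroupOf_eq_top]
    exact fun h => hne (le_antisymm h hle)
  have : Group.IsNilpotent S := hS.isNilpotent
  obtain ⟨g, hgN, hgP⟩ := SetLike.exists_of_lt (Group.normalizerCondition_of_isNilpotent _ hlt)
  have hg : (g : G) ∈ Subgroup.normalizer (R.P : Set G) := by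
    refine Subgroup.mem_normalizer_fintype fun y hy => ?_
    have := (Subgroup.mem_normalizer_iff.1 hgN ⟨y, hle hy⟩).1 (Subgroup.mem_subgroupOf.2 hy)
    exact Subgroup.mem_subgroupOf.1 this
  set q : R.Q := QuotientGroup.mk ⟨g, hg⟩ with hq
  obtain ⟨a, ha⟩ := R.isPGroup_quotient hG q
  obtain ⟨b, hb⟩ := hS g
  have hb' : q ^ p ^ b = 1 := by
    rw [hq, ← QuotientGroup.mk_pow]
    have : (⟨(g : G), hg⟩ : Subgroup.normalizer (R.P : Set G)) ^ p ^ b = 1 :=
      Subtype.ext (by
        have := congrArg Subtype.val hb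
        simpa using this)
    rw [this]; rfl
  have h1 : orderOf q ∣ Nat.gcd (2 ^ a) (p ^ b) :=
    Nat.dvd_gcd (orderOf_dvd_of_pow_eq_one ha) (orderOf_dvd_of_pow_eq_one hb')
  rw [Nat.Coprime.gcd_eq_one (Nat.Coprime.pow _ _
    ((Nat.coprime_primes Nat.prime_two R.prime).2 (Ne.symm R.ne_two))), Nat.dvd_one,
    orderOf_eq_one_iff, hq, QuotientGroup.eq_one_iff, Subgroup.mem_subgroupOf] at h1
  exact hgP (Subgroup.mem_subgroupOf.2 h1)

include hG in
theorem centralizer_eq {y : G} (hy : y ∈ R.P) (hy1 : y ≠ 1) :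
    Subgroup.centralizer ({y} : Set G) = R.P := by
  have := Fact.mk R.prime
  have hyp : orderOf y = p :=
    orderOf_eq_prime (hG.pow_eq_one_of_isPGroup R.ne_two (R.isPGroup hG) hy) hy1
  refine R.eq_of_le hG (hG.isPGroup_centralizer hyp) fun z hz => ?_
  exact mem_centralizer_of_commute (R.comm hG z hz y hy)

include hG in
/-- The centraliser is a Sylow subgroup. -/
theorem exists_sylow : ∃ S : Sylow p G, (S : Subgroup G) = R.P :=
  have := Fact.mk R.prime
  let ⟨S, hS⟩ := (R.isPGroup hG).exists_le_sylow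
  ⟨S, R.eq_of_le hG S.isPGroup' hS⟩

include hG in
theorem card_P : Nat.card R.P = p ^ (Nat.card G).factorization p := by
  have := Fact.mk R.prime
  obtain ⟨S, hS⟩ := R.exists_sylow hG
  rw [← hS, Sylow.card_eq_multiplicity]

include hG in
theorem exists_conj {g : G} (hg : orderOf g = p) :
    ∃ h : G, h⁻¹ * g * h ∈ R.P ∧ h⁻¹ * g * h ≠ 1 := by
  have := Fact.mk R.prime
  obtain ⟨S, hS⟩ := R.exists_sylow hG
  obtain ⟨T, hT⟩ := (IsPGroup.of_card (n := 1) (G := Subgroup.zpowers g)
    (by rw [Nat.card_zpowers, hg, pow_one])).exists_le_sylow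
  obtain ⟨h, hh⟩ := MulAction.exists_smul_eq G S T
  refine ⟨h, ?_, fun e => ?_⟩
  · have hgT : g ∈ (T : Subgroup G) := hT (Subgroup.mem_zpowers g)
    rw [← hh, Sylow.coe_subgroup_smul, Subgroup.mem_pointwise_smul_iff_inv_smul_mem, hS] at hgT
    simpa [MulAut.conj_inv_apply] using hgT
  · have : g = 1 := by
      calc g = h * (h⁻¹ * g * h) * h⁻¹ := by group
        _ = 1 := by rw [e]; simp
    rw [this, orderOf_one] at hg
    exact R.prime.ne_one hg.symm

include hG in
theorem orderOf_mem {y : G} (hy : y ∈ R.P) (hy1 : y ≠ 1) : orderOf y = p :=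
  have := Fact.mk R.prime
  orderOf_eq_prime (hG.pow_eq_one_of_isPGroup R.ne_two (R.isPGroup hG) hy) hy1

include hG in
/-- The number of elements of order `p`. -/
theorem card_orderOf_eq :
    Nat.card {g : G // orderOf g = p} * Nat.card (Subgroup.normalizer (R.P : Set G)) =
      Nat.card G * (Nat.card R.P - 1) := by
  classical
  have := Fintype.ofFinite G
  set N := Subgroup.normalizer (R.P : Set G)
  have hcf := fun g : {g : G // orderOf g = p} => R.exists_conj hG g.2
  choose c hc hc1 using hcf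
  have hconj : ∀ (h y : G), y ∈ R.P → y ≠ 1 → ∀ g : {g : G // orderOf g = p},
      h * y * h⁻¹ = g → (c g)⁻¹ * h ∈ N := by
    intro h y hy hy1 g hg
    set k := (c g)⁻¹ * h with hk
    have hky : k * y * k⁻¹ = (c g)⁻¹ * g * c g := by rw [hk, ← hg]; group
    refine Subgroup.mem_normalizer_fintype fun z hz => ?_
    rw [← R.centralizer_eq hG (hc g) (hc1 g), SetLike.mem_coe]
    refine mem_centralizer_of_commute ?_
    rw [← hky]
    exact Commute.conj (R.comm hG z hz y hy) k
  let toF : G × {y : R.P // y ≠ 1} → {g : G // orderOf g = p} := fun hy =>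
    ⟨hy.1 * (hy.2.1 : G) * hy.1⁻¹, by
      rw [show hy.1 * (hy.2.1 : G) * hy.1⁻¹ = MulAut.conj hy.1 (hy.2.1 : G) from rfl,
        MulEquiv.orderOf_eq]
      exact R.orderOf_mem hG hy.2.1.2 fun e => hy.2.2 (Subtype.ext e)⟩
  let e : G × {y : R.P // y ≠ 1} ≃ {g : G // orderOf g = p} × N :=
    { toFun := fun hy => (toF hy, ⟨(c (toF hy))⁻¹ * hy.1,
        hconj hy.1 hy.2.1 hy.2.1.2 (fun e => hy.2.2 (Subtype.ext e)) (toF hy) rfl⟩)
      invFun := fun gk => (c gk.1 * gk.2, ⟨⟨(gk.2 : G)⁻¹ * ((c gk.1)⁻¹ * gk.1 * c gk.1) * gk.2, by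
        have := (Subgroup.mem_normalizer_iff.1 (inv_mem gk.2.2) _).1 (hc gk.1)
        rw [inv_inv] at this
        exact this⟩, fun e => hc1 gk.1 (by
          have e' : (gk.2 : G)⁻¹ * ((c gk.1)⁻¹ * gk.1 * c gk.1) * gk.2 = 1 := congrArg Subtype.val e
          calc (c gk.1)⁻¹ * gk.1 * c gk.1
              = gk.2 * ((gk.2 : G)⁻¹ * ((c gk.1)⁻¹ * gk.1 * c gk.1) * gk.2) * (gk.2 : G)⁻¹ := by group
            _ = 1 := by rw [e']; simp)⟩)
      left_inv := fun hy => by
        obtain ⟨h, ⟨⟨y, hy⟩, hy1⟩⟩ := hy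
        refine Prod.ext (mul_inv_cancel_left _ _) (Subtype.ext (Subtype.ext ?_))
        show ((c _)⁻¹ * h)⁻¹ * ((c _)⁻¹ * (h * y * h⁻¹) * c _) * ((c _)⁻¹ * h) = y
        group
      right_inv := fun gk => by
        obtain ⟨g, k⟩ := gk
        have hg : toF (c g * k, ⟨⟨(k : G)⁻¹ * ((c g)⁻¹ * g * c g) * k, by
            have := (Subgroup.mem_normalizer_iff.1 (inv_mem k.2) _).1 (hc g)
            rw [inv_inv] at this
            exact this⟩, fun e => hc1 g (by
              have e' : (k : G)⁻¹ * ((c g)⁻¹ * g * c g) * k = 1 := congrArg Subtype.val e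
              calc (c g)⁻¹ * g * c g
                  = k * ((k : G)⁻¹ * ((c g)⁻¹ * g * c g) * k) * (k : G)⁻¹ := by group
                _ = 1 := by rw [e']; simp)⟩) = g := Subtype.ext (by
          show c g * k * ((k : G)⁻¹ * ((c g)⁻¹ * g * c g) * k) * (c g * k)⁻¹ = g
          group)
        refine Prod.ext hg (Subtype.ext ?_)
        show (c (toF _))⁻¹ * (c g * k) = k
        rw [hg, inv_mul_cancel_left] }
  have h := Nat.card_congr e
  rw [Nat.card_prod, Nat.card_prod] at h
  rw [← h]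
  congr 1
  rw [Nat.card_eq_fintype_card, Nat.card_eq_fintype_card, Fintype.card_subtype_compl,
    Fintype.card_subtype_eq]

include hG in
/-- The index of the centraliser in its normaliser is two, four or eight. -/
theorem card_normalizer : ∃ e, (e = 2 ∨ e = 4 ∨ e = 8) ∧
    Nat.card (Subgroup.normalizer (R.P : Set G)) = e * Nat.card R.P := by
  set N := Subgroup.normalizer (R.P : Set G) with hN
  refine ⟨Nat.card R.Q, ?_, ?_⟩
  · have : Fact (Nat.Prime 2) := ⟨Nat.prime_two⟩
    obtain ⟨k, hk⟩ := IsPGroup.iff_card.1 (R.isPGroup_quotient hG)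
    have hQ : Spec R.Q := (hG.subgroup _).quotient _
    have h4 : ∀ q : R.Q, q ^ 4 = 1 := fun q =>
      hQ.pow_four_of_isPGroup ((R.isPGroup_quotient hG).to_subgroup ⊤) (Subgroup.mem_top q)
    have huniq : ∀ q : R.Q, orderOf q = 2 → q = QuotientGroup.mk ⟨R.u, R.u_mem⟩ := by
      intro q hq
      obtain ⟨⟨g, hg⟩, rfl⟩ := QuotientGroup.mk_surjective q
      have hgP : g ∉ R.P := fun h => by
        rw [(QuotientGroup.eq_one_iff _).2 (Subgroup.mem_subgroupOf.2 h), orderOf_one] at hq
        omega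
      have hg2 : g * g ∈ R.P := by
        have : ((⟨g, hg⟩ : N) : R.Q) ^ 2 = 1 := by rw [← hq, pow_orderOf_eq_one]
        rw [← QuotientGroup.mk_pow, QuotientGroup.eq_one_iff, Subgroup.mem_subgroupOf] at this
        simpa [pow_two] using this
      -- an involution in the coset
      have hodd : Odd (orderOf (g * g)) := (R.odd_card hG).of_dvd_nat (by
        simpa using orderOf_dvd_natCard (⟨g * g, hg2⟩ : R.P))
      obtain ⟨m, hm⟩ := hodd
      set v := g * (g * g) ^ m with hv
      have hv2 : v * v = 1 := by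
        have hc : Commute g ((g * g) ^ m) := ((Commute.refl g).mul_right (Commute.refl g)).pow_right m
        rw [hv, hc.symm.mul_mul_mul_comm, ← pow_add, ← pow_succ', ← two_mul, ← hm,
          pow_orderOf_eq_one]
      have hvN : v ∈ N := mul_mem hg (pow_mem (mul_mem hg hg) m)
      have hvP : v ∉ R.P := fun h => hgP (by
        have := mul_mem h (inv_mem (pow_mem hg2 m))
        rwa [hv, mul_inv_cancel_right] at this)
      have hvo : orderOf v = 2 :=
        orderOf_eq_prime (by rw [pow_two, hv2]) fun e => hvP (e ▸ one_mem _)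
      have hvu : R.u⁻¹ * v ∈ R.P := by
        refine mem_centralizer_of_commute ?_
        show R.u⁻¹ * v * R.x = R.x * (R.u⁻¹ * v)
        calc R.u⁻¹ * v * R.x = R.u⁻¹ * (v * R.x * v⁻¹) * R.u * (R.u⁻¹ * v) := by group
          _ = R.x * (R.u⁻¹ * v) := by
            rw [hG.inverts hvo (R.odd_card hG) hvN R.x R.x_mem, ← R.inv]; group
      refine (QuotientGroup.eq).2 (Subgroup.mem_subgroupOf.2 ?_)
      show g⁻¹ * R.u ∈ R.P
      have e : g⁻¹ * R.u = (g * g) ^ m * (R.u⁻¹ * v)⁻¹ := by rw [hv]; group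
      rw [e]
      exact mul_mem (pow_mem hg2 m) (inv_mem hvu)
    have h8 := card_le_eight h4 fun q q' hq hq' => (huniq q hq).trans (huniq q' hq').symm
    have h2 : 2 ≤ Nat.card R.Q := by
      have : Nontrivial R.Q := ⟨QuotientGroup.mk ⟨R.u, R.u_mem⟩, 1, fun e => R.u_not_mem hG (by
        rwa [QuotientGroup.eq_one_iff, Subgroup.mem_subgroupOf] at e)⟩
      exact Finite.one_lt_card
    rw [hk] at h8 h2 ⊢
    have : k ≤ 3 := by
      by_contra hc
      have : 2 ^ 4 ≤ 2 ^ k := Nat.pow_le_pow_right (by norm_num) (by omega)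
      omega
    interval_cases k <;> simp_all
  · rw [Subgroup.card_eq_card_quotient_mul_card_subgroup (R.P.subgroupOf N)]
    congr 1
    exact Nat.card_congr (Subgroup.subgroupOfEquivOfLe Subgroup.le_normalizer).toEquiv

include hG in
theorem card_inverting {y : G} (hy : y ∈ R.P) (hy1 : y ≠ 1) :
    Nat.card {v : G // orderOf v = 2 ∧ v * y * v⁻¹ = y⁻¹} = Nat.card R.P := by
  refine (Nat.card_congr
    { toFun := fun v => ⟨R.u⁻¹ * v.1, ?_⟩
      invFun := fun q => ⟨R.u * q.1, ?_, ?_⟩
      left_inv := fun v => Subtype.ext (mul_inv_cancel_left _ _)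
      right_inv := fun q => Subtype.ext (inv_mul_cancel_left _ _) })
  · rw [← R.centralizer_eq hG hy hy1]
    refine mem_centralizer_of_commute ?_
    show R.u⁻¹ * v.1 * y = y * (R.u⁻¹ * v.1)
    obtain ⟨w, -, hw⟩ := v
    calc R.u⁻¹ * w * y = R.u⁻¹ * (w * y * w⁻¹) * R.u * (R.u⁻¹ * w) := by group
      _ = y * (R.u⁻¹ * w) := by rw [hw, ← R.inverts hG y hy]; group
  · refine orderOf_eq_prime ?_ fun e => R.u_not_mem hG (by
      rw [eq_inv_of_mul_eq_one_left e]; exact inv_mem q.2)
    have := R.inverts hG q q.2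
    rw [show R.u⁻¹ = R.u from inv_eq_of_mul_eq_one_left R.u_sq] at this
    rw [pow_two, show R.u * (q : G) * (R.u * q) = (R.u * (q : G) * R.u) * q by group, this,
      inv_mul_cancel]
  · rw [show R.u * (q : G) * y * (R.u * q)⁻¹ = R.u * ((q : G) * y * (q : G)⁻¹) * R.u⁻¹ by group,
      R.comm hG q q.2 y hy, mul_inv_cancel_right]
    exact R.inverts hG y hy

end RealElt

end CfsgLib.Recog.EPOFive
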