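import Cfsg.Agent.Lib.Recog.EPOFive.Basic
import Cfsg.Agent.Lib.Recog.EPOFive.Alt

/-!
Lifting from the quotient by a normal 2-subgroup.
-/

set_option autoImplicit false

namespace CfsgLib.Recog.EPOFive

open Subgroup

variable {G : Type*} [Group G] [Finite G]

/-- A lift of an element of order three or five has the same order. -/
theorem Spec.orderOf_lift (hG : Spec G) {H : Type*} [Group H] (π : G →* H) {g : G} {p : ℕ}
    (hp : p = 3 ∨ p = 5) (hq : orderOf (π g) = p) : orderOf g = p := by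
  have h1 := orderOf_map_dvd π g
  rw [hq] at h1
  rcases hG.orderOf_cases g with h | h | h | h | h <;> rw [h] at h1 ⊢ <;>
    rcases hp with e | e <;> subst e <;> first | rfl | omega

/-- Every element of a coset of a normal 2-subgroup by an element of order three or five is conjugate to
it under that subgroup. -/
theorem Spec.exists_conj_coset (hG : Spec G) {W : Subgroup G} [W.Normal] (hW : IsPGroup 2 W)
    {y : G} (hy : orderOf y = 3 ∨ orderOf y = 5) {z : G} (hz : z * y⁻¹ ∈ W) :
    ∃ w ∈ W, w * y * w⁻¹ = z := by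
  let f : W → W := fun w => ⟨w * (y * (w : G)⁻¹ * y⁻¹),
    mul_mem w.2 (Subgroup.Normal.conj_mem inferInstance _ (inv_mem w.2) y)⟩
  have hinj : Function.Injective f := by
    intro w w' hww
    have e : (w : G) * y * (w : G)⁻¹ = w' * y * (w' : G)⁻¹ := by
      have := congrArg Subtype.val hww
      simp only [f, ← mul_assoc] at this
      exact mul_right_cancel this
    have hc : Commute y ((w' : G)⁻¹ * w) := by
      show y * ((w' : G)⁻¹ * w) = (w' : G)⁻¹ * w * y
      calc y * ((w' : G)⁻¹ * w) = (w' : G)⁻¹ * (w' * y * (w' : G)⁻¹) * w := by group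
        _ = (w' : G)⁻¹ * (w * y * (w : G)⁻¹) * w := by rw [e]
        _ = (w' : G)⁻¹ * w * y := by group
    have hy1 : y ≠ 1 := fun e => by rw [e, orderOf_one] at hy; omega
    have hmem : (w' : G)⁻¹ * w ∈ W := mul_mem (inv_mem w'.2) w.2
    have h1 : (w' : G)⁻¹ * w = 1 := by
      refine hG.eq_one_of_commute hc hy1 ?_
      obtain ⟨k, hk⟩ := hW.exists_orderOf_eq_pow ⟨_, hmem⟩
      rw [Subgroup.orderOf_mk] at hk
      rw [hk]
      rcases hy with e | e <;> rw [e] <;> exact Nat.Coprime.pow_right _ (by norm_num)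
    exact Subtype.ext (inv_mul_eq_one.1 h1).symm
  obtain ⟨w, hw⟩ := Finite.surjective_of_injective hinj ⟨z * y⁻¹, hz⟩
  refine ⟨w, w.2, mul_right_cancel (b := y⁻¹) ?_⟩
  have h2 : (f w : G) = z * y⁻¹ := congrArg Subtype.val hw
  rw [← h2]
  show (w : G) * y * (w : G)⁻¹ * y⁻¹ = w * (y * (w : G)⁻¹ * y⁻¹)
  group

/-- An element inverting, modulo a normal 2-subgroup, an element of order three or five can be chosen to
be an involution inverting it. -/
theorem Spec.exists_inverting_lift (hG : Spec G) {W : Subgroup G} [W.Normal] (hW : IsPGroup 2 W)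
    {H : Type*} [Group H] (π : G →* H) (hker : π.ker = W) (hsurj : Function.Surjective π)
    {a x : H} (ha : orderOf a = 2) (hax : a * x * a⁻¹ = x⁻¹) {y : G}
    (hy : orderOf y = 3 ∨ orderOf y = 5) (hπy : π y = x) : ∃ v : G, orderOf v = 2 ∧ π v = a ∧ v * y * v⁻¹ = y⁻¹ := by
  obtain ⟨g, rfl⟩ := hsurj a
  have hz : g * y * g⁻¹ * y⁻¹⁻¹ ∈ W := by
    rw [← hker, MonoidHom.mem_ker, inv_inv, map_mul, map_mul, map_mul, map_inv, hπy, hax,
      inv_mul_cancel]
  obtain ⟨w, hw, hwy⟩ := hG.exists_conj_coset hW (by rw [orderOf_inv]; exact hy) hz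
  set v := w⁻¹ * g with hv
  have hπv : π v = π g := by
    have h1 : π w = 1 := by rw [← MonoidHom.mem_ker, hker]; exact hw
    rw [hv, map_mul, map_inv, h1, inv_one, one_mul]
  have hinv : v * y * v⁻¹ = y⁻¹ := by
    calc v * y * v⁻¹ = w⁻¹ * (g * y * g⁻¹) * w := by rw [hv]; group
      _ = w⁻¹ * (w * y⁻¹ * w⁻¹) * w := by rw [hwy]
      _ = y⁻¹ := by group
  refine ⟨v, ?_, hπv, hinv⟩
  have h2 : 2 ∣ orderOf v := by rw [← ha, ← hπv]; exact orderOf_map_dvd π v
  rcases hG.orderOf_cases v with h | h | h | h | h <;> rw [h] at h2 <;> try omega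
  exfalso
  have hc : Commute (v * v) y := by
    show v * v * y = y * (v * v)
    calc v * v * y = v * (v * y * v⁻¹) * v⁻¹ * (v * v) := by group
      _ = y * (v * v) := by
        rw [hinv, show v * y⁻¹ * v⁻¹ = (v * y * v⁻¹)⁻¹ by group, hinv, inv_inv]
  have hord : orderOf (v * v) = 2 := by
    rw [← pow_two, orderOf_pow' v two_ne_zero, h]; rfl
  have hy1 : y = 1 := hG.eq_one_of_commute hc (fun e => by rw [e, orderOf_one] at hord; omega)
    (by rw [hord]; rcases hy with e | e <;> rw [e] <;> norm_num)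
  rw [hy1, orderOf_one] at hy
  omega

end CfsgLib.Recog.EPOFive
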