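import Cfsg.Agent.Lib.Recog.EPOFive.LocalEquation

/-!
Every 2-local subgroup is soluble in the simple case.
-/

set_option autoImplicit false

namespace CfsgLib.Recog.EPOFive

open Subgroup

universe u

theorem a5_normal_two {N : Subgroup Alt.A5} (hN : N.Normal) (h2 : IsPGroup 2 N) : N = ⊥ := by
  refine hN.eq_bot_or_eq_top.resolve_right fun e => ?_
  subst e
  have : Fact (Nat.Prime 2) := ⟨Nat.prime_two⟩
  obtain ⟨k, hk⟩ := IsPGroup.iff_card.1 h2
  rw [Subgroup.card_top, Alt.five_card] at hk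
  have : 3 ∣ 2 ^ k := hk ▸ (by norm_num)
  exact absurd (Nat.prime_three.dvd_of_dvd_pow this) (by norm_num)

theorem a6_normal_two {N : Subgroup Alt.A6} (hN : N.Normal) (h2 : IsPGroup 2 N) : N = ⊥ := by
  have : IsSimpleGroup Alt.A6 := alternatingGroup.isSimpleGroup (by simp)
  refine hN.eq_bot_or_eq_top.resolve_right fun e => ?_
  subst e
  have : Fact (Nat.Prime 2) := ⟨Nat.prime_two⟩
  obtain ⟨k, hk⟩ := IsPGroup.iff_card.1 h2
  rw [Subgroup.card_top, Alt.six_card] at hk
  have : 3 ∣ 2 ^ k := hk ▸ (by norm_num)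
  exact absurd (Nat.prime_three.dvd_of_dvd_pow this) (by norm_num)

namespace Ctx

variable {G : Type u} [Group G] [Finite G]

/-- A subgroup with a nontrivial normal elementary abelian 2-subgroup and quotient the
alternating group of degree five would be found in a maximal configuration, which is impossible. -/
theorem no_local (h : Ctx G) {H : Subgroup G} (hne : H ≠ ⊤) (hs : ¬ Group.IsSolvable H)
    {T : Subgroup G} (hTH : T ≤ H) (hT : IsPGroup 2 T) (hT1 : T ≠ ⊥)
    (hnorm : ∀ g ∈ H, ∀ t ∈ T, g * t * g⁻¹ ∈ T) : False := by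
  classical
  let Q : Subgroup G → Prop := fun W => W ≠ ⊥ ∧ (∀ a ∈ W, ∀ b ∈ W, a * b = b * a) ∧
    (∀ a ∈ W, a * a = 1) ∧ ¬ Group.IsSolvable (Subgroup.normalizer (W : Set G))
  -- from an insoluble proper subgroup normalising a 2-subgroup to an elementary abelian one
  have key : ∀ H : Subgroup G, H ≠ ⊤ → ¬ Group.IsSolvable H → ∀ T : Subgroup G, T ≤ H → IsPGroup 2 T →
      T ≠ ⊥ → (∀ g ∈ H, ∀ t ∈ T, g * t * g⁻¹ ∈ T) → ∃ W : Subgroup G, T ≤ W ∧ Q W ∧
        H ≤ Subgroup.normalizer (W : Set G) ∧ ∃ π : H →* Alt.A5, Function.Surjective π ∧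
          π.ker = W.subgroupOf H := by
    intro H hne hs T hTH hT hT1 hnorm
    have hTn : (T.subgroupOf H).Normal := ⟨fun t ht g => hnorm g g.2 t ht⟩
    have hT2 : IsPGroup 2 (T.subgroupOf H) := hT.of_equiv (Subgroup.subgroupOfEquivOfLe hTH).symm
    rcases h.ih H hne hs with ⟨W, hWn, ⟨hWc, hW2⟩, ⟨e⟩⟩ | ⟨⟨e⟩⟩
    · let π : H →* Alt.A5 := e.toMonoidHom.comp (QuotientGroup.mk' W)
      have hsurj : Function.Surjective π := e.surjective.comp (QuotientGroup.mk'_surjective W)
      have hker : π.ker = W := by ext g; simp [π, MonoidHom.mem_ker]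
      have hTW : T.subgroupOf H ≤ W := by
        rw [← hker, ← Subgroup.map_eq_bot_iff]
        exact a5_normal_two (hTn.map π hsurj) (hT2.map π)
      set W' := W.map H.subtype with hW'
      have hle : T ≤ W' := fun t ht => ⟨⟨t, hTH ht⟩, hTW (Subgroup.mem_subgroupOf.2 ht), rfl⟩
      have hHN : H ≤ Subgroup.normalizer (W' : Set G) := by
        intro g hg
        refine Subgroup.mem_normalizer_iff.2 fun x => ⟨?_, ?_⟩
        · rintro ⟨⟨x, hx⟩, hxW, rfl⟩
          exact ⟨⟨g, hg⟩ * ⟨x, hx⟩ * ⟨g, hg⟩⁻¹, hWn.conj_mem _ hxW _, rfl⟩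
        · rintro ⟨y, hyW, hy⟩
          refine ⟨⟨g, hg⟩⁻¹ * y * ⟨g, hg⟩, by simpa using hWn.conj_mem _ hyW (⟨g, hg⟩ : H)⁻¹, ?_⟩
          show g⁻¹ * (y : G) * g = x
          rw [show (y : G) = g * x * g⁻¹ from hy]; group
      refine ⟨W', hle, ⟨?_, ?_, ?_, ?_⟩, hHN, π, hsurj, ?_⟩
      · intro e'
        rw [e', le_bot_iff] at hle
        exact hT1 hle
      · rintro _ ⟨a, ha, rfl⟩ _ ⟨b, hb, rfl⟩
        rw [← map_mul, ← map_mul]
        exact congrArg H.subtype (congrArg Subtype.val (hWc.is_comm.comm ⟨a, ha⟩ ⟨b, hb⟩))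
      · rintro _ ⟨a, ha, rfl⟩
        rw [← map_mul, ← pow_two, hW2 a ha, map_one]
      · intro hsol
        exact hs (Group.isSolvable_of_isSolvable_injective (f := Subgroup.inclusion hHN)
          (Subgroup.inclusion_injective _))
      · rw [hker, hW', Subgroup.subgroupOf, Subgroup.comap_map_eq_self_of_injective H.subtype_injective]
    · exfalso
      apply hT1
      have := a6_normal_two (hTn.map e.toMonoidHom e.surjective) (hT2.map _)
      rw [Subgroup.map_eq_bot_iff_of_injective _ e.injective, Subgroup.subgroupOf_eq_bot] at this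
      exact disjoint_self.1 (this.mono_right hTH)
  obtain ⟨W₀, -, hW₀, -⟩ := key H hne hs T hTH hT hT1 hnorm
  have := Fintype.ofFinite (Subgroup G)
  obtain ⟨W, hW, hmax⟩ := Finset.exists_max_image (Finset.univ.filter Q)
    (fun W : Subgroup G => Nat.card W) ⟨W₀, by simp [hW₀]⟩
  rw [Finset.mem_filter] at hW
  obtain ⟨-, hW1, hWc, hW2, hWs⟩ := hW
  have hNne : Subgroup.normalizer (W : Set G) ≠ ⊤ := fun e => by
    have : W.Normal := Subgroup.normalizer_eq_top_iff.1 e
    exact hW1 (h.normal_eq_bot this (Group.isSolvable_of_comm fun a b =>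
      Subtype.ext (hWc _ a.2 _ b.2)))
  obtain ⟨W', hWW', hQ', -, π, hπ, hker⟩ := key _ hNne hWs W Subgroup.le_normalizer
    (fun g => ⟨1, Subtype.ext (by simpa [pow_two] using hW2 g g.2)⟩) hW1
    fun g hg t ht => (Subgroup.mem_normalizer_iff.1 hg t).1 ht
  have hWeq : W = W' := Subgroup.eq_of_le_of_card_ge hWW' (hmax W' (by simp [hQ']))
  subst hWeq
  let L : LocA5 G := ⟨W, hWc, hW2, hW1, π, hπ, hker⟩
  obtain ⟨F⟩ := L.exists_frame h.spec
  rcases Nat.lt_or_ge 4 (Nat.card F.Z) with hlt | hge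
  · exact F.large h hlt
  · exact F.no_four h (le_antisymm hge (F.four_le_Z h.spec))

/-- Every 2-local subgroup is soluble. -/
theorem twoLocal_solvable (h : Ctx G) {T : Subgroup G} (hT : IsPGroup 2 T) (hT1 : T ≠ ⊥) :
    Group.IsSolvable (Subgroup.normalizer (T : Set G)) := by
  by_contra hs
  refine h.no_local ?_ hs Subgroup.le_normalizer hT hT1
    fun g hg t ht => (Subgroup.mem_normalizer_iff.1 hg t).1 ht
  intro e
  have : Fact (Nat.Prime 2) := ⟨Nat.prime_two⟩
  have : T.Normal := Subgroup.normalizer_eq_top_iff.1 e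
  have : Group.IsNilpotent T := hT.isNilpotent
  exact hT1 (h.normal_eq_bot ‹T.Normal› inferInstance)

end Ctx

end CfsgLib.Recog.EPOFive
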