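import Cfsg.Agent.Lib.Recog.EPOFive.Lift
import Cfsg.Agent.Lib.Recog.EPOFive.Inverted

/-!
A normal elementary abelian 2-subgroup of a subgroup, with quotient the alternating group of
degree five, in a group with element orders at most five.
-/

set_option autoImplicit false

namespace CfsgLib.Recog.EPOFive

open Subgroup

universe u

/-- An elementary abelian 2-subgroup whose normaliser has the alternating group of degree five as
quotient. -/
structure LocA5 (G : Type u) [Group G] where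
  W : Subgroup G
  comm : ∀ a ∈ W, ∀ b ∈ W, a * b = b * a
  sq : ∀ a ∈ W, a * a = 1
  ne : W ≠ ⊥
  π : ↥(Subgroup.normalizer (W : Set G)) →* Alt.A5
  surj : Function.Surjective π
  ker : π.ker = W.subgroupOf (Subgroup.normalizer (W : Set G))

theorem cube_eq {G : Type*} [Group G] {g : G} (hg : orderOf g = 3) : g * g * g = 1 := by
  have h := pow_orderOf_eq_one g
  rw [hg] at h
  rw [← h]; simp [pow_succ, mul_assoc]

namespace LocA5

variable {G : Type u} [Group G] (L : LocA5 G)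

/-- The normaliser. -/
abbrev N : Subgroup G := Subgroup.normalizer (L.W : Set G)

theorem W_le : L.W ≤ L.N := Subgroup.le_normalizer

open Classical in
/-- The quotient map, extended by one. -/
noncomputable def m (g : G) : Alt.A5 := if h : g ∈ L.N then L.π ⟨g, h⟩ else 1

theorem m_eq {g : G} (hg : g ∈ L.N) : L.m g = L.π ⟨g, hg⟩ := dif_pos hg

theorem m_mul {g k : G} (hg : g ∈ L.N) (hk : k ∈ L.N) : L.m (g * k) = L.m g * L.m k := by
  rw [L.m_eq hg, L.m_eq hk, L.m_eq (mul_mem hg hk), ← map_mul]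
  rfl

theorem m_inv {g : G} (hg : g ∈ L.N) : L.m g⁻¹ = (L.m g)⁻¹ := by
  rw [L.m_eq hg, L.m_eq (inv_mem hg), ← map_inv]
  rfl

theorem m_conj {g k : G} (hg : g ∈ L.N) (hk : k ∈ L.N) :
    L.m (g * k * g⁻¹) = L.m g * L.m k * (L.m g)⁻¹ := by
  rw [L.m_mul (mul_mem hg hk) (inv_mem hg), L.m_mul hg hk, L.m_inv hg]

theorem m_eq_one_iff {g : G} (hg : g ∈ L.N) : L.m g = 1 ↔ g ∈ L.W := by
  rw [L.m_eq hg, ← MonoidHom.mem_ker, L.ker, Subgroup.mem_subgroupOf]

theorem m_of_mem {g : G} (hg : g ∈ L.W) : L.m g = 1 := (L.m_eq_one_iff (L.W_le hg)).2 hg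

theorem exists_m (q : Alt.A5) : ∃ g ∈ L.N, L.m g = q := by
  obtain ⟨⟨g, hg⟩, hq⟩ := L.surj q
  exact ⟨g, hg, by rw [L.m_eq hg, hq]⟩

theorem conj_mem {g w : G} (hg : g ∈ L.N) (hw : w ∈ L.W) : g * w * g⁻¹ ∈ L.W :=
  (Subgroup.mem_normalizer_iff.1 hg w).1 hw

theorem inv_eq {w : G} (hw : w ∈ L.W) : w⁻¹ = w := inv_eq_of_mul_eq_one_left (L.sq w hw)

theorem isPGroup : IsPGroup 2 L.W :=
  fun g => ⟨1, Subtype.ext (by simpa [pow_two] using L.sq g g.2)⟩

theorem orderOf_of_mem {w : G} (hw : w ∈ L.W) (hw1 : w ≠ 1) : orderOf w = 2 :=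
  orderOf_eq_prime (by rw [pow_two, L.sq w hw]) hw1

theorem exists_mem : ∃ w ∈ L.W, w ≠ 1 := by
  by_contra hc
  push Not at hc
  exact L.ne (L.W.eq_bot_iff_forall.2 hc)

variable [Finite G]

theorem card_N : Nat.card L.N = 60 * Nat.card L.W := by
  rw [Subgroup.card_eq_card_quotient_mul_card_subgroup L.π.ker,
    Nat.card_congr (QuotientGroup.quotientKerEquivOfSurjective L.π L.surj).toEquiv, Alt.five_card,
    L.ker, Nat.card_congr (Subgroup.subgroupOfEquivOfLe L.W_le).toEquiv]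

theorem lift_order (hG : Spec G) {g : G} (hg : g ∈ L.N) {p : ℕ} (hp : p = 3 ∨ p = 5)
    (hq : orderOf (L.m g) = p) : orderOf g = p := by
  have := (hG.subgroup L.N).orderOf_lift L.π (g := ⟨g, hg⟩) hp (by rw [← L.m_eq hg]; exact hq)
  rwa [← Subgroup.orderOf_coe] at this

/-- A 2-subgroup of the normaliser has order at most four times that of `W`. -/
theorem card_le_of_two {T : Subgroup G} (hT : IsPGroup 2 T) (hle : T ≤ L.N) :
    Nat.card T ≤ 4 * Nat.card L.W := by
  have : Fact (Nat.Prime 2) := ⟨Nat.prime_two⟩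
  obtain ⟨k, hk⟩ := IsPGroup.iff_card.1 hT
  have hd : 2 ^ k ∣ 4 * Nat.card L.W * 15 := by
    rw [← hk, show 4 * Nat.card L.W * 15 = 60 * Nat.card L.W by ring, ← L.card_N]
    exact Subgroup.card_dvd_of_le hle
  rw [hk]
  exact Nat.le_of_dvd (by have : 0 < Nat.card L.W := Nat.card_pos; omega)
    ((Nat.Coprime.pow_left k (by norm_num)).dvd_of_dvd_mul_right hd)

/-- Chosen preimages of standard elements. -/
structure Frame (L : LocA5 G) where
  v : G
  y : G
  x : G
  vN : v ∈ L.N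
  yN : y ∈ L.N
  xN : x ∈ L.N
  mv : L.m v = Alt.a5
  my : L.m y = Alt.y5
  hv : orderOf v = 2
  hy : orderOf y = 3
  hx : orderOf x = 3
  inv : v * x * v⁻¹ = x⁻¹
  R5 : RealElt G 5

theorem exists_frame (hG : Spec G) : Nonempty L.Frame := by
  obtain ⟨f1, f2, f3, f4, f5, f6, f7, f8, f9, f10, f11, f12, f13, f14, f15, f16⟩ := Alt.five_facts
  obtain ⟨i1, i2, i3⟩ := Alt.five_inverted
  have : Fact (Nat.Prime 3) := ⟨Nat.prime_three⟩
  have : Fact (Nat.Prime 5) := ⟨Nat.prime_five⟩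
  have : Fact (Nat.Prime 2) := ⟨Nat.prime_two⟩
  have hN := hG.subgroup L.N
  have hWN : IsPGroup 2 (L.W.subgroupOf L.N) :=
    L.isPGroup.of_equiv (Subgroup.subgroupOfEquivOfLe L.W_le).symm
  obtain ⟨y, hy, hmy⟩ := L.exists_m Alt.y5
  obtain ⟨x, hx⟩ := L.surj Alt.x5
  obtain ⟨f, hf⟩ := L.surj Alt.f5
  have hx3 : orderOf x = 3 := hN.orderOf_lift L.π (Or.inl rfl) (hx ▸ orderOf_eq_prime f12 f13)
  have hf5 : orderOf f = 5 := hN.orderOf_lift L.π (Or.inr rfl) (hf ▸ orderOf_eq_prime f15 f16)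
  obtain ⟨v, hv, hmv, hvx⟩ := hN.exists_inverting_lift hWN L.π L.ker L.surj
    (orderOf_eq_prime f1 f2) f14 (Or.inl hx3) hx
  obtain ⟨t, ht, -, htf⟩ := hN.exists_inverting_lift hWN L.π L.ker L.surj
    (orderOf_eq_prime i1 i2) i3 (Or.inr hf5) hf
  exact ⟨{
    v := v
    y := y
    x := x
    vN := v.2
    yN := hy
    xN := x.2
    mv := by rw [L.m_eq v.2]; exact hmv
    my := hmy
    hv := by rw [Subgroup.orderOf_coe]; exact hv
    hy := L.lift_order hG hy (Or.inl rfl) (by rw [hmy]; exact orderOf_eq_prime f7 f8)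
    hx := by rw [Subgroup.orderOf_coe]; exact hx3
    inv := congrArg Subtype.val hvx
    R5 := ⟨(t : G), (f : G), by rw [Subgroup.orderOf_coe]; exact ht,
      by rw [Subgroup.orderOf_coe]; exact hf5, congrArg Subtype.val htf, Or.inr rfl⟩ }⟩

namespace Frame

variable {L} (F : L.Frame)

/-- The second involution. -/
def v' : G := F.y * F.v * F.y⁻¹

/-- The third involution. -/
def v'' : G := F.y * F.v' * F.y⁻¹

/-- The three involutions of the complementary four group. -/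
def IsE (e : G) : Prop := e = F.v ∨ e = F.v' ∨ e = F.v''

/-- The common centraliser in `W` of the three involutions. -/
def Z : Subgroup G := L.W ⊓ Subgroup.centralizer ({F.v} : Set G)

omit [Finite G] in
theorem v'N : F.v' ∈ L.N := mul_mem (mul_mem F.yN F.vN) (inv_mem F.yN)

omit [Finite G] in
theorem v''N : F.v'' ∈ L.N := mul_mem (mul_mem F.yN F.v'N) (inv_mem F.yN)

omit [Finite G] in
theorem isE_mem {e : G} (he : F.IsE e) : e ∈ L.N := by
  rcases he with rfl | rfl | rfl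
  exacts [F.vN, F.v'N, F.v''N]

omit [Finite G] in
theorem isE_ord {e : G} (he : F.IsE e) : orderOf e = 2 := by
  rcases he with rfl | rfl | rfl
  · exact F.hv
  · rw [← F.hv]; exact (MulAut.conj F.y).orderOf_eq _
  · rw [← F.hv]; exact ((MulAut.conj F.y).orderOf_eq _).trans ((MulAut.conj F.y).orderOf_eq _)

omit [Finite G] in
theorem isE_sq {e : G} (he : F.IsE e) : e * e = 1 := by
  rw [← pow_two, ← F.isE_ord he, pow_orderOf_eq_one]

omit [Finite G] in
theorem isE_inv {e : G} (he : F.IsE e) : e⁻¹ = e := inv_eq_of_mul_eq_one_left (F.isE_sq he)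

omit [Finite G] in
theorem mv' : L.m F.v' = Alt.b5 := by
  obtain ⟨-, -, -, -, -, -, -, -, f9, -⟩ := Alt.five_facts
  rw [v', L.m_conj F.yN F.vN, F.my, F.mv, f9]

omit [Finite G] in
theorem mv'' : L.m F.v'' = Alt.a5 * Alt.b5 := by
  obtain ⟨-, -, -, -, -, -, -, -, -, f10, -⟩ := Alt.five_facts
  rw [v'', L.m_conj F.yN F.v'N, F.my, F.mv', f10]

omit [Finite G] in
theorem y_pow : F.y * F.y * F.y = 1 := cube_eq F.hy

theorem v''_eq (hG : Spec G) : F.v'' = F.v * F.v' ∧ F.v * F.v' = F.v' * F.v := by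
  have : Fact (Nat.Prime 3) := ⟨Nat.prime_three⟩
  have h3 : orderOf (F.v * F.y) = 3 := L.lift_order hG (mul_mem F.vN F.yN) (Or.inl rfl) (by
    rw [L.m_mul F.vN F.yN, F.mv, F.my]
    exact orderOf_eq_prime Alt.five_orders.1 Alt.five_orders.2.1)
  have e : F.v * F.v' * F.v'' = 1 := by
    calc F.v * F.v' * F.v'' = F.v * F.y * (F.v * F.y) * (F.v * F.y) * (F.y * F.y * F.y)⁻¹ := by
          simp only [v'', v']; group
      _ = 1 := by rw [F.y_pow, cube_eq h3]; simp
  have h1 : F.v'' = (F.v * F.v')⁻¹ := eq_inv_of_mul_eq_one_right e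
  have h2 : F.v'' = F.v * F.v' := by
    rw [← F.isE_inv (Or.inr (Or.inr rfl)), h1, inv_inv]
  refine ⟨h2, ?_⟩
  rw [← h2, h1, mul_inv_rev, F.isE_inv (Or.inl rfl), F.isE_inv (Or.inr (Or.inl rfl))]

/-- The four conjugates of an element of `W` multiply to one. -/
theorem sum_eq (hG : Spec G) {w : G} (hw : w ∈ L.W) :
    w * (F.v * w * F.v⁻¹) * (F.v' * w * F.v'⁻¹) * (F.v'' * w * F.v''⁻¹) = 1 := by
  classical
  letI : CommGroup L.W :=
    { (inferInstance : Group L.W) with mul_comm := fun a b => Subtype.ext (L.comm a a.2 b b.2) }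
  let c : L.N → L.W → L.W := fun g a => ⟨g * a * (g : G)⁻¹, L.conj_mem g.2 a.2⟩
  have hcm : ∀ g a b, c g (a * b) = c g a * c g b := fun g a b => Subtype.ext (by
    show (g : G) * ((a : G) * b) * (g : G)⁻¹ = _ * _
    simp [c, mul_assoc])
  have hcc : ∀ g k a, c g (c k a) = c (g * k) a := fun g k a => Subtype.ext (by
    show (g : G) * ((k : G) * a * (k : G)⁻¹) * (g : G)⁻¹ = (g : G) * k * a * ((g : G) * k)⁻¹
    group)
  have hc1 : ∀ a, c 1 a = a := fun a => Subtype.ext (by simp [c])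
  have key : ∀ g : L.N, orderOf (g : G) = 3 → ∀ a : L.W, a * (c g a * c (g * g) a) = 1 := by
    intro g hg a
    have hg3 : g * g * g = 1 := Subtype.ext (by
      show (g : G) * g * g = 1
      exact cube_eq hg)
    set b : L.W := a * (c g a * c (g * g) a) with hb
    have hfix : c g b = b := by
      rw [hb, hcm, hcm, hcc, hcc, ← mul_assoc g g g, hg3, hc1]
      ac_rfl
    have hcomm : Commute (g : G) (b : G) := mul_inv_eq_iff_eq_mul.1 (congrArg Subtype.val hfix)
    have hg1 : (g : G) ≠ 1 := fun e => by rw [e, orderOf_one] at hg; omega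
    refine Subtype.ext (hG.eq_one_of_commute hcomm hg1 ?_)
    obtain ⟨k, hk⟩ := L.isPGroup.exists_orderOf_eq_pow b
    rw [← Subgroup.orderOf_coe] at hk
    rw [hg, hk]
    exact Nat.Coprime.pow_right _ (by norm_num)
  have hsq : ∀ a : L.W, a * a = 1 := fun a => Subtype.ext (L.sq a a.2)
  obtain ⟨hvv, hcom⟩ := F.v''_eq hG
  set y : L.N := ⟨F.y, F.yN⟩
  set v : L.N := ⟨F.v, F.vN⟩
  set v' : L.N := ⟨F.v', F.v'N⟩
  set v'' : L.N := ⟨F.v'', F.v''N⟩
  obtain ⟨o1, o2, o3, o4, o5, o6⟩ := Alt.five_orders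
  have : Fact (Nat.Prime 3) := ⟨Nat.prime_three⟩
  have hy : orderOf (y : G) = 3 := F.hy
  have hvy : orderOf ((v * y : L.N) : G) = 3 := L.lift_order hG (v * y).2 (Or.inl rfl) (by
    show orderOf (L.m (F.v * F.y)) = 3
    rw [L.m_mul F.vN F.yN, F.mv, F.my]; exact orderOf_eq_prime o1 o2)
  have hv'y : orderOf ((v' * y : L.N) : G) = 3 := L.lift_order hG (v' * y).2 (Or.inl rfl) (by
    show orderOf (L.m (F.v' * F.y)) = 3
    rw [L.m_mul F.v'N F.yN, F.mv', F.my]; exact orderOf_eq_prime o4 o3)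
  have hv''y : orderOf ((v'' * y : L.N) : G) = 3 := L.lift_order hG (v'' * y).2 (Or.inl rfl) (by
    show orderOf (L.m (F.v'' * F.y)) = 3
    rw [L.m_mul F.v''N F.yN, F.mv'', F.my]; exact orderOf_eq_prime o5 o6)
  have hy3 := F.y_pow
  have hsE : ∀ e, F.IsE e → e * e = 1 := fun e he => F.isE_sq he
  have q1 : v * y * (v * y) = v'' * (y * y) := Subtype.ext (by
    show F.v * F.y * (F.v * F.y) = F.v'' * (F.y * F.y)
    rw [hvv]; simp only [Frame.v']; group)
  have q2 : v' * y * (v' * y) = v * (y * y) := Subtype.ext (by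
    show F.v' * F.y * (F.v' * F.y) = F.v * (F.y * F.y)
    calc F.v' * F.y * (F.v' * F.y) = F.v' * (F.y * F.v' * F.y⁻¹) * (F.y * F.y) := by group
      _ = F.v * (F.y * F.y) := by
        rw [show F.y * F.v' * F.y⁻¹ = F.v'' from rfl, hvv, hcom, ← mul_assoc F.v',
          hsE _ (Or.inr (Or.inl rfl)), one_mul])
  have q3 : v'' * y * (v'' * y) = v' * (y * y) := Subtype.ext (by
    show F.v'' * F.y * (F.v'' * F.y) = F.v' * (F.y * F.y)
    have h : F.y * F.v'' * F.y⁻¹ = F.v := by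
      calc F.y * F.v'' * F.y⁻¹ = F.y * F.y * F.y * F.v * (F.y * F.y * F.y)⁻¹ := by
            simp only [Frame.v'', Frame.v']; group
        _ = F.v := by rw [hy3]; simp
    calc F.v'' * F.y * (F.v'' * F.y) = F.v'' * (F.y * F.v'' * F.y⁻¹) * (F.y * F.y) := by group
      _ = F.v' * (F.y * F.y) := by
        rw [h, hvv, hcom, mul_assoc F.v' F.v F.v, hsE _ (Or.inl rfl), mul_one])
  let σ : L.W → L.W := fun a => a * c v a * c v' a * c v'' a
  have hσ : ∀ a b, σ (a * b) = σ a * σ b := fun a b => by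
    simp only [σ, hcm]
    ac_rfl
  have htot : ∀ a, σ (c y a) * σ (c (y * y) a) = 1 := by
    intro a
    have k1 := key y hy a
    have k2 := key (v * y) hvy a
    have k3 := key (v' * y) hv'y a
    have k4 := key (v'' * y) hv''y a
    rw [q1] at k2; rw [q2] at k3; rw [q3] at k4
    simp only [← hcc] at k2 k3 k4 ⊢
    calc σ (c y a) * σ (c y (c y a))
        = (a * a) * (a * a) * (σ (c y a) * σ (c y (c y a))) := by rw [hsq]; simp
      _ = (a * (c y a * c y (c y a))) * (a * (c v (c y a) * c v'' (c y (c y a)))) *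
          (a * (c v' (c y a) * c v (c y (c y a)))) *
          (a * (c v'' (c y a) * c v' (c y (c y a)))) := by
            simp only [σ]; ac_rfl
      _ = 1 := by
        rw [hcc y y] at k2 k3 k4 ⊢
        rw [k1, k2, k3, k4]; simp
  have hw' : (⟨w, hw⟩ : L.W) = c y ⟨w, hw⟩ * c (y * y) ⟨w, hw⟩ := by
    have := key y hy ⟨w, hw⟩
    calc (⟨w, hw⟩ : L.W) = ⟨w, hw⟩ * (⟨w, hw⟩ * (c y ⟨w, hw⟩ * c (y * y) ⟨w, hw⟩)) := by
          rw [this, mul_one]
      _ = _ := by rw [← mul_assoc, hsq, one_mul]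
  have : σ ⟨w, hw⟩ = 1 := by rw [hw', hσ, htot]
  exact congrArg Subtype.val this

omit [Finite G] in
theorem Z_le : F.Z ≤ L.W := inf_le_left

omit [Finite G] in
theorem mem_Z {w : G} : w ∈ F.Z ↔ w ∈ L.W ∧ w * F.v = F.v * w := by
  rw [Z, Subgroup.mem_inf, Subgroup.mem_centralizer_singleton_iff]

/-- Products `w * w^v` commute with the second involution. -/
theorem delta_comm (hG : Spec G) {w : G} (hw : w ∈ L.W) :
    w * (F.v * w * F.v⁻¹) * F.v' = F.v' * (w * (F.v * w * F.v⁻¹)) := by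
  obtain ⟨hvv, hcom⟩ := F.v''_eq hG
  set d := w * (F.v * w * F.v⁻¹) with hd
  have hdW : d ∈ L.W := mul_mem hw (L.conj_mem F.vN hw)
  have e : F.v' * d * F.v'⁻¹ = F.v' * w * F.v'⁻¹ * (F.v'' * w * F.v''⁻¹) := by
    rw [hd, hvv, hcom]; group
  have h := F.sum_eq hG hw
  rw [mul_assoc (w * (F.v * w * F.v⁻¹))] at h
  rw [← e, ← hd] at h
  have : F.v' * d * F.v'⁻¹ = d := by rw [eq_inv_of_mul_eq_one_right h, L.inv_eq hdW]
  exact (mul_inv_eq_iff_eq_mul.1 this).symm

/-- The three involutions have the same centraliser in `W`, whose order is the square root of that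
of `W`. -/
theorem Z_facts (hG : Spec G) :
    Nat.card L.W = Nat.card F.Z * Nat.card F.Z ∧
    (∀ w ∈ L.W, w * F.v' = F.v' * w ↔ w * F.v = F.v * w) ∧
    (∀ w ∈ L.W, w * (F.v * w * F.v⁻¹) ∈ F.Z) ∧
    (∀ z ∈ F.Z, ∃ w ∈ L.W, w * (F.v * w * F.v⁻¹) = z) := by
  classical
  obtain ⟨hvv, hcom⟩ := F.v''_eq hG
  let δ : L.W →* L.W := MonoidHom.mk' (fun w => ⟨w * (F.v * w * F.v⁻¹),
    mul_mem w.2 (L.conj_mem F.vN w.2)⟩) fun a b => Subtype.ext (by
      show (a : G) * b * (F.v * (a * b) * F.v⁻¹) =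
        (a : G) * (F.v * a * F.v⁻¹) * (b * (F.v * b * F.v⁻¹))
      have hc : (b : G) * (F.v * a * F.v⁻¹) = F.v * a * F.v⁻¹ * b :=
        L.comm _ b.2 _ (L.conj_mem F.vN a.2)
      calc (a : G) * b * (F.v * (a * b) * F.v⁻¹) = a * (b * (F.v * a * F.v⁻¹)) * (F.v * b * F.v⁻¹) := by
            group
        _ = a * (F.v * a * F.v⁻¹ * b) * (F.v * b * F.v⁻¹) := by rw [hc]
        _ = _ := by group)
  let K : Subgroup G := L.W ⊓ Subgroup.centralizer ({F.v} : Set G) ⊓
    Subgroup.centralizer ({F.v'} : Set G)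
  have hKZ : K ≤ F.Z := inf_le_left
  have hδv : ∀ w : L.W, (δ w : G) * F.v = F.v * (δ w : G) := fun w => by
    show (w : G) * (F.v * w * F.v⁻¹) * F.v = F.v * ((w : G) * (F.v * w * F.v⁻¹))
    have hc := L.comm _ w.2 _ (L.conj_mem F.vN w.2)
    rw [hc]
    rw [show F.v⁻¹ = F.v from F.isE_inv (Or.inl rfl)] at hc ⊢
    calc F.v * w * F.v * w * F.v = F.v * ((w : G) * (F.v * w * F.v)) := by group
      _ = F.v * (F.v * w * F.v * w) := by rw [hc]
  have hrange : (δ.range.map L.W.subtype) ≤ K := by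
    rintro _ ⟨_, ⟨w, rfl⟩, rfl⟩
    exact ⟨⟨(δ w).2, Subgroup.mem_centralizer_singleton_iff.2 (hδv w)⟩,
      Subgroup.mem_centralizer_singleton_iff.2 (F.delta_comm hG w.2)⟩
  have hker : Nat.card δ.ker = Nat.card F.Z := Nat.card_congr
    { toFun := fun a => ⟨a.1, F.mem_Z.2 ⟨a.1.2, by
        have h : (a.1 : G) * (F.v * a.1 * F.v⁻¹) = 1 := congrArg Subtype.val a.2
        have h' := eq_inv_of_mul_eq_one_right h
        rw [L.inv_eq a.1.2] at h'
        exact (mul_inv_eq_iff_eq_mul.1 h').symm⟩⟩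
      invFun := fun z => ⟨⟨z, F.Z_le z.2⟩, Subtype.ext (by
        show (z : G) * (F.v * z * F.v⁻¹) = 1
        rw [← (F.mem_Z.1 z.2).2, mul_inv_cancel_right, L.sq _ (F.Z_le z.2)])⟩
      left_inv := fun a => rfl
      right_inv := fun z => rfl }
  have hcardW : Nat.card L.W = Nat.card δ.range * Nat.card F.Z := by
    rw [Subgroup.card_eq_card_quotient_mul_card_subgroup δ.ker,
      Nat.card_congr (QuotientGroup.quotientKerEquivRange δ).toEquiv, hker]
  have h1 : Nat.card δ.range ≤ Nat.card K := by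
    exact (Nat.card_congr (Subgroup.equivMapOfInjective δ.range L.W.subtype
      L.W.subtype_injective).toEquiv).trans_le (Subgroup.card_le_of_le hrange)
  -- the lower bound
  have h2 : Nat.card F.Z * Nat.card F.Z ≤ Nat.card L.W := by
    let f : F.Z × F.Z → L.W := fun p =>
      ⟨p.1 * (F.x * p.2 * F.x⁻¹), mul_mem (F.Z_le p.1.2) (L.conj_mem F.xN (F.Z_le p.2.2))⟩
    have hf : Function.Injective f := by
      rintro ⟨a, b⟩ ⟨a', b'⟩ e
      have e' : (a : G) * (F.x * b * F.x⁻¹) = a' * (F.x * b' * F.x⁻¹) := congrArg Subtype.val e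
      set d := (a' : G)⁻¹ * a with hd
      have hdb : d = F.x * ((b' : G) * (b : G)⁻¹) * F.x⁻¹ := by
        calc d = (a' : G)⁻¹ * ((a : G) * (F.x * b * F.x⁻¹)) * (F.x * b * F.x⁻¹)⁻¹ := by
              rw [hd]; group
          _ = _ := by rw [e']; group
      have hdZ : d ∈ F.Z := mul_mem (inv_mem a'.2) a.2
      have hd1 := (F.mem_Z.1 hdZ).2
      have hd2 : d * (F.x * F.v * F.x⁻¹) = F.x * F.v * F.x⁻¹ * d := by
        have hb := (F.mem_Z.1 (mul_mem b'.2 (inv_mem b.2))).2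
        rw [hdb]
        calc F.x * ((b' : G) * (b : G)⁻¹) * F.x⁻¹ * (F.x * F.v * F.x⁻¹)
            = F.x * ((b' : G) * (b : G)⁻¹ * F.v) * F.x⁻¹ := by group
          _ = _ := by rw [hb]; group
      have hx' : F.v * (F.x * F.v * F.x⁻¹) = F.x := by
        have hi := F.inv
        rw [show F.v⁻¹ = F.v from F.isE_inv (Or.inl rfl)] at hi
        calc F.v * (F.x * F.v * F.x⁻¹) = F.v * F.x * F.v * F.x⁻¹ := by group
          _ = F.x⁻¹ * F.x⁻¹ := by rw [hi]
          _ = F.x := by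
            rw [← mul_inv_rev, inv_eq_of_mul_eq_one_right]
            exact cube_eq F.hx
      have hc : Commute F.x d := by
        show F.x * d = d * F.x
        rw [← hx', mul_assoc, ← hd2, ← mul_assoc, ← hd1, mul_assoc]
      have hx1 : F.x ≠ 1 := fun e => by have := F.hx; rw [e, orderOf_one] at this; omega
      have hone : d = 1 := by
        refine hG.eq_one_of_commute hc hx1 ?_
        obtain ⟨k, hk⟩ := L.isPGroup.exists_orderOf_eq_pow ⟨d, F.Z_le hdZ⟩
        rw [Subgroup.orderOf_mk] at hk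
        rw [F.hx, hk]
        exact Nat.Coprime.pow_right _ (by norm_num)
      have haa : (a : G) = a' := (inv_mul_eq_one.1 (hd ▸ hone)).symm
      refine Prod.ext (Subtype.ext haa) (Subtype.ext ?_)
      rw [haa] at e'
      exact mul_left_cancel (mul_right_cancel (mul_left_cancel e'))
    have := Nat.card_le_card_of_injective f hf
    rwa [Nat.card_prod] at this
  have hKle : Nat.card K ≤ Nat.card F.Z := Subgroup.card_le_of_le hKZ
  have hZpos : 0 < Nat.card F.Z := Nat.card_pos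
  have hr : Nat.card δ.range = Nat.card F.Z := by
    have : Nat.card F.Z ≤ Nat.card δ.range := by
      by_contra hc
      push Not at hc
      have := Nat.mul_lt_mul_of_pos_right hc hZpos
      omega
    omega
  have hKeq : K = F.Z := Subgroup.eq_of_le_of_card_ge hKZ (by omega)
  have hfwd : ∀ w ∈ L.W, w * F.v = F.v * w → w * F.v' = F.v' * w := fun w hw hwv => by
    have : w ∈ K := hKeq ▸ F.mem_Z.2 ⟨hw, hwv⟩
    exact Subgroup.mem_centralizer_singleton_iff.1 this.2
  refine ⟨by rw [hcardW, hr], fun w hw => ⟨fun hwv' => ?_, hfwd w hw⟩, fun w hw => ?_, fun z hz => ?_⟩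
  · -- move `w` back by `y`
    set u := F.y⁻¹ * w * F.y with hu
    have huW : u ∈ L.W := by
      have := L.conj_mem (inv_mem F.yN) hw
      rwa [inv_inv] at this
    have huv : u * F.v = F.v * u := by
      calc u * F.v = F.y⁻¹ * (w * F.v') * F.y := by rw [hu, Frame.v']; group
        _ = F.v * u := by rw [hwv', hu, Frame.v']; group
    have huv' := hfwd u huW huv
    have hwv'' : w * F.v'' = F.v'' * w := by
      calc w * F.v'' = F.y * (u * F.v') * F.y⁻¹ := by rw [hu, Frame.v'']; group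
        _ = F.v'' * w := by rw [huv', hu, Frame.v'']; group
    have e : F.v = F.v'' * F.v' := by
      rw [hvv, mul_assoc, F.isE_sq (Or.inr (Or.inl rfl)), mul_one]
    rw [e, ← mul_assoc, hwv'', mul_assoc, hwv', ← mul_assoc]
  · exact hKZ (hrange ⟨δ ⟨w, hw⟩, ⟨⟨w, hw⟩, rfl⟩, rfl⟩)
  · have heq : δ.range.map L.W.subtype = K :=
      Subgroup.eq_of_le_of_card_ge hrange (le_of_eq (by
        rw [hKeq]
        exact hr.symm.trans (Nat.card_congr (Subgroup.equivMapOfInjective δ.range L.W.subtype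
          L.W.subtype_injective).toEquiv)))
    rw [← hKeq, ← heq] at hz
    obtain ⟨_, ⟨w, rfl⟩, rfl⟩ := hz
    exact ⟨w, w.2, rfl⟩

end Frame

end LocA5

end CfsgLib.Recog.EPOFive
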