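import Cfsg.Agent.Lib.Recog.EPOFive.StrongSolvable

/-!
There is no soluble strongly embedded subgroup.
-/

set_option autoImplicit false

namespace CfsgLib.Recog.EPOFive

open Subgroup
open scoped Pointwise

universe u

theorem card_eq_primes {G : Type u} [Group G] [Finite G] (hG : Spec G) :
    Nat.card G = 2 ^ (Nat.card G).factorization 2 * 3 ^ (Nat.card G).factorization 3 *
      5 ^ (Nat.card G).factorization 5 := by
  set m := Nat.card G with hm
  have hmne : m ≠ 0 := Nat.card_pos.ne'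
  conv_lhs => rw [← Nat.prod_factorization_pow_eq_self hmne]
  rw [Finsupp.prod_of_support_subset _ (s := {2, 3, 5}) ?_ _ (fun i _ => pow_zero i)]
  · simp [mul_assoc]
  intro p hp
  rw [Nat.support_factorization] at hp
  rcases hG.prime_cases (Nat.prime_of_mem_primeFactors hp) (Nat.dvd_of_mem_primeFactors hp) with
    e | e | e <;> subst e <;> simp

theorem strong_arith {t b c : ℕ} (ht : t ≤ 8) (ht1 : 1 ≤ t) (hb : 1 ≤ b)
    (he : 3 ^ b * 5 ^ c + 2 ^ t = 2 ^ t * (2 * 3 ^ b) + 1) : False := by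
  have h2t : 2 ^ t ≤ 256 := by
    calc 2 ^ t ≤ 2 ^ 8 := Nat.pow_le_pow_right (by norm_num) ht
      _ = 256 := by norm_num
  have h2t1 : 2 ≤ 2 ^ t := by
    calc 2 = 2 ^ 1 := (pow_one 2).symm
      _ ≤ 2 ^ t := Nat.pow_le_pow_right (by norm_num) ht1
  have h3b : 3 ≤ 3 ^ b := by
    calc 3 = 3 ^ 1 := (pow_one 3).symm
      _ ≤ 3 ^ b := Nat.pow_le_pow_right (by norm_num) hb
  have hd : 3 ^ b ∣ 2 ^ t - 1 := by
    have h1 : 3 ^ b * 5 ^ c + (2 ^ t - 1) = 3 ^ b * (2 * 2 ^ t) := by
      have : 3 ^ b * (2 * 2 ^ t) = 2 ^ t * (2 * 3 ^ b) := by ring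
      omega
    exact (Nat.dvd_add_right (Dvd.intro _ rfl)).1 (h1 ▸ Dvd.intro _ rfl)
  have h3le : 3 ^ b ≤ 255 := (Nat.le_of_dvd (by omega) hd).trans (by omega)
  have hb5 : b ≤ 5 := by
    by_contra hc
    have : 3 ^ 6 ≤ 3 ^ b := Nat.pow_le_pow_right (by norm_num) (by omega)
    norm_num at this
    omega
  have h5 : 5 ^ c ≤ 512 := by
    by_contra hc
    have h1 : 3 ^ b * 513 ≤ 3 ^ b * 5 ^ c := Nat.mul_le_mul_left _ (by omega)
    have h2 : 2 ^ t * (2 * 3 ^ b) ≤ 256 * (2 * 3 ^ b) := Nat.mul_le_mul_right _ h2t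
    omega
  have hc3 : c ≤ 3 := by
    by_contra hc
    have : 5 ^ 4 ≤ 5 ^ c := Nat.pow_le_pow_right (by norm_num) (by omega)
    norm_num at this
    omega
  have key : ∀ t ≤ 8, ∀ b ≤ 5, ∀ c ≤ 3, 1 ≤ t → 1 ≤ b →
      3 ^ b * 5 ^ c + 2 ^ t ≠ 2 ^ t * (2 * 3 ^ b) + 1 := by decide +kernel
  exact key t ht b hb5 c hc3 ht1 hb he

namespace Ctx

variable {G : Type u} [Group G] [Finite G]

theorem solShape_card_T {K : Subgroup G} (h : Ctx G) (S : SolShape K) : Nat.card S.T ≤ 256 := by
  classical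
  set T := S.T
  have h4 : ∀ g ∈ T, g ^ 4 = 1 := fun g hg => h.spec.pow_four_of_isPGroup S.two hg
  -- squares are trivial or involutions of `K`, hence central
  have hsq : ∀ g ∈ T, g * g = 1 ∨ orderOf (g * g) = 2 := fun g hg => by
    by_cases hg1 : g * g = 1
    · exact Or.inl hg1
    · refine Or.inr (orderOf_eq_prime ?_ hg1)
      rw [← h4 g hg]; simp [pow_succ, mul_assoc]
  let V : Set G := {v | v ∈ T ∧ v * v = 1}
  have hVcent : ∀ v ∈ V, ∀ g ∈ T, g * v = v * g := by
    intro v ⟨hvT, hv⟩ g hg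
    by_cases hv1 : v = 1
    · simp [hv1]
    · exact (S.central v (S.hT hvT) (orderOf_eq_prime (by rw [pow_two, hv]) hv1)).2 g hg
  have hVcard : Nat.card V ≤ 4 := by
    let f : V → Option {v : G // v ∈ K ∧ orderOf v = 2} := fun v =>
      if hv : (v : G) = 1 then none else
        some ⟨v, S.hT v.2.1, orderOf_eq_prime (by rw [pow_two, v.2.2]) hv⟩
    have hf : Function.Injective f := by
      intro v w e
      by_cases hv : (v : G) = 1 <;> by_cases hw : (w : G) = 1 <;> simp [f, hv, hw] at e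
      · exact Subtype.ext (hv.trans hw.symm)
      · exact Subtype.ext e
    refine (Nat.card_le_card_of_injective f hf).trans ?_
    rw [Finite.card_option, S.card_invol]
  have hsqV : ∀ g ∈ T, g * g ∈ V := fun g hg => by
    refine ⟨mul_mem hg hg, ?_⟩
    rw [← h4 g hg]; simp [pow_succ, mul_assoc]
  have hcommV : ∀ a ∈ T, ∀ c ∈ T, c * a * c⁻¹ * a⁻¹ ∈ V := by
    intro a ha c hc
    have e : c * a * c⁻¹ * a⁻¹ = (c * a) * (c * a) * (a⁻¹ * (c⁻¹ * c⁻¹) * a) * (a⁻¹ * a⁻¹) := by group
    have hcen := hVcent _ (hsqV _ (inv_mem hc)) _ (inv_mem ha)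
    rw [hcen] at e
    rw [e, mul_assoc (c⁻¹ * c⁻¹), inv_mul_cancel, mul_one]
    have hmul : ∀ u ∈ V, ∀ w ∈ V, u * w ∈ V := fun u hu w hw => by
      refine ⟨mul_mem hu.1 hw.1, ?_⟩
      rw [mul_assoc, ← mul_assoc w u w, hVcent u hu w hw.1, mul_assoc u w w, hw.2, mul_one, hu.2]
    exact hmul _ (hmul _ (hsqV _ (mul_mem hc ha)) _ (hsqV _ (inv_mem hc))) _ (hsqV _ (inv_mem ha))
  -- the fibre bound for commutation with an element
  have key : ∀ (A : Set G), (∀ a ∈ A, a ∈ T) → ∀ a ∈ T, ∀ B : Set G,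
      (∀ c ∈ A, Commute c a → c ∈ B) → (∀ c ∈ A, ∀ d ∈ A, c⁻¹ * d ∈ A) →
      Nat.card A ≤ 4 * Nat.card B := by
    intro A hA a ha B hB hdiv
    let φ : A → V := fun c => ⟨(c : G) * a * (c : G)⁻¹ * a⁻¹, hcommV a ha c (hA c c.2)⟩
    let sel : V → A → Prop := fun v c => φ c = v
    let f : A → V × B := fun c =>
      (φ c, ⟨(Classical.choose (show ∃ c', sel (φ c) c' from ⟨c, rfl⟩) : A).1⁻¹ * c, by
        set c₀ := Classical.choose (show ∃ c', sel (φ c) c' from ⟨c, rfl⟩) with hc₀
        have hsp : φ c₀ = φ c := Classical.choose_spec (show ∃ c', sel (φ c) c' from ⟨c, rfl⟩)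
        refine hB _ (hdiv _ c₀.2 _ c.2) ?_
        have e := congrArg Subtype.val hsp
        have e' : (c₀ : G) * a * (c₀ : G)⁻¹ = c * a * (c : G)⁻¹ := mul_right_cancel e
        show (c₀ : G)⁻¹ * c * a = a * ((c₀ : G)⁻¹ * c)
        calc (c₀ : G)⁻¹ * c * a = (c₀ : G)⁻¹ * (c * a * (c : G)⁻¹) * c := by group
          _ = a * ((c₀ : G)⁻¹ * c) := by rw [← e']; group⟩)
    have hf : Function.Injective f := by
      intro c d e
      obtain ⟨e1, e2⟩ := Prod.ext_iff.1 e
      have e1' : φ c = φ d := e1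
      have e3 := congrArg Subtype.val e2
      simp only [f] at e3
      have : Classical.choose (show ∃ c', sel (φ c) c' from ⟨c, rfl⟩) =
          Classical.choose (show ∃ c', sel (φ d) c' from ⟨d, rfl⟩) := by congr!
      rw [this] at e3
      exact Subtype.ext (mul_left_cancel e3)
    refine (Nat.card_le_card_of_injective f hf).trans ?_
    rw [Nat.card_prod]
    exact Nat.mul_le_mul_right _ hVcard
  by_cases hall : ∀ g ∈ T, g ∈ V
  · refine le_trans ?_ (hVcard.trans (by norm_num))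
    exact Nat.card_le_card_of_injective (fun g : T => (⟨g, hall g g.2⟩ : V))
      fun g g' e => Subtype.ext (congrArg Subtype.val e : _)
  push Not at hall
  obtain ⟨a, ha, haV⟩ := hall
  let C₁ : Set G := {c | c ∈ T ∧ Commute c a}
  have hC₁div : ∀ c ∈ C₁, ∀ d ∈ C₁, c⁻¹ * d ∈ C₁ := fun c hc d hd =>
    ⟨mul_mem (inv_mem hc.1) hd.1, (hc.2.inv_left).mul_left hd.2⟩
  have h1 : Nat.card (T : Set G) ≤ 4 * Nat.card C₁ :=
    key (T : Set G) (fun _ h => h) a ha C₁ (fun c hc hca => ⟨hc, hca⟩)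
      fun c hc d hd => mul_mem (inv_mem hc) hd
  let A₁ : Set G := {g | ∃ v ∈ V, g = v ∨ g = v * a}
  have hA₁ : Nat.card A₁ ≤ 8 := by
    have hr : A₁ ⊆ Set.range fun p : V × Bool => if p.2 then (p.1 : G) * a else p.1 := by
      rintro g ⟨v, hv, rfl | rfl⟩
      · exact ⟨(⟨_, hv⟩, false), rfl⟩
      · exact ⟨(⟨v, hv⟩, true), rfl⟩
    refine (Nat.card_mono (Set.toFinite _) hr).trans ((Finite.card_range_le _).trans ?_)
    rw [Nat.card_prod, show Nat.card Bool = 2 by simp]
    omega
  by_cases hsmall : C₁ ⊆ A₁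
  · have h2 : Nat.card C₁ ≤ 8 := (Nat.card_mono (Set.toFinite _) hsmall).trans hA₁
    exact h1.trans (by omega)
  rw [Set.not_subset] at hsmall
  obtain ⟨b, ⟨hb, hba⟩, hbA⟩ := hsmall
  let C₂ : Set G := {c | c ∈ C₁ ∧ Commute c b}
  have h2 : Nat.card C₁ ≤ 4 * Nat.card C₂ :=
    key C₁ (fun _ h => h.1) b hb C₂ (fun c hc hcb => ⟨hc, hcb⟩) hC₁div
  let A : Set G := {g | ∃ v ∈ V, g = v ∨ g = v * a ∨ g = v * b ∨ g = v * (a * b)}
  have hA : Nat.card A ≤ 16 := by
    have hr : A ⊆ Set.range fun p : V × Fin 4 => (p.1 : G) * ![1, a, b, a * b] p.2 := by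
      rintro g ⟨v, hv, rfl | rfl | rfl | rfl⟩
      · exact ⟨(⟨g, hv⟩, 0), by simp⟩
      · exact ⟨(⟨v, hv⟩, 1), by simp⟩
      · exact ⟨(⟨v, hv⟩, 2), by simp⟩
      · exact ⟨(⟨v, hv⟩, 3), by simp⟩
    refine (Nat.card_mono (Set.toFinite _) hr).trans ((Finite.card_range_le _).trans ?_)
    rw [Nat.card_prod, Nat.card_fin]
    omega
  have hC₂ : C₂ ⊆ A := by
    intro c hc
    obtain ⟨⟨hcT, hca⟩, hcb⟩ := hc
    have hne : ∀ g ∈ T, g ∉ V → g * g ≠ 1 := fun g hg hgV e => hgV ⟨hg, e⟩
    have hbV : b ∉ V := fun hv => hbA ⟨b, hv, Or.inl rfl⟩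
    have habV : a * b ∉ V := fun hv => hbA ⟨a * b * (a * a)⁻¹, by
      refine ⟨mul_mem (mul_mem ha hb) (inv_mem (mul_mem ha ha)), ?_⟩
      have hw := hVcent _ (hsqV _ ha) _ (mul_mem ha hb)
      have hw' : Commute (a * b) (a * a)⁻¹ := (Commute.inv_right hw)
      rw [hw'.symm.mul_mul_mul_comm, hv.2, one_mul, ← mul_inv_rev, (hsqV _ ha).2, inv_one],
      Or.inr (by
        rw [mul_inv_rev, show a * b * (a⁻¹ * a⁻¹) * a = a * b * a⁻¹ by group,
          hba.eq.symm, mul_inv_cancel_right])⟩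
    -- the squares of `a`, `b`, `a * b` exhaust the involutions
    have hval : c * c = 1 ∨ c * c = a * a ∨ c * c = b * b ∨ c * c = a * b * (a * b) := by
      by_contra hcon
      push Not at hcon
      obtain ⟨c1, c2, c3, c4⟩ := hcon
      have hd12 : a * a ≠ b * b := fun e => hne _ (mul_mem ha hb) habV (by
        rw [hba.mul_mul_mul_comm, e]; exact (hsqV _ hb).2)
      have hd13 : a * a ≠ a * b * (a * b) := fun e => hne _ hb hbV (by
        rw [hba.mul_mul_mul_comm] at e
        exact left_eq_mul.1 e)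
      have hd23 : b * b ≠ a * b * (a * b) := fun e => hne _ ha haV (by
        rw [hba.mul_mul_mul_comm] at e
        exact right_eq_mul.1 e)
      let f : Fin 4 → {v : G // v ∈ K ∧ orderOf v = 2} := ![
        ⟨a * a, S.hT (mul_mem ha ha), (hsq a ha).resolve_left (hne a ha haV)⟩,
        ⟨b * b, S.hT (mul_mem hb hb), (hsq b hb).resolve_left (hne b hb hbV)⟩,
        ⟨a * b * (a * b), S.hT (mul_mem (mul_mem ha hb) (mul_mem ha hb)),
          (hsq _ (mul_mem ha hb)).resolve_left (hne _ (mul_mem ha hb) habV)⟩,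
        ⟨c * c, S.hT (mul_mem hcT hcT), (hsq c hcT).resolve_left c1⟩]
      have hf : Function.Injective f := by
        intro i j hij
        have hij' := congrArg Subtype.val hij
        fin_cases i <;> fin_cases j <;> simp [f] at hij' ⊢
        all_goals first
          | exact hd12 hij' | exact hd12 hij'.symm | exact hd13 hij' | exact hd13 hij'.symm
          | exact hd23 hij' | exact hd23 hij'.symm | exact c2 hij' | exact c2 hij'.symm
          | exact c3 hij' | exact c3 hij'.symm | exact c4 hij' | exact c4 hij'.symm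
      have := Nat.card_le_card_of_injective f hf
      rw [Nat.card_fin, S.card_invol] at this
      omega
    have mk : ∀ g ∈ T, Commute c g → c * c = g * g → c * g⁻¹ ∈ V := fun g hg hcg e => by
      refine ⟨mul_mem hcT (inv_mem hg), ?_⟩
      rw [(hcg.inv_right).symm.mul_mul_mul_comm, e, ← mul_inv_rev, mul_inv_cancel]
    rcases hval with e | e | e | e
    · exact ⟨c, ⟨hcT, e⟩, Or.inl rfl⟩
    · exact ⟨_, mk a ha hca e, Or.inr (Or.inl (inv_mul_cancel_right c a).symm)⟩
    · exact ⟨_, mk b hb hcb e, Or.inr (Or.inr (Or.inl (inv_mul_cancel_right c b).symm))⟩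
    · exact ⟨_, mk _ (mul_mem ha hb) (hca.mul_right hcb) e,
        Or.inr (Or.inr (Or.inr (inv_mul_cancel_right c (a * b)).symm))⟩
  have h3 : Nat.card C₂ ≤ 16 := (Nat.card_mono (Set.toFinite _) hC₂).trans hA
  exact h1.trans (by omega)

/-- There is no soluble strongly embedded subgroup. -/
theorem not_se_solvable (h : Ctx G) {K : Subgroup G} (hK : Cfsg.IsStronglyEmbedded K)
    (hs : Group.IsSolvable K) : False := by
  classical
  obtain ⟨S⟩ := h.solShape hK
  haveI : Fact (Nat.Prime 3) := ⟨Nat.prime_three⟩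
  haveI : Fact (Nat.Prime 2) := ⟨Nat.prime_two⟩
  set Ω := G ⧸ K
  set α : Ω := QuotientGroup.mk 1
  have hfixα : ∀ g : G, g • α = α ↔ g ∈ K := fun g => by
    show (QuotientGroup.mk (g * 1) : Ω) = QuotientGroup.mk 1 ↔ _
    rw [QuotientGroup.eq]; simp
  let D : Ω → Subgroup G := fun β => K ⊓ MulAction.stabilizer G β
  have hD : ∀ β : Ω, β ≠ α → Nat.card (D β) = 1 ∨ Nat.card (D β) = 3 := by
    intro β hβ
    obtain ⟨g, rfl⟩ := QuotientGroup.mk_surjective β
    have hgK : g ∉ K := fun hg => hβ (by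
      rw [QuotientGroup.eq]; simpa using hg)
    have hodd : Odd (Nat.card (D (QuotientGroup.mk g))) := by
      rw [← Nat.not_even_iff_odd, even_iff_two_dvd]
      intro hd
      obtain ⟨⟨d, hdK, hdg⟩, hd2⟩ := exists_prime_orderOf_dvd_card' (G := D (QuotientGroup.mk g)) 2 hd
      replace hd2 : orderOf d = 2 := by rw [← hd2, ← Subgroup.orderOf_coe]
      have hdK' : g⁻¹ * d * g ∈ K := by
        have e : (QuotientGroup.mk (d * g) : Ω) = QuotientGroup.mk g := hdg
        rw [eq_comm, QuotientGroup.eq] at e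
        simpa [mul_assoc] using e
      have hmem : d ∈ K ⊓ K.map (MulAut.conj g).toMonoidHom :=
        ⟨hdK, ⟨g⁻¹ * d * g, hdK', by show g * (g⁻¹ * d * g) * g⁻¹ = d; group⟩⟩
      have hh := (hK.2.2 g hgK).of_dvd_nat
        (orderOf_dvd_natCard (⟨d, hmem⟩ : ↥(K ⊓ K.map (MulAut.conj g).toMonoidHom)))
      rw [Subgroup.orderOf_mk, hd2] at hh
      exact absurd hh (by decide)
    have hdvd : Nat.card (D (QuotientGroup.mk g)) ∣ 3 * Nat.card S.T := by
      rw [← S.hcard]; exact Subgroup.card_dvd_of_le inf_le_left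
    obtain ⟨l, hl⟩ := IsPGroup.iff_card.1 S.two
    rw [hl] at hdvd
    exact (Nat.dvd_prime Nat.prime_three).1
      ((Nat.Coprime.dvd_of_dvd_mul_right ((Nat.coprime_two_right.2 hodd).pow_right l) hdvd))
  let B := {β : Ω // β ≠ α}
  let I' := {u : G // orderOf u = 2 ∧ u ∉ K}
  have hi : Nat.card B + 1 = Nat.card Ω := by
    have e : Option B ≃ Ω := Equiv.optionSubtypeNe α
    rw [← Nat.card_congr e, Finite.card_option]
  have hG3 : Nat.card G = Nat.card Ω * (3 * Nat.card S.T) := by
    rw [← S.hcard]; exact Subgroup.card_eq_card_quotient_mul_card_subgroup K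
  have hn : Nat.card {u : G // orderOf u = 2} = 3 * Nat.card Ω := by
    have e := card_conj_invol S.t₀ S.ht₀
      (h.all_conj hK.1 (fun t ht ht2 => se_centralizer hK ht ht2) S.t₀K S.ht₀)
    rw [S.hTC, hG3] at e
    have hp : 0 < Nat.card S.T := Nat.card_pos
    nlinarith
  have hI' : Nat.card I' + 3 = 3 * Nat.card Ω := by
    rw [← hn]
    have e : I' ⊕ {u : G // u ∈ K ∧ orderOf u = 2} ≃ {u : G // orderOf u = 2} :=
      { toFun := fun s => match s with
          | Sum.inl u => ⟨u.1, u.2.1⟩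
          | Sum.inr u => ⟨u.1, u.2.2⟩
        invFun := fun u => if hu : (u : G) ∈ K then Sum.inr ⟨u, hu, u.2⟩ else Sum.inl ⟨u, u.2, hu⟩
        left_inv := fun s => by
          rcases s with ⟨u, hu⟩ | ⟨u, hu⟩
          · simp [hu.2]
          · simp [hu.1]
        right_inv := fun u => by
          by_cases hu : (u : G) ∈ K <;> simp [hu] }
    rw [← Nat.card_congr e, Nat.card_sum, S.card_invol]
  let Φ : I' → B := fun u => ⟨(u : G) • α, fun e => u.2.2 ((hfixα _).1 e)⟩
  have hfib : ∀ u v : I', Φ u = Φ v → (u : G) * v ∈ D (Φ u).1 := by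
    intro u v e
    have e1 : (v : G) • α = (u : G) • α := (congrArg Subtype.val e).symm
    have hu2 := invol_sq u.2.1
    have hv2 := invol_sq v.2.1
    refine ⟨(hfixα _).1 ?_, ?_⟩
    · rw [mul_smul, e1, ← mul_smul, hu2, one_smul]
    · show ((u : G) * v) • ((u : G) • α) = (u : G) • α
      rw [mul_smul, ← e1, ← mul_smul (v : G), hv2, one_smul, e1]
  have hchoose : ∀ β : B, ∃ g : G, (∃ u : I', Φ u = β) → ∃ u : I', Φ u = β ∧ (u : G) = g := fun β => by
    by_cases he : ∃ u : I', Φ u = β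
    · obtain ⟨u, hu⟩ := he; exact ⟨u, fun _ => ⟨u, hu, rfl⟩⟩
    · exact ⟨1, fun h' => absurd h' he⟩
  choose u₀ hu₀ using hchoose
  have hmapmem : ∀ u : I', (u : G) * u₀ (Φ u) ∈ D (Φ u).1 := fun u => by
    obtain ⟨v, hv, hv'⟩ := hu₀ (Φ u) ⟨u, rfl⟩
    rw [← hv']
    exact hfib u v hv.symm
  let Ψ : I' → Σ β : B, D β.1 := fun u => ⟨Φ u, ⟨(u : G) * u₀ (Φ u), hmapmem u⟩⟩
  have hΨ : Function.Injective Ψ := by
    intro u v e
    have e1 : Φ u = Φ v := congrArg Sigma.fst e
    have e2 : (u : G) * u₀ (Φ u) = (v : G) * u₀ (Φ v) :=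
      congrArg (fun z : Σ β : B, D β.1 => (z.2 : G)) e
    rw [e1] at e2
    exact Subtype.ext (mul_right_cancel e2)
  -- the pairs
  let Y := {y : G // y ∈ K ∧ orderOf y = 3}
  let P2 := Σ y : Y, {β : B // (y : G) • β.1 = β.1}
  have hDord : ∀ (β : B), ∀ d ∈ D β.1, d ≠ 1 → orderOf d = 3 := by
    intro β d hd hd1
    have hdd := orderOf_dvd_natCard (⟨d, hd⟩ : D β.1)
    rw [Subgroup.orderOf_mk] at hdd
    rcases hD β.1 β.2 with e | e <;> rw [e] at hdd
    · exact absurd (orderOf_eq_one_iff.1 (Nat.dvd_one.1 hdd)) hd1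
    · rcases (Nat.dvd_prime Nat.prime_three).1 hdd with e' | e'
      · exact absurd (orderOf_eq_one_iff.1 e') hd1
      · exact e'
  let eD : (Σ β : B, D β.1) ≃ B ⊕ P2 :=
    { toFun := fun z => if hz : (z.2 : G) = 1 then Sum.inl z.1 else
        Sum.inr ⟨⟨z.2, z.2.2.1, hDord z.1 z.2 z.2.2 hz⟩, ⟨z.1, z.2.2.2⟩⟩
      invFun := fun s => match s with
        | Sum.inl β => ⟨β, ⟨1, one_mem _⟩⟩
        | Sum.inr p => ⟨p.2.1, ⟨p.1.1, p.1.2.1, p.2.2⟩⟩
      left_inv := fun z => by
        obtain ⟨β, d, hd⟩ := z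
        by_cases hz : d = 1
        · subst hz; simp
        · simp [hz]
      right_inv := fun s => by
        rcases s with β | ⟨⟨y, hyK, hy⟩, ⟨β, hβ⟩⟩
        · simp
        · have : y ≠ 1 := fun e => by rw [e, orderOf_one] at hy; omega
          simp [this] }
  have hDsum : Nat.card (Σ β : B, D β.1) = Nat.card B + Nat.card P2 := by
    rw [Nat.card_congr eD, Nat.card_sum]
  have hupper : Nat.card (Σ β : B, D β.1) ≤ Nat.card B * 3 := by
    have := Fintype.ofFinite B
    rw [Nat.card_sigma]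
    refine (Finset.sum_le_card_nsmul _ _ 3 fun β _ => ?_).trans ?_
    · rcases hD β.1 β.2 with e | e <;> omega
    · rw [Finset.card_univ, smul_eq_mul, Nat.card_eq_fintype_card]
  have hlow : Nat.card I' ≤ Nat.card (Σ β : B, D β.1) := Nat.card_le_card_of_injective Ψ hΨ
  have hx1 : S.x ≠ 1 := fun e => by have := S.hx; rw [e, orderOf_one] at this; omega
  have hxi : S.x ≠ S.x⁻¹ := fun e => by
    have h2 : S.x * S.x = 1 := by nth_rw 2 [e]; exact mul_inv_cancel _
    have : orderOf S.x ∣ 2 := orderOf_dvd_of_pow_eq_one (by rw [pow_two, h2])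
    rw [S.hx] at this
    omega
  have hx3 : S.x ^ 3 = 1 := by rw [← S.hx, pow_orderOf_eq_one]
  have hxmem : ∀ g, g ∈ Subgroup.zpowers S.x → g = 1 ∨ g = S.x ∨ g = S.x⁻¹ := by
    intro g hg
    rw [mem_zpowers_iff_mem_range_orderOf, S.hx, Finset.mem_image] at hg
    obtain ⟨i, hi, rfl⟩ := hg
    rw [Finset.mem_range] at hi
    interval_cases i
    · exact Or.inl (pow_zero _)
    · exact Or.inr (Or.inl (pow_one _))
    · refine Or.inr (Or.inr ?_)
      exact eq_inv_of_mul_eq_one_left (by rw [← pow_succ, hx3])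
  -- Sylow conjugacy in `K`
  have hconjY : ∀ y : Y, ∃ p : K × Bool,
      (p.1 : G) * (if p.2 then S.x⁻¹ else S.x) * (p.1 : G)⁻¹ = y := by
    intro y
    set x' : K := ⟨S.x, S.xK⟩
    set y' : K := ⟨y.1, y.2.1⟩
    have hx' : orderOf x' = 3 := by rw [← Subgroup.orderOf_coe]; exact S.hx
    have hy' : orderOf y' = 3 := by rw [← Subgroup.orderOf_coe]; exact y.2.2
    have hf : (Nat.card K).factorization 3 = 1 := by
      obtain ⟨l, hl⟩ := IsPGroup.iff_card.1 S.two
      rw [S.hcard, hl, Nat.factorization_mul (by norm_num) (by positivity), Nat.factorization_pow,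
        Finsupp.add_apply, Finsupp.smul_apply, Nat.prime_three.factorization_self,
        Nat.factorization_eq_zero_of_not_dvd (show ¬ 3 ∣ 2 by norm_num)]
      simp
    obtain ⟨k, hk⟩ := MulAction.exists_smul_eq K
      (Sylow.ofCard (Subgroup.zpowers x') (by rw [Nat.card_zpowers, hx', hf, pow_one]))
      (Sylow.ofCard (Subgroup.zpowers y') (by rw [Nat.card_zpowers, hy', hf, pow_one]))
    have hy'' : y' ∈ (MulAut.conj k • Subgroup.zpowers x' : Subgroup K) := by
      have e := congrArg Sylow.toSubgroup hk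
      rw [Sylow.coe_subgroup_smul] at e
      simp only [Sylow.coe_ofCard] at e
      rw [e]; exact Subgroup.mem_zpowers _
    rw [Subgroup.mem_pointwise_smul_iff_inv_smul_mem] at hy''
    obtain ⟨j, hj⟩ := Subgroup.mem_zpowers_iff.1 hy''
    have hj' : S.x ^ j = (k : G)⁻¹ * y * (k : G) := by
      have := congrArg Subtype.val hj
      simpa [MulAut.conj_inv_apply] using this
    rcases hxmem (S.x ^ j) (zpow_mem (Subgroup.mem_zpowers _) j) with e | e | e <;> rw [e] at hj'
    · exfalso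
      have : (y : G) = 1 := by
        calc (y : G) = k * ((k : G)⁻¹ * y * k) * (k : G)⁻¹ := by group
          _ = 1 := by rw [← hj']; simp
      have h3 := y.2.2
      rw [this, orderOf_one] at h3
      omega
    · refine ⟨(k, false), ?_⟩
      simp only [Bool.false_eq_true, if_false]
      rw [hj']; group
    · refine ⟨(k, true), ?_⟩
      simp only [if_true]
      rw [hj']; group
  -- x is inverted by an involution
  obtain ⟨u, hu2, hux⟩ : ∃ u : G, orderOf u = 2 ∧ u * S.x * u⁻¹ = S.x⁻¹ := by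
    by_contra hno
    push Not at hno
    have hone : ∀ u : I', Nat.card (D (Φ u).1) = 1 := by
      intro u
      rcases hD _ (Φ u).2 with e | e
      · exact e
      exfalso
      obtain ⟨⟨d, hd⟩, hd3⟩ := exists_prime_orderOf_dvd_card' (G := D (Φ u).1) 3 (by rw [e])
      rw [Subgroup.orderOf_mk] at hd3
      have hu := invol_inv u.2.1
      have hu2 := invol_sq u.2.1
      have hmem : (u : G) * d * (u : G)⁻¹ ∈ D (Φ u).1 := by
        refine ⟨(hfixα _).1 ?_, ?_⟩
        · rw [hu, mul_smul, mul_smul]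
          rw [show d • ((u : G) • α) = (u : G) • α from hd.2, ← mul_smul, hu2, one_smul]
        · show ((u : G) * d * (u : G)⁻¹) • ((u : G) • α) = (u : G) • α
          rw [← mul_smul, inv_mul_cancel_right, mul_smul, (hfixα d).2 hd.1]
      have hz : Subgroup.zpowers d = D (Φ u).1 := Subgroup.eq_of_le_of_card_ge
        (Subgroup.zpowers_le.2 hd) (by rw [Nat.card_zpowers, hd3, e])
      rw [← hz, mem_zpowers_iff_mem_range_orderOf, hd3, Finset.mem_image] at hmem
      obtain ⟨i, hi', hid⟩ := hmem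
      rw [Finset.mem_range] at hi'
      interval_cases i
      · rw [pow_zero] at hid
        have : d = 1 := by
          calc d = (u : G)⁻¹ * ((u : G) * d * (u : G)⁻¹) * u := by group
            _ = 1 := by rw [← hid]; simp
        rw [this, orderOf_one] at hd3; omega
      · rw [pow_one] at hid
        have hc : Commute (u : G) d := mul_inv_eq_iff_eq_mul.1 hid.symm
        have := h.spec.eq_one_of_commute hc (fun e' => by
          have := u.2.1; rw [e', orderOf_one] at this; omega) (by rw [u.2.1, hd3]; norm_num)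
        rw [this, orderOf_one] at hd3; omega
      · have hid' : (u : G) * d * (u : G)⁻¹ = d⁻¹ := by
          rw [← hid]
          exact eq_inv_of_mul_eq_one_left (by rw [← pow_succ]; show d ^ 3 = 1; rw [← hd3]; exact pow_orderOf_eq_one d)
        obtain ⟨⟨k, b⟩, hkb⟩ := hconjY ⟨d, hd.1, hd3⟩
        simp only at hkb
        refine hno ((k : G)⁻¹ * u * k) (by
          have := invol_conj (k : G)⁻¹ u.2.1; rwa [inv_inv] at this) ?_
        rw [← hkb] at hid'
        cases b
        · simp only [Bool.false_eq_true, if_false] at hid'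
          calc (k : G)⁻¹ * u * k * S.x * ((k : G)⁻¹ * u * k)⁻¹
              = (k : G)⁻¹ * ((u : G) * (k * S.x * (k : G)⁻¹) * (u : G)⁻¹) * k := by group
            _ = S.x⁻¹ := by rw [hid']; group
        · simp only [if_true] at hid'
          calc (k : G)⁻¹ * u * k * S.x * ((k : G)⁻¹ * u * k)⁻¹
              = ((k : G)⁻¹ * ((u : G) * (k * S.x⁻¹ * (k : G)⁻¹) * (u : G)⁻¹) * k)⁻¹ := by group
            _ = S.x⁻¹ := by rw [hid']; group
    have hinj : Function.Injective Φ := by
      intro u v e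
      have h1 := Subgroup.card_eq_one.1 (hone u)
      have h2 := hfib u v e
      rw [h1, Subgroup.mem_bot] at h2
      exact Subtype.ext ((eq_inv_of_mul_eq_one_left h2).trans (invol_inv v.2.1))
    have := Nat.card_le_card_of_injective Φ hinj
    have hΩ : Nat.card Ω = 1 := by omega
    apply hK.1
    rw [← Subgroup.index_eq_one]
    exact hΩ
  let R : RealElt G 3 := ⟨u, S.x, hu2, S.hx, hux, Or.inl rfl⟩
  -- elements of order three in `K`
  have hY : Nat.card Y = 2 * Nat.card S.T := by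
    choose c hc using hconjY
    have huniq : ∀ (k k' : K) (b b' : Bool),
        (k : G) * (if b then S.x⁻¹ else S.x) * (k : G)⁻¹ =
          (k' : G) * (if b' then S.x⁻¹ else S.x) * (k' : G)⁻¹ →
        b = b' ∧ (k' : G)⁻¹ * k ∈ Subgroup.zpowers S.x := by
      intro k k' b b' e
      set g := (k' : G)⁻¹ * k
      have e' : g * (if b then S.x⁻¹ else S.x) * g⁻¹ = if b' then S.x⁻¹ else S.x := by
        calc _ = (k' : G)⁻¹ * ((k : G) * (if b then S.x⁻¹ else S.x) * (k : G)⁻¹) * k' := by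
              simp only [g]; group
          _ = _ := by rw [e]; group
      have hgK : g ∈ K := mul_mem (inv_mem k'.2) k.2
      have hconj : g * S.x * g⁻¹ ∈ Subgroup.zpowers S.x := by
        cases b <;> simp only [Bool.false_eq_true, if_false, if_true] at e'
        · rw [e']; cases b' <;> simp
        · rw [show g * S.x * g⁻¹ = (g * S.x⁻¹ * g⁻¹)⁻¹ by group, e']; cases b' <;> simp
      have hgx := S.norm_x g hgK hconj
      refine ⟨?_, hgx⟩
      obtain ⟨j, hj⟩ := Subgroup.mem_zpowers_iff.1 hgx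
      have hc : Commute g (if b then S.x⁻¹ else S.x) := by
        rw [← hj]
        cases b
        · exact (Commute.refl S.x).zpow_left j
        · exact ((Commute.refl S.x).zpow_left j).inv_right
      rw [show g * (if b then S.x⁻¹ else S.x) * g⁻¹ = (if b then S.x⁻¹ else S.x) by
        rw [hc.eq, mul_inv_cancel_right]] at e'
      cases b <;> cases b' <;> simp at e' ⊢
      · exact hxi e'
      · exact hxi e'.symm
    have hym : ∀ p : K × Bool, (p.1 : G) * (if p.2 then S.x⁻¹ else S.x) * (p.1 : G)⁻¹ ∈ K ∧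
        orderOf ((p.1 : G) * (if p.2 then S.x⁻¹ else S.x) * (p.1 : G)⁻¹) = 3 := by
      rintro ⟨k, b⟩
      refine ⟨mul_mem (mul_mem k.2 ?_) (inv_mem k.2), ?_⟩
      · cases b
        · exact S.xK
        · exact inv_mem S.xK
      · rw [show orderOf ((k : G) * (if b then S.x⁻¹ else S.x) * (k : G)⁻¹) =
          orderOf (if b then S.x⁻¹ else S.x) from (MulAut.conj (k : G)).orderOf_eq _]
        cases b <;> simp [S.hx]
    let ym : K × Bool → Y := fun p => ⟨_, hym p⟩
    have hzz : ∀ p : K × Bool, ((c (ym p)).1 : G)⁻¹ * p.1 ∈ Subgroup.zpowers S.x := fun p =>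
      (huniq p.1 (c (ym p)).1 p.2 (c (ym p)).2 (hc (ym p)).symm).2
    let e : K × Bool ≃ Y × Subgroup.zpowers S.x :=
      { toFun := fun p => (ym p, ⟨_, hzz p⟩)
        invFun := fun q => ((c q.1).1 * ⟨q.2, Subgroup.zpowers_le.2 S.xK q.2.2⟩, (c q.1).2)
        left_inv := fun p => by
          refine Prod.ext (Subtype.ext ?_) ?_
          · exact mul_inv_cancel_left ((c (ym p)).1 : G) (p.1 : G)
          · exact ((huniq p.1 _ p.2 _ (hc (ym p)).symm).1).symm
        right_inv := fun q => by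
          obtain ⟨y, z, hz⟩ := q
          obtain ⟨j, hj⟩ := Subgroup.mem_zpowers_iff.1 hz
          have hzc : z * (if (c y).2 then S.x⁻¹ else S.x) * z⁻¹ = if (c y).2 then S.x⁻¹ else S.x := by
            have : Commute z (if (c y).2 then S.x⁻¹ else S.x) := by
              rw [← hj]
              cases (c y).2
              · exact (Commute.refl S.x).zpow_left j
              · exact ((Commute.refl S.x).zpow_left j).inv_right
            rw [this.eq, mul_inv_cancel_right]
          have hzK : z ∈ K := by rw [← hj]; exact zpow_mem S.xK j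
          have hyy : ym ((c y).1 * ⟨z, hzK⟩, (c y).2) = y := Subtype.ext (by
            show ((c y).1 : G) * z * (if (c y).2 then S.x⁻¹ else S.x) * (((c y).1 : G) * z)⁻¹ = y
            calc _ = ((c y).1 : G) * (z * (if (c y).2 then S.x⁻¹ else S.x) * z⁻¹) * ((c y).1 : G)⁻¹ := by
                  group
              _ = y := by rw [hzc, hc y])
          refine Prod.ext hyy (Subtype.ext ?_)
          show ((c (ym ((c y).1 * ⟨z, hzK⟩, (c y).2))).1 : G)⁻¹ * (((c y).1 : G) * z) = z
          rw [hyy, inv_mul_cancel_left] }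
    have := Nat.card_congr e
    rw [Nat.card_prod, Nat.card_prod, Nat.card_zpowers, S.hx, show Nat.card Bool = 2 by simp,
      S.hcard] at this
    omega
  -- fixed points
  let F := {β : Ω // S.x • β = β}
  have hfixY : ∀ y : Y, Nat.card {β : B // (y : G) • β.1 = β.1} + 1 = Nat.card F := by
    intro y
    obtain ⟨⟨k, b⟩, hkb⟩ := hconjY y
    have e1 : Option {β : B // (y : G) • β.1 = β.1} ≃ {β : Ω // (y : G) • β = β} :=
      { toFun := fun o => match o with
          | none => ⟨α, (hfixα _).2 y.2.1⟩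
          | some β => ⟨β.1.1, β.2⟩
        invFun := fun β => if hb : β.1 = α then none else some ⟨⟨β.1, hb⟩, β.2⟩
        left_inv := fun o => by
          rcases o with _ | ⟨⟨β, hβ⟩, hb⟩
          · simp
          · simp [hβ]
        right_inv := fun β => by
          obtain ⟨β, hb'⟩ := β
          by_cases hb : β = α
          · subst hb; simp
          · simp [hb] }
    have hxfix : ∀ β : Ω, S.x⁻¹ • β = β ↔ S.x • β = β := fun β => by
      constructor
      · intro hh; conv_lhs => rw [← hh, smul_inv_smul]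
      · intro hh; conv_lhs => rw [← hh, inv_smul_smul]
    have e2 : {β : Ω // (y : G) • β = β} ≃ F :=
      { toFun := fun β => ⟨(k : G)⁻¹ • β.1, by
          obtain ⟨β, h1⟩ := β
          rw [← hkb, mul_smul, mul_smul, smul_eq_iff_eq_inv_smul] at h1
          cases b
          · simpa using h1
          · exact (hxfix _).1 (by simpa using h1)⟩
        invFun := fun β => ⟨(k : G) • β.1, by
          rw [← hkb, mul_smul, mul_smul, inv_smul_smul]
          cases b
          · simp [β.2]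
          · simp [(hxfix _).2 β.2]⟩
        left_inv := fun β => Subtype.ext (smul_inv_smul _ _)
        right_inv := fun β => Subtype.ext (inv_smul_smul _ _) }
    rw [← Nat.card_congr e2, ← Nat.card_congr e1, Finite.card_option]
  have hF : Nat.card F * (3 * Nat.card S.T) = 2 * Nat.card S.T * Nat.card R.P := by
    have hreach : ∀ y : Y, ∃ g : G, g⁻¹ * S.x * g = y := by
      intro y
      obtain ⟨⟨k, b⟩, hkb⟩ := hconjY y
      cases b
      · exact ⟨(k : G)⁻¹, by rw [inv_inv]; simpa using hkb⟩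
      · refine ⟨u * (k : G)⁻¹, ?_⟩
        have hux' : u⁻¹ * S.x * u = S.x⁻¹ := by rw [invol_inv hu2]; rwa [invol_inv hu2] at hux
        calc (u * (k : G)⁻¹)⁻¹ * S.x * (u * (k : G)⁻¹) = k * (u⁻¹ * S.x * u) * (k : G)⁻¹ := by group
          _ = y := by rw [hux']; simpa using hkb
    choose c hc using hreach
    have hyf : ∀ p : F × K, (p.1.1.out * p.2 : G)⁻¹ * S.x * (p.1.1.out * p.2) ∈ K ∧
        orderOf ((p.1.1.out * p.2 : G)⁻¹ * S.x * (p.1.1.out * p.2)) = 3 := by
      intro p
      have h1 : S.x • (QuotientGroup.mk p.1.1.out : Ω) = QuotientGroup.mk p.1.1.out := by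
        rw [QuotientGroup.out_eq']; exact p.1.2
      have h2 : (QuotientGroup.mk (S.x * p.1.1.out) : Ω) = QuotientGroup.mk p.1.1.out := h1
      rw [eq_comm, QuotientGroup.eq] at h2
      refine ⟨?_, ?_⟩
      · have := mul_mem (mul_mem (inv_mem p.2.2) h2) p.2.2
        simpa [mul_assoc] using this
      · have e := (MulAut.conj (p.1.1.out * (p.2 : G))⁻¹).orderOf_eq S.x
        rw [S.hx, MulAut.conj_apply, inv_inv] at e
        exact e
    let yf : F × K → Y := fun p => ⟨_, hyf p⟩
    have hsP : ∀ p : F × K, p.1.1.out * (p.2 : G) * (c (yf p))⁻¹ ∈ R.P := by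
      intro p
      refine mem_centralizer_of_commute ?_
      show p.1.1.out * (p.2 : G) * (c (yf p))⁻¹ * S.x = S.x * (p.1.1.out * (p.2 : G) * (c (yf p))⁻¹)
      calc p.1.1.out * (p.2 : G) * (c (yf p))⁻¹ * S.x
          = p.1.1.out * (p.2 : G) * ((c (yf p))⁻¹ * S.x * c (yf p)) * (c (yf p))⁻¹ := by group
        _ = S.x * (p.1.1.out * (p.2 : G) * (c (yf p))⁻¹) := by
          rw [hc (yf p)]
          show p.1.1.out * (p.2 : G) * ((p.1.1.out * p.2 : G)⁻¹ * S.x * (p.1.1.out * p.2)) *
            (c (yf p))⁻¹ = _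
          group
    have hcm : ∀ s ∈ R.P, Commute s S.x := fun s hs => Subgroup.mem_centralizer_singleton_iff.1 hs
    have hback : ∀ q : Y × R.P,
        S.x • (QuotientGroup.mk ((q.2 : G) * c q.1) : Ω) = QuotientGroup.mk ((q.2 : G) * c q.1) := by
      intro q
      show (QuotientGroup.mk (S.x * ((q.2 : G) * c q.1)) : Ω) = QuotientGroup.mk _
      rw [eq_comm, QuotientGroup.eq,
        show ((q.2 : G) * c q.1)⁻¹ * (S.x * ((q.2 : G) * c q.1)) =
          (c q.1)⁻¹ * ((q.2 : G)⁻¹ * (S.x * q.2)) * c q.1 by group,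
        ← (hcm _ q.2.2).eq, inv_mul_cancel_left, hc q.1]
      exact q.1.2.1
    let e : F × K ≃ Y × R.P :=
      { toFun := fun p => (yf p, ⟨_, hsP p⟩)
        invFun := fun q => (⟨QuotientGroup.mk ((q.2 : G) * c q.1), hback q⟩,
          ⟨(QuotientGroup.mk ((q.2 : G) * c q.1) : Ω).out⁻¹ * ((q.2 : G) * c q.1),
            (QuotientGroup.eq).1 (QuotientGroup.out_eq' _)⟩)
        left_inv := fun p => by
          have e1 : (QuotientGroup.mk (p.1.1.out * (p.2 : G) * (c (yf p))⁻¹ * c (yf p)) : Ω) = p.1.1 := by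
            rw [inv_mul_cancel_right, QuotientGroup.mk_mul_of_mem _ p.2.2, QuotientGroup.out_eq']
          refine Prod.ext (Subtype.ext e1) (Subtype.ext ?_)
          show (QuotientGroup.mk (p.1.1.out * (p.2 : G) * (c (yf p))⁻¹ * c (yf p)) : Ω).out⁻¹ *
            (p.1.1.out * (p.2 : G) * (c (yf p))⁻¹ * c (yf p)) = p.2
          rw [e1, inv_mul_cancel_right, inv_mul_cancel_left]
        right_inv := fun q => by
          obtain ⟨y, s, hs⟩ := q
          set g : G := (QuotientGroup.mk (s * c y) : Ω).out *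
            ((QuotientGroup.mk (s * c y) : Ω).out⁻¹ * (s * c y)) with hg
          have hgs : g = s * c y := mul_inv_cancel_left _ _
          have hyy : yf (⟨QuotientGroup.mk (s * c y), hback (y, ⟨s, hs⟩)⟩,
              ⟨(QuotientGroup.mk (s * c y) : Ω).out⁻¹ * (s * c y),
                (QuotientGroup.eq).1 (QuotientGroup.out_eq' _)⟩) = y := Subtype.ext (by
            show g⁻¹ * S.x * g = y
            rw [hgs]
            calc (s * c y)⁻¹ * S.x * (s * c y) = (c y)⁻¹ * (s⁻¹ * (S.x * s)) * c y := by group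
              _ = y := by rw [← (hcm s hs).eq, inv_mul_cancel_left, hc y])
          refine Prod.ext hyy (Subtype.ext ?_)
          show g * (c (yf _))⁻¹ = s
          rw [hyy, hgs, mul_inv_cancel_right] }
    have := Nat.card_congr e
    rw [Nat.card_prod, Nat.card_prod, S.hcard, hY] at this
    exact this
  have hP2 : Nat.card P2 + Nat.card Y = Nat.card Y * Nat.card F := by
    have := Fintype.ofFinite Y
    rw [Nat.card_sigma, Nat.card_eq_fintype_card (α := Y), ← Finset.card_univ,
      Finset.card_eq_sum_ones (Finset.univ : Finset Y), ← Finset.sum_add_distrib, Finset.sum_mul]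
    exact Finset.sum_congr rfl fun y _ => by rw [one_mul]; exact hfixY y
  rw [hY] at hP2
  -- arithmetic
  obtain ⟨t, ht⟩ := IsPGroup.iff_card.1 S.two
  have hP := R.card_P h.spec
  set b := (Nat.card G).factorization 3 with hb
  set c := (Nat.card G).factorization 5 with hc
  have hGeq := card_eq_primes h.spec
  rw [← hb, ← hc] at hGeq
  have hb2 : 2 ≤ b := (Nat.Prime.pow_dvd_iff_le_factorization Nat.prime_three Nat.card_pos.ne').1
    (by simpa using h.nine)
  have hTpos : 0 < Nat.card S.T := Nat.card_pos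
  have hF' : Nat.card F = 2 * 3 ^ (b - 1) := by
    rw [hP] at hF
    have h3 : 3 ^ b = 3 * 3 ^ (b - 1) := by rw [← pow_succ']; congr 1; omega
    rw [h3] at hF
    have : (Nat.card F) * (3 * Nat.card S.T) = (2 * 3 ^ (b - 1)) * (3 * Nat.card S.T) := by
      rw [hF]; ring
    exact Nat.eq_of_mul_eq_mul_right (by omega) this
  have hΩ : Nat.card Ω + Nat.card S.T = Nat.card S.T * (2 * 3 ^ (b - 1)) + 1 := by
    have e : 2 * Nat.card S.T * Nat.card F = 2 * (Nat.card S.T * (2 * 3 ^ (b - 1))) := by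
      rw [hF']; ring
    omega
  have ht8 : t ≤ 8 := by
    have := h.solShape_card_T S
    rw [ht] at this
    by_contra hcon
    have : 2 ^ 9 ≤ 2 ^ t := Nat.pow_le_pow_right (by norm_num) (by omega)
    omega
  have ht1 : 1 ≤ t := by
    rcases t with _ | t
    · exfalso
      obtain ⟨hm, -⟩ := S.central S.t₀ S.t₀K S.ht₀
      have := orderOf_dvd_natCard (⟨S.t₀, hm⟩ : S.T)
      rw [Subgroup.orderOf_mk, S.ht₀, ht] at this
      norm_num at this
    · omega
  have hodd : ¬ 2 ∣ Nat.card Ω := by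
    intro hd
    have hT2 : 2 ∣ Nat.card S.T := ht ▸ dvd_pow_self 2 (by omega)
    have h1 : 2 ∣ Nat.card S.T * (2 * 3 ^ (b - 1)) + 1 := hΩ ▸ dvd_add hd hT2
    have h2 : 2 ∣ Nat.card S.T * (2 * 3 ^ (b - 1)) := dvd_mul_of_dvd_left hT2 _
    exact absurd ((Nat.dvd_add_right h2).1 h1) (by norm_num)
  have hΩeq : Nat.card Ω = 3 ^ (b - 1) * 5 ^ c := by
    have e : Nat.card Ω * (3 * 2 ^ t) =
        2 ^ (Nat.card G).factorization 2 * 3 ^ b * 5 ^ c := by rw [← ht, ← hG3, ← hGeq]
    have hf2 : (Nat.card G).factorization 2 = t := by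
      rw [hG3, ht, Nat.factorization_mul Nat.card_pos.ne' (by positivity),
        Nat.factorization_mul (by norm_num) (by positivity)]
      simp [Nat.factorization_eq_zero_of_not_dvd hodd, Nat.prime_two.factorization_pow,
        Nat.factorization_eq_zero_of_not_dvd (show ¬ 2 ∣ 3 by norm_num)]
    rw [hf2, show 3 ^ b = 3 * 3 ^ (b - 1) by rw [← pow_succ']; congr 1; omega] at e
    refine Nat.eq_of_mul_eq_mul_right (show 0 < 3 * 2 ^ t by positivity) ?_
    rw [e]; ring
  rw [hΩeq, ht] at hΩ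
  exact strong_arith ht8 ht1 (by omega) hΩ

/-- A strongly embedded subgroup forces the alternating group of degree six. -/
theorem of_stronglyEmbedded (h : Ctx G) {K : Subgroup G} (hK : Cfsg.IsStronglyEmbedded K) :
    Nonempty (G ≃* ↥(alternatingGroup (Fin 6))) := by
  by_cases hs : Group.IsSolvable K
  · exact (h.not_se_solvable hK hs).elim
  · exact h.of_se_insol hK hs

end Ctx

end CfsgLib.Recog.EPOFive
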