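import Cfsg.Agent.Lib.Recog.EPOFive.LocalFour
import Cfsg.Agent.Lib.Recog.EPOFive.StrongCount

/-!
Counting involutions rules out the fixed space of order four.
-/

set_option autoImplicit false

namespace CfsgLib.Recog.EPOFive

open Subgroup
open scoped Pointwise

universe u

theorem four_small : ∀ b ≤ 6, ∀ c ≤ 4, ∀ A ∈ [32, 16, 8], ∀ B ∈ [32, 16, 8], 2 ≤ b → 1 ≤ c →
    3 ^ b * 5 ^ c ≠ 123 + A * (3 ^ b - 1) + B * (5 ^ c - 1) := by
  decide +kernel

theorem four_arith {b c A B : ℕ} (hb : 2 ≤ b) (hc : 1 ≤ c) (hA : A = 32 ∨ A = 16 ∨ A = 8)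
    (hB : B = 32 ∨ B = 16 ∨ B = 8)
    (he : 3 ^ b * 5 ^ c = 123 + A * (3 ^ b - 1) + B * (5 ^ c - 1)) : False := by
  by_cases hb6 : b ≤ 6
  · by_cases hc4 : c ≤ 4
    · exact four_small b hb6 c hc4 A (by rcases hA with h | h | h <;> simp [h]) B
        (by rcases hB with h | h | h <;> simp [h]) hb hc he
    have : 5 ^ 5 ≤ 5 ^ c := Nat.pow_le_pow_right (by norm_num) (by omega)
    norm_num at this
    interval_cases b <;> rcases hA with h | h | h <;> subst h <;> rcases hB with h | h | h <;>
      subst h <;> norm_num at he <;> omega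
  have : 3 ^ 7 ≤ 3 ^ b := Nat.pow_le_pow_right (by norm_num) (by omega)
  norm_num at this
  by_cases hc2 : c ≤ 2
  · interval_cases c <;> rcases hA with h | h | h <;> subst h <;> rcases hB with h | h | h <;>
      subst h <;> norm_num at he <;> omega
  have h5 : 5 ^ 3 ≤ 5 ^ c := Nat.pow_le_pow_right (by norm_num) (by omega)
  norm_num at h5
  obtain ⟨X, hX⟩ : ∃ X, X = 3 ^ b := ⟨_, rfl⟩
  obtain ⟨Y, hY⟩ : ∃ Y, Y = 5 ^ c := ⟨_, rfl⟩
  rw [← hX, ← hY] at he
  rw [← hX] at this
  rw [← hY] at h5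
  have hA' : A * (X - 1) ≤ 32 * X := Nat.mul_le_mul (by omega) (by omega)
  have hB' : B * (Y - 1) ≤ 32 * Y := Nat.mul_le_mul (by omega) (by omega)
  nlinarith [Nat.mul_le_mul this h5]

namespace LocA5

namespace Frame

variable {G : Type u} [Group G] [Finite G] {L : LocA5 G} (F : L.Frame)

theorem delta_surj (hG : Spec G) {e z : G} (he : F.IsE e) (hz : z ∈ F.Z) :
    ∃ w ∈ L.W, w * (e * w * e⁻¹) = z := by
  have step : ∀ e : G, (∀ z ∈ F.Z, ∃ w ∈ L.W, w * (e * w * e⁻¹) = z) →
      ∀ z ∈ F.Z, ∃ w ∈ L.W, w * (F.y * e * F.y⁻¹ * w * (F.y * e * F.y⁻¹)⁻¹) = z := by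
    intro e he z hz
    have hz' : F.y⁻¹ * z * F.y ∈ F.Z := by
      have h2 := F.y_Z hG (F.y_Z hG hz)
      have : F.y⁻¹ = F.y * F.y := (eq_inv_of_mul_eq_one_left F.y_pow).symm
      rw [show F.y⁻¹ * z * F.y = F.y⁻¹ * z * F.y⁻¹⁻¹ by rw [inv_inv], this]
      rwa [show F.y * F.y * z * (F.y * F.y)⁻¹ = F.y * (F.y * z * F.y⁻¹) * F.y⁻¹ by group]
    obtain ⟨w, hw, hwz⟩ := he _ hz'
    refine ⟨F.y * w * F.y⁻¹, L.conj_mem F.yN hw, ?_⟩
    calc F.y * w * F.y⁻¹ * (F.y * e * F.y⁻¹ * (F.y * w * F.y⁻¹) * (F.y * e * F.y⁻¹)⁻¹)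
        = F.y * (w * (e * w * e⁻¹)) * F.y⁻¹ := by group
      _ = z := by rw [hwz]; group
  have h1 := (F.Z_facts hG).2.2.2
  have h2 := step _ h1
  have h3 := step _ h2
  rcases he with rfl | rfl | rfl
  exacts [h1 z hz, h2 z hz, h3 z hz]

variable (h : Ctx G) (hZ : Nat.card F.Z = 4)

include h hZ in
/-- For a noncentral involution `a` of `T` and a central one `z`, four involutions of `T` move `a`
to `a * z`. -/
theorem card_shift {a z : G} (ha : a ∈ F.T) (ha2 : a * a = 1) (haZ : a ∉ F.Z) (hz : z ∈ F.Z)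
    (hz1 : z ≠ 1) : Nat.card {u : G // u ∈ F.T ∧ u * u = 1 ∧ u * a * u = a * z} = 4 := by
  classical
  have hG := h.spec
  have hTz : ∀ t ∈ F.T, t * z = z * t := fun t ht =>
    Subgroup.mem_centralizer_singleton_iff.1 ((F.centralizer_Z hG hZ hz hz1).ge ht)
  have hTZ : ∀ t ∈ F.T, ∀ c ∈ F.Z, t * c = c * t := fun t ht c hc => by
    by_cases hc1 : c = 1
    · simp [hc1]
    · exact Subgroup.mem_centralizer_singleton_iff.1 ((F.centralizer_Z hG hZ hc hc1).ge ht)
  have hE := F.E_elem hG
  -- the form of a solution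
  have hform : ∀ u ∈ F.T, u * u = 1 → u * a * u = a * z →
      (a ∈ L.W ∧ ∃ e, F.IsE e ∧ u * e ∈ F.Z ∧ a * (e * a * e⁻¹) = z) ∨
      (a ∉ L.W ∧ u ∈ L.W) := by
    intro u hu hu2 hua
    have hne : a * z ≠ a := fun e => hz1 (mul_eq_left.1 e)
    by_cases haW : a ∈ L.W
    · left
      refine ⟨haW, ?_⟩
      have huW : u ∉ L.W := fun e => hne (by rw [← hua, L.comm u e a haW, mul_assoc, hu2, mul_one])
      obtain hu' | ⟨e, he, hue⟩ := F.decomp_E hG ((F.invol_T hG hu hu2).resolve_left huW)
      · exact absurd (F.Z_le hu') huW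
      refine ⟨e, he, hue, ?_⟩
      have hu'' : u = u * e * e := by rw [mul_assoc, F.isE_sq he, mul_one]
      have hc : (u * e) * a = a * (u * e) := L.comm _ (F.Z_le hue) _ haW
      have hce : u * e * e = e * (u * e) := F.Z_comm hG hue he
      calc a * (e * a * e⁻¹) = a * (e * (u * e) * a * ((u * e) * e)) := by
            rw [F.isE_inv he, mul_assoc e (u * e) a, hc,
              show e * (a * (u * e)) * (u * e * e) = e * a * (u * e * (u * e)) * e by group,
              L.sq _ (F.Z_le hue), mul_one]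
        _ = a * (u * a * u) := by rw [← hce, ← hu'']
        _ = z := by rw [hua, ← mul_assoc, ha2, one_mul]
    · refine Or.inr ⟨haW, ?_⟩
      by_contra huW
      have huE := (F.invol_T hG hu hu2).resolve_left huW
      have haE := (F.invol_T hG ha ha2).resolve_left haW
      exact hne (by rw [← hua, hE.1 u huE a haE, mul_assoc, hu2, mul_one])
  -- a solution
  obtain ⟨u₀, hu₀, hu₀2, hu₀a⟩ : ∃ u ∈ F.T, u * u = 1 ∧ u * a * u = a * z := by
    by_cases haW : a ∈ L.W
    · let S := {c : G // c ∈ F.Z ∧ c ≠ 1}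
      let d : Fin 3 → S := fun i => ⟨a * (F.ev i.succ * a * (F.ev i.succ)⁻¹), by
        have he : F.IsE (F.ev i.succ) := by
          fin_cases i
          exacts [Or.inl rfl, Or.inr (Or.inl rfl), Or.inr (Or.inr rfl)]
        refine ⟨F.delta_mem hG haW he, fun e => haZ (F.mem_Z_of hG haW he ?_)⟩
        have e' := eq_inv_of_mul_eq_one_right e
        rw [L.inv_eq haW] at e'
        exact (mul_inv_eq_iff_eq_mul.1 e').symm⟩
      have hev : ∀ i : Fin 3, F.IsE (F.ev i.succ) := fun i => by
        fin_cases i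
        exacts [Or.inl rfl, Or.inr (Or.inl rfl), Or.inr (Or.inr rfl)]
      have hd : Function.Injective d := by
        intro i j hij
        by_contra hne
        have e : F.ev i.succ * a * (F.ev i.succ)⁻¹ = F.ev j.succ * a * (F.ev j.succ)⁻¹ :=
          mul_left_cancel (congrArg Subtype.val hij : _)
        set e₁ := F.ev i.succ
        set e₂ := F.ev j.succ
        have hc : a * (e₁⁻¹ * e₂) = e₁⁻¹ * e₂ * a := by
          calc a * (e₁⁻¹ * e₂) = e₁⁻¹ * (e₁ * a * e₁⁻¹) * e₂ := by group
            _ = e₁⁻¹ * e₂ * a := by rw [e]; group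
        have hp : e₁⁻¹ * e₂ ∈ F.E :=
          mul_mem (inv_mem (F.isE_mem_E hG (hev i))) (F.isE_mem_E hG (hev j))
        rcases F.decomp_E hG hp with h' | ⟨e', he', h'⟩
        · have hm : L.m e₁ = L.m e₂ := by
            have := L.m_of_mem (F.Z_le h')
            rw [L.m_mul (inv_mem (F.isE_mem (hev i))) (F.isE_mem (hev j)), L.m_inv (F.isE_mem (hev i)),
              inv_mul_eq_one] at this
            exact this
          exact hne (Fin.succ_injective _ (F.m_ev hm))
        · refine haZ (F.mem_Z_of hG haW he' ?_)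
          have h1 : Commute a (e₁⁻¹ * e₂ * e') := L.comm a haW _ (F.Z_le h')
          have h2 : Commute a (e₁⁻¹ * e₂) := hc
          have h3 := h2.inv_right.mul_right h1
          rwa [inv_mul_cancel_left] at h3
      have hS : Nat.card S = 3 := by
        have e : Option S ≃ F.Z :=
          { toFun := fun o => o.elim 1 fun c => ⟨c.1, c.2.1⟩
            invFun := fun c => if hc : (c : G) = 1 then none else some ⟨c, c.2, hc⟩
            left_inv := fun o => by
              rcases o with _ | ⟨c, hc⟩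
              · simp
              · simp [hc.2]
            right_inv := fun c => by
              by_cases hc : (c : G) = 1
              · simp [hc]; exact Subtype.ext hc.symm
              · simp [hc] }
        have := Nat.card_congr e
        rw [Finite.card_option, hZ] at this
        omega
      have hbij : Function.Bijective d := by
        have := Fintype.ofFinite S
        rw [Fintype.bijective_iff_injective_and_card]
        exact ⟨hd, by rw [← Nat.card_eq_fintype_card (α := S), hS, Fintype.card_fin]⟩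
      obtain ⟨i, hi⟩ := hbij.2 ⟨z, hz, hz1⟩
      refine ⟨F.ev i.succ, F.E_le_T (F.isE_mem_E hG (hev i)), F.isE_sq (hev i), ?_⟩
      have := congrArg Subtype.val hi
      simp only [d, F.isE_inv (hev i)] at this
      calc F.ev i.succ * a * F.ev i.succ = a * (a * (F.ev i.succ * a * F.ev i.succ)) := by
            rw [← mul_assoc, ha2, one_mul]
        _ = a * z := by rw [this]
    · have haE := (F.invol_T hG ha ha2).resolve_left haW
      rcases F.decomp_E hG haE with h' | ⟨e, he, h'⟩
      · exact absurd (F.Z_le h') haW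
      obtain ⟨w, hw, hwz⟩ := F.delta_surj hG he hz
      refine ⟨w, F.W_le_T hw, L.sq w hw, ?_⟩
      have hwc := L.comm w hw _ (F.Z_le h')
      rw [F.isE_inv he] at hwz
      calc w * a * w = w * (a * e) * (e * w) := by
            rw [show w * (a * e) * (e * w) = w * a * (e * e) * w by group, F.isE_sq he, mul_one]
        _ = a * e * (w * (e * w * e)) * e := by
          rw [hwc, show a * e * (w * (e * w * e)) * e = a * e * w * e * w * (e * e) by group,
            F.isE_sq he, mul_one]
          group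
        _ = a * (e * z * e) := by rw [hwz]; group
        _ = a * z := by rw [← F.Z_comm hG hz he, mul_assoc, F.isE_sq he, mul_one]
  rw [← hZ]
  refine Nat.card_congr
    { toFun := fun u => ⟨u₀ * u.1, ?_⟩
      invFun := fun c => ⟨u₀ * c.1, mul_mem hu₀ (F.W_le_T (F.Z_le c.2)), ?_, ?_⟩
      left_inv := fun u => Subtype.ext (by show u₀ * (u₀ * u.1) = u.1; rw [← mul_assoc, hu₀2, one_mul])
      right_inv := fun c => Subtype.ext (by show u₀ * (u₀ * c.1) = c.1; rw [← mul_assoc, hu₀2, one_mul]) }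
  · obtain ⟨u, hu, hu2, hua⟩ := u
    rcases hform u hu hu2 hua with ⟨haW, e, he, hue, hd⟩ | ⟨haW, huW⟩
    · rcases hform u₀ hu₀ hu₀2 hu₀a with ⟨-, e', he', hue', hd'⟩ | ⟨hno, -⟩
      swap
      · exact absurd haW hno
      by_cases hee : e' = e
      · subst hee
        have h2 : u₀ * u = u₀ * e' * (e' * u) := by
          rw [show u₀ * e' * (e' * u) = u₀ * (e' * e') * u by group, F.isE_sq he, mul_one]
        rw [h2]
        refine mul_mem hue' ?_
        have := inv_mem hue
        rwa [mul_inv_rev, F.isE_inv he, inv_eq_of_mul_eq_one_left hu2] at this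
      · exfalso
        have e1 : e * a * e⁻¹ = e' * a * e'⁻¹ := mul_left_cancel (hd.trans hd'.symm)
        have hc : a * (e⁻¹ * e') = e⁻¹ * e' * a := by
          calc a * (e⁻¹ * e') = e⁻¹ * (e * a * e⁻¹) * e' := by group
            _ = e⁻¹ * e' * a := by rw [e1]; group
        rcases F.decomp_E hG (mul_mem (inv_mem (F.isE_mem_E hG he)) (F.isE_mem_E hG he')) with
          h' | ⟨e'', he'', h'⟩
        · have hm : L.m e = L.m e' := by
            have := L.m_of_mem (F.Z_le h')
            rw [L.m_mul (inv_mem (F.isE_mem he)) (F.isE_mem he'), L.m_inv (F.isE_mem he),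
              inv_mul_eq_one] at this
            exact this
          obtain ⟨i, rfl⟩ : ∃ i, F.ev i = e := by
            rcases he with rfl | rfl | rfl
            exacts [⟨1, rfl⟩, ⟨2, rfl⟩, ⟨3, rfl⟩]
          obtain ⟨j, rfl⟩ : ∃ j, F.ev j = e' := by
            rcases he' with rfl | rfl | rfl
            exacts [⟨1, rfl⟩, ⟨2, rfl⟩, ⟨3, rfl⟩]
          exact hee (congrArg F.ev (F.m_ev hm).symm)
        · refine haZ (F.mem_Z_of hG haW he'' ?_)
          have h1 : Commute a (e⁻¹ * e' * e'') := L.comm a haW _ (F.Z_le h')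
          have h2 : Commute a (e⁻¹ * e') := hc
          have h3 := h2.inv_right.mul_right h1
          rwa [inv_mul_cancel_left] at h3
    · rcases hform u₀ hu₀ hu₀2 hu₀a with ⟨hyes, -⟩ | ⟨-, hu₀W⟩
      · exact absurd hyes haW
      have haE := (F.invol_T hG ha ha2).resolve_left haW
      rcases F.decomp_E hG haE with h' | ⟨e, he, h'⟩
      · exact absurd (F.Z_le h') haW
      refine F.mem_Z_of hG (mul_mem hu₀W huW) he ?_
      have hc : Commute (u₀ * u) a := by
        show u₀ * u * a = a * (u₀ * u)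
        calc u₀ * u * a = u₀ * (u * a * u) * (u * u)⁻¹ * u := by group
          _ = u₀ * (a * z) * u := by rw [hua, hu2, inv_one, mul_one]
          _ = u₀ * a * (u₀ * u₀) * z * u := by rw [hu₀2]; group
          _ = u₀ * a * u₀ * (u₀ * z) * u := by group
          _ = a * (u₀ * u) := by
            rw [hu₀a, hTz u₀ hu₀, show a * z * (z * u₀) * u = a * (z * z) * (u₀ * u) by group,
              L.sq z (F.Z_le hz), mul_one]
      have h3 := hc.inv_right.mul_right (show Commute (u₀ * u) (a * e) from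
        L.comm _ (mul_mem hu₀W huW) _ (F.Z_le h'))
      rwa [inv_mul_cancel_left] at h3
  · have hc := hTZ u₀ hu₀ c.1 c.2
    rw [show u₀ * c.1 * (u₀ * c.1) = u₀ * (c.1 * u₀) * c.1 by group, ← hc,
      show u₀ * (u₀ * c.1) * c.1 = (u₀ * u₀) * (c.1 * c.1) by group, hu₀2, one_mul,
      L.sq _ (F.Z_le c.2)]
  · have hc := hTZ u₀ hu₀ c.1 c.2
    have hac := hTZ (a * z) (mul_mem ha (F.W_le_T (F.Z_le hz))) c.1 c.2
    have hac' := hTZ a ha c.1 c.2
    calc u₀ * c.1 * a * (u₀ * c.1) = u₀ * (c.1 * a) * u₀ * c.1 := by group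
      _ = u₀ * a * (c.1 * u₀) * c.1 := by rw [← hac']; group
      _ = (u₀ * a * u₀) * (c.1 * c.1) := by rw [← hc]; group
      _ = a * z := by rw [hu₀a, L.sq _ (F.Z_le c.2), mul_one]

end Frame

end LocA5

end CfsgLib.Recog.EPOFive
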