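import Cfsg.Agent.Lib.Recog.EPOFive.LocalCount

/-!
The counting equation for the fixed space of order four has no solution.
-/

set_option autoImplicit false

namespace CfsgLib.Recog.EPOFive

open Subgroup
open scoped Pointwise

universe u

/-- The involutions split by the order of the product with a fixed one. -/
theorem sum_orders {G : Type u} [Group G] [Finite G] (hG : Spec G) (z : G) :
    Nat.card {u : G // orderOf u = 2} =
      Nat.card {u : G // orderOf u = 2 ∧ orderOf (z * u) ≤ 2} +
      Nat.card {u : G // orderOf u = 2 ∧ orderOf (z * u) = 3} +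
      Nat.card {u : G // orderOf u = 2 ∧ orderOf (z * u) = 4} +
      Nat.card {u : G // orderOf u = 2 ∧ orderOf (z * u) = 5} := by
  classical
  have := Fintype.ofFinite G
  simp only [Nat.card_eq_fintype_card, Fintype.card_subtype]
  rw [← Finset.card_union_of_disjoint, ← Finset.card_union_of_disjoint, ← Finset.card_union_of_disjoint]
  · congr 1
    ext u
    simp only [Finset.mem_filter, Finset.mem_univ, true_and, Finset.mem_union]
    constructor
    · intro hu
      rcases hG.orderOf_cases (z * u) with e | e | e | e | e <;> simp [hu, e]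
    · rintro (((h | h) | h) | h) <;> exact h.1
  all_goals
    rw [Finset.disjoint_left]
    intro u h1 h2
    simp only [Finset.mem_filter, Finset.mem_univ, true_and, Finset.mem_union] at h1 h2
    omega

/-- Ordered pairs of involutions with product of order `p`. -/
theorem card_pairs {G : Type u} [Group G] [Finite G] (hG : Spec G) {p : ℕ} (R : RealElt G p)
    {z : G} (hz : orderOf z = 2) (hcl : ∀ u : G, orderOf u = 2 → ∃ g, g * z * g⁻¹ = u) :
    Nat.card {u : G // orderOf u = 2} * Nat.card {u : G // orderOf u = 2 ∧ orderOf (z * u) = p} =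
      Nat.card {g : G // orderOf g = p} * Nat.card R.P := by
  classical
  have := Fintype.ofFinite G
  choose c hc using hcl
  let X := Σ i : {u : G // orderOf u = 2}, {u : G // orderOf u = 2 ∧ orderOf (i.1 * u) = p}
  have h1 : Nat.card X =
      Nat.card {u : G // orderOf u = 2} * Nat.card {u : G // orderOf u = 2 ∧ orderOf (z * u) = p} := by
    have hfib : ∀ i : {u : G // orderOf u = 2},
        Nat.card {u : G // orderOf u = 2 ∧ orderOf (i.1 * u) = p} =
          Nat.card {u : G // orderOf u = 2 ∧ orderOf (z * u) = p} := by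
      rintro ⟨i, hi⟩
      refine (Nat.card_congr (Equiv.subtypeEquiv (MulAut.conj (c i hi)).toEquiv fun u => ?_)).symm
      simp only [MulEquiv.toEquiv_eq_coe, EquivLike.coe_coe]
      have e2 : i * MulAut.conj (c i hi) u = MulAut.conj (c i hi) (z * u) := by
        rw [map_mul, MulAut.conj_apply _ z, hc i hi]
      rw [e2, MulEquiv.orderOf_eq, MulEquiv.orderOf_eq]
    rw [Nat.card_sigma, Finset.sum_congr rfl (fun i _ => hfib i), Finset.sum_const, Finset.card_univ,
      smul_eq_mul, ← Nat.card_eq_fintype_card]
  have hp : (p : ℕ) ≠ 2 := R.ne_two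
  let Y := Σ x : {g : G // orderOf g = p}, {i : G // orderOf i = 2 ∧ i * x.1 * i⁻¹ = x.1⁻¹}
  have h2 : Nat.card Y = Nat.card {g : G // orderOf g = p} * Nat.card R.P := by
    have hfib : ∀ x : {g : G // orderOf g = p},
        Nat.card {i : G // orderOf i = 2 ∧ i * x.1 * i⁻¹ = x.1⁻¹} = Nat.card R.P := by
      rintro ⟨x, hx⟩
      obtain ⟨k, hk, hk1⟩ := R.exists_conj hG hx
      rw [← R.card_inverting hG hk hk1]
      refine Nat.card_congr (Equiv.subtypeEquiv (MulAut.conj k⁻¹).toEquiv fun u => ?_)
      simp only [MulEquiv.toEquiv_eq_coe, EquivLike.coe_coe]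
      refine and_congr (by rw [MulEquiv.orderOf_eq]) ?_
      have e : ∀ y : G, k⁻¹ * y * k = MulAut.conj k⁻¹ y := fun y => by simp
      rw [e x, ← map_inv, ← map_inv, ← map_mul, ← map_mul]
      exact ((MulAut.conj k⁻¹).injective.eq_iff).symm
    rw [Nat.card_sigma, Finset.sum_congr rfl (fun x _ => hfib x), Finset.sum_const, Finset.card_univ,
      smul_eq_mul, ← Nat.card_eq_fintype_card]
  let e : X ≃ Y :=
    { toFun := fun s => ⟨⟨s.1.1 * s.2.1, s.2.2.2⟩, ⟨s.1.1, s.1.2, by
        obtain ⟨⟨i, hi⟩, ⟨u, hu, -⟩⟩ := s
        show i * (i * u) * i⁻¹ = (i * u)⁻¹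
        rw [mul_inv_rev, invol_inv hi, invol_inv hu, ← mul_assoc i i u, invol_sq hi, one_mul]⟩⟩
      invFun := fun s => ⟨⟨s.2.1, s.2.2.1⟩, ⟨s.2.1 * s.1.1, by
        obtain ⟨⟨x, hx⟩, ⟨i, hi, hix⟩⟩ := s
        refine ⟨orderOf_eq_prime ?_ fun e => ?_, by
          show orderOf (i * (i * x)) = p
          rw [← mul_assoc, invol_sq hi, one_mul, hx]⟩
        · rw [invol_inv hi] at hix
          show (i * x) ^ 2 = 1
          rw [pow_two, show i * x * (i * x) = i * x * i * x by group, hix, inv_mul_cancel]
        · have e' : i * x = 1 := e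
          have : x = i := by rw [eq_inv_of_mul_eq_one_right e', invol_inv hi]
          rw [this, hi] at hx
          exact hp hx.symm⟩⟩
      left_inv := fun s => by
        obtain ⟨⟨i, hi⟩, ⟨u, hu⟩⟩ := s
        have : i * (i * u) = u := by rw [← mul_assoc, invol_sq hi, one_mul]
        exact Sigma.ext rfl (heq_of_eq (Subtype.ext this))
      right_inv := fun s => by
        obtain ⟨⟨x, hx⟩, ⟨i, hi⟩⟩ := s
        have : i * (i * x) = x := by rw [← mul_assoc, invol_sq hi.1, one_mul]
        refine Sigma.subtype_ext (Subtype.ext this) rfl }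
  rw [← h1, ← h2, Nat.card_congr e]

namespace LocA5

namespace Frame

variable {G : Type u} [Group G] [Finite G] {L : LocA5 G} (F : L.Frame)

include F in
theorem no_four (h : Ctx G) (hZ : Nat.card F.Z = 4) : False := by
  classical
  have hG := h.spec
  obtain ⟨hW, hE, hT⟩ := F.cards hG hZ
  obtain ⟨z, hz, hz1⟩ : ∃ z ∈ F.Z, z ≠ 1 := by
    by_contra hc
    push Not at hc
    rw [(F.Z.eq_bot_iff_forall).2 hc, Subgroup.card_bot] at hZ
    omega
  have hz2 : orderOf z = 2 := L.orderOf_of_mem (F.Z_le hz) hz1
  have hCz := F.centralizer_Z hG hZ hz hz1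
  have hcl := F.four_conj h hZ hz hz1
  have hn := card_conj_invol z hz2 hcl
  rw [hCz, hT] at hn
  -- the involutions of `T`
  have := Fintype.ofFinite G
  have hTW : ∀ a, (a ∈ F.T ∧ a * a = 1) ↔ (a ∈ L.W ∨ a ∈ F.E) := fun a =>
    ⟨fun ha => F.invol_T hG ha.1 ha.2, fun ha => ha.elim (fun h' => ⟨F.W_le_T h', L.sq a h'⟩)
      fun h' => ⟨F.E_le_T h', (F.E_elem hG).2 a h'⟩⟩
  have hcardset : ∀ H : Subgroup G, (Finset.univ.filter (· ∈ H)).card = Nat.card H := fun H => by
    rw [Nat.card_eq_fintype_card]; exact (Fintype.card_subtype _).symm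
  have h28 : (Finset.univ.filter (fun a : G => a ∈ F.T ∧ a * a = 1)).card = 28 := by
    have hu : Finset.univ.filter (fun a : G => a ∈ F.T ∧ a * a = 1) =
        Finset.univ.filter (· ∈ L.W) ∪ Finset.univ.filter (· ∈ F.E) := by
      ext a; simp [hTW]
    have hi : Finset.univ.filter (· ∈ L.W) ∩ Finset.univ.filter (· ∈ F.E) =
        Finset.univ.filter (· ∈ F.Z) := by
      ext a
      simp only [Finset.mem_inter, Finset.mem_filter, Finset.mem_univ, true_and]
      exact ⟨fun ha => F.W_inf_E hG ha.1 ha.2, fun ha => ⟨F.Z_le ha, F.Z_le_E hG ha⟩⟩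
    have := Finset.card_union_add_card_inter (Finset.univ.filter (· ∈ L.W))
      (Finset.univ.filter (· ∈ F.E))
    rw [← hu, hi, hcardset, hcardset, hcardset, hW, hE, hZ] at this
    omega
  -- order at most two
  have h27 : Nat.card {u : G // orderOf u = 2 ∧ orderOf (z * u) ≤ 2} = 27 := by
    rw [Nat.card_eq_fintype_card, Fintype.card_subtype]
    have : Finset.univ.filter (fun u : G => orderOf u = 2 ∧ orderOf (z * u) ≤ 2) =
        (Finset.univ.filter (fun a : G => a ∈ F.T ∧ a * a = 1)).erase 1 := by
      ext u
      simp only [Finset.mem_filter, Finset.mem_univ, true_and, Finset.mem_erase]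
      constructor
      · rintro ⟨hu, hle⟩
        refine ⟨fun e => by rw [e, orderOf_one] at hu; omega, ?_, invol_sq hu⟩
        rw [← hCz]
        refine mem_centralizer_of_commute ?_
        show u * z = z * u
        have hsq : (z * u) * (z * u) = 1 := by
          rcases Nat.lt_or_ge (orderOf (z * u)) 2 with hlt | hge
          · have := orderOf_pos (z * u)
            rw [orderOf_eq_one_iff.1 (show orderOf (z * u) = 1 by omega), one_mul]
          · exact invol_sq (by omega)
        calc u * z = (z * z) * u * z * (u * u) := by rw [invol_sq hz2, invol_sq hu, one_mul, mul_one]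
          _ = z * (z * u * (z * u)) * u := by group
          _ = z * u := by rw [hsq, mul_one]
      · rintro ⟨hu1, huT, hu2⟩
        refine ⟨orderOf_eq_prime (by rw [pow_two, hu2]) hu1, ?_⟩
        have hc : u * z = z * u := Subgroup.mem_centralizer_singleton_iff.1 (hCz.ge huT)
        refine Nat.le_of_dvd (by norm_num) (orderOf_dvd_of_pow_eq_one ?_)
        rw [pow_two, show z * u * (z * u) = z * (u * z) * u by group, hc, ← mul_assoc,
          invol_sq hz2, one_mul, hu2]
    rw [this, Finset.card_erase_of_mem (by simp), h28]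
  -- order four
  have h96 : Nat.card {u : G // orderOf u = 2 ∧ orderOf (z * u) = 4} = 96 := by
    let J := {j : G // j ∈ F.T ∧ j * j = 1 ∧ j ∉ F.Z}
    have hJ : Nat.card J = 24 := by
      rw [Nat.card_eq_fintype_card, Fintype.card_subtype]
      have : Finset.univ.filter (fun j : G => j ∈ F.T ∧ j * j = 1 ∧ j ∉ F.Z) =
          Finset.univ.filter (fun a : G => a ∈ F.T ∧ a * a = 1) \ Finset.univ.filter (· ∈ F.Z) := by
        ext a; simp [and_assoc]
      rw [this, Finset.card_sdiff_of_subset, h28, hcardset, hZ]
      intro a ha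
      simp only [Finset.mem_filter, Finset.mem_univ, true_and] at ha ⊢
      exact ⟨F.W_le_T (F.Z_le ha), L.sq a (F.Z_le ha)⟩
    have hfib : ∀ j : J, Nat.card {u : G // orderOf u = 2 ∧ u * z * u = z * j.1} = 4 := by
      rintro ⟨j, hj, hj2, hjZ⟩
      have hj1 : j ≠ 1 := fun e => hjZ (e ▸ one_mem _)
      have hjo : orderOf j = 2 := orderOf_eq_prime (by rw [pow_two, hj2]) hj1
      obtain ⟨g, hg⟩ := hcl j hjo
      set a := g⁻¹ * z * g with ha
      have hjz : z * j = j * z := (Subgroup.mem_centralizer_singleton_iff.1 (hCz.ge hj)).symm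
      have haT : a ∈ F.T := by
        rw [← hCz]
        refine mem_centralizer_of_commute ?_
        show a * z = z * a
        calc a * z = g⁻¹ * (z * j) * g := by rw [ha, ← hg]; group
          _ = z * a := by rw [hjz, ha, ← hg]; group
      have ha2 : a * a = 1 := by
        rw [ha, show g⁻¹ * z * g * (g⁻¹ * z * g) = g⁻¹ * (z * z) * g by group, invol_sq hz2]
        group
      have haZ : a ∉ F.Z := by
        intro haZ
        have ha1 : a ≠ 1 := fun e => hz1 (by
          calc z = g * (g⁻¹ * z * g) * g⁻¹ := by group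
            _ = 1 := by rw [← ha, e]; group)
        have hCa := F.centralizer_Z hG hZ haZ ha1
        -- `j` is then central in `T`
        apply hjZ
        have hall : ∀ t ∈ F.T, t * j = j * t := by
          intro t ht
          have h1 : g⁻¹ * t * g ∈ F.T := by
            rw [← hCa]
            refine mem_centralizer_of_commute ?_
            show g⁻¹ * t * g * a = a * (g⁻¹ * t * g)
            calc g⁻¹ * t * g * a = g⁻¹ * (t * z) * g := by rw [ha]; group
              _ = _ := by rw [Subgroup.mem_centralizer_singleton_iff.1 (hCz.ge ht), ha]; group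
          have h2 := Subgroup.mem_centralizer_singleton_iff.1 (hCz.ge h1)
          calc t * j = g * (g⁻¹ * t * g * z) * g⁻¹ := by rw [← hg]; group
            _ = j * t := by rw [h2, ← hg]; group
        rcases F.invol_T hG hj hj2 with hjW | hjE
        · exact F.mem_Z_of hG hjW (Or.inl rfl) (hall F.v (F.E_le_T (F.isE_mem_E hG (Or.inl rfl)))).symm
        · rcases F.decomp_E hG hjE with h' | ⟨e', he', h'⟩
          · exact h'
          exfalso
          have hWc : ∀ w ∈ L.W, w * e' = e' * w := by
            intro w hw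
            have h1 : Commute w (j * e') := L.comm w hw _ (F.Z_le h')
            have h2 : Commute w j := hall w (F.W_le_T hw)
            have h3 := h2.inv_right.mul_right h1
            rwa [inv_mul_cancel_left] at h3
          have : Nat.card L.W ≤ Nat.card F.Z := Subgroup.card_le_of_le fun w hw =>
            F.mem_Z_of hG hw he' (hWc w hw)
          omega
      refine Eq.trans (Nat.card_congr ?_) (F.card_shift h hZ haT ha2 haZ hz hz1)
      refine Equiv.subtypeEquiv (MulAut.conj g⁻¹).toEquiv fun u => ?_
      simp only [MulEquiv.toEquiv_eq_coe, EquivLike.coe_coe, MulAut.conj_apply, inv_inv]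
      constructor
      · rintro ⟨hu, hue⟩
        refine ⟨?_, ?_, ?_⟩
        · rw [← hCz]
          refine mem_centralizer_of_commute ?_
          have hju : u * j = j * u := by
            have hj' : j = z * (u * z * u) := by rw [hue, ← mul_assoc, invol_sq hz2, one_mul]
            have hji : j⁻¹ = j := inv_eq_of_mul_eq_one_left hj2
            calc u * j = (z * (u * z * u))⁻¹ * u := by
                  rw [hj', mul_inv_rev, mul_inv_rev, mul_inv_rev, invol_inv hu, invol_inv hz2]
                  rw [show u * (z * u) * z * u = u * (z * (u * z * u)) by group]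
              _ = j * u := by rw [← hj', hji]
          show g⁻¹ * u * g * z = z * (g⁻¹ * u * g)
          calc g⁻¹ * u * g * z = g⁻¹ * (u * j) * g := by rw [← hg]; group
            _ = z * (g⁻¹ * u * g) := by rw [hju, ← hg]; group
        · rw [show g⁻¹ * u * g * (g⁻¹ * u * g) = g⁻¹ * (u * u) * g by group, invol_sq hu]; group
        · calc g⁻¹ * u * g * a * (g⁻¹ * u * g) = g⁻¹ * (u * z * u) * g := by rw [ha]; group
            _ = a * z := by rw [hue, ha, ← hg]; group
      · rintro ⟨-, hu2, hua⟩
        refine ⟨orderOf_eq_prime ?_ fun e => ?_, ?_⟩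
        · rw [pow_two]
          calc u * u = g * (g⁻¹ * u * g * (g⁻¹ * u * g)) * g⁻¹ := by group
            _ = 1 := by rw [hu2]; group
        · subst e
          apply hz1
          have : a = a * z := by rw [← hua]; group
          exact left_eq_mul.1 this
        · calc u * z * u = g * (g⁻¹ * u * g * a * (g⁻¹ * u * g)) * g⁻¹ := by rw [ha]; group
            _ = z * j := by rw [hua, ha, ← hg]; group
    have e : {u : G // orderOf u = 2 ∧ orderOf (z * u) = 4} ≃
        Σ j : J, {u : G // orderOf u = 2 ∧ u * z * u = z * j.1} :=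
      { toFun := fun u => ⟨⟨z * u.1 * (z * u.1), by
          obtain ⟨u, hu, hzu⟩ := u
          have hzi := invol_inv hz2
          have h4 := pow_orderOf_eq_one (z * u)
          rw [hzu] at h4
          have hj2 : z * u * (z * u) * (z * u * (z * u)) = 1 := by
            rw [← h4]; simp [pow_succ, mul_assoc]
          have hj1 : z * u * (z * u) ≠ 1 := fun e => by
            have : orderOf (z * u) ∣ 2 := orderOf_dvd_of_pow_eq_one (by rw [pow_two, e])
            rw [hzu] at this
            omega
          have hjT : z * u * (z * u) ∈ F.T := by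
            rw [← hCz]
            refine mem_centralizer_of_commute ?_
            show z * u * (z * u) * z = z * (z * u * (z * u))
            have hinv : u * z * u * z = z * u * (z * u) := by
              rw [← inv_eq_of_mul_eq_one_left hj2, mul_inv_rev, mul_inv_rev, invol_inv hu, hzi]
              group
            calc z * u * (z * u) * z = z * (u * z * u * z) := by group
              _ = _ := by rw [hinv]
          refine ⟨hjT, hj2, fun hjZ => ?_⟩
          have huC : u ∈ F.T := by
            rw [← F.centralizer_Z hG hZ hjZ hj1]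
            refine mem_centralizer_of_commute ?_
            show u * (z * u * (z * u)) = z * u * (z * u) * u
            conv_lhs => rw [← inv_eq_of_mul_eq_one_left hj2, mul_inv_rev, mul_inv_rev, invol_inv hu, hzi]
            simp only [mul_assoc, invol_sq hu, mul_one]
            rw [← mul_assoc u u, invol_sq hu, one_mul]
          have hc : u * z = z * u := Subgroup.mem_centralizer_singleton_iff.1 (hCz.ge huC)
          apply hj1
          rw [show z * u * (z * u) = z * (u * z) * u by group, hc, ← mul_assoc, invol_sq hz2, one_mul,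
            invol_sq hu]⟩, ⟨u.1, u.2.1, by
          show u.1 * z * u.1 = z * (z * u.1 * (z * u.1))
          rw [← mul_assoc, ← mul_assoc z z u.1, invol_sq hz2, one_mul, mul_assoc u.1 z u.1]⟩⟩
        invFun := fun s => ⟨s.2.1, s.2.2.1, by
          obtain ⟨⟨j, hjT, hj2, hjZ⟩, ⟨u, hu, hue⟩⟩ := s
          have : Fact (Nat.Prime 2) := ⟨Nat.prime_two⟩
          have hsq : z * u * (z * u) = j := by
            rw [show z * u * (z * u) = z * (u * z * u) by group, hue, ← mul_assoc, invol_sq hz2, one_mul]
          refine orderOf_eq_prime_pow (p := 2) (n := 1) ?_ ?_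
          · simp only [pow_one, pow_two, hsq]
            exact fun e => hjZ (e ▸ one_mem _)
          · show (z * u) ^ 4 = 1
            rw [show (z * u) ^ 4 = z * u * (z * u) * (z * u * (z * u)) by simp [pow_succ, mul_assoc],
              hsq, hj2]⟩
        left_inv := fun u => rfl
        right_inv := fun s => by
          obtain ⟨⟨j, hjT, hj2, hjZ⟩, ⟨u, hu, hue⟩⟩ := s
          refine Sigma.subtype_ext (Subtype.ext ?_) rfl
          show z * u * (z * u) = j
          rw [show z * u * (z * u) = z * (u * z * u) by group, hue, ← mul_assoc, invol_sq hz2, one_mul] }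
    rw [Nat.card_congr e, Nat.card_sigma, Finset.sum_congr rfl (fun j _ => hfib j), Finset.sum_const,
      Finset.card_univ, smul_eq_mul, ← Nat.card_eq_fintype_card, hJ]
  -- odd orders
  have hodd : ∀ {p : ℕ} (R : RealElt G p), ∃ A, (A = 32 ∨ A = 16 ∨ A = 8) ∧
      Nat.card {u : G // orderOf u = 2 ∧ orderOf (z * u) = p} =
        A * (p ^ (Nat.card G).factorization p - 1) := by
    intro p R
    obtain ⟨e, he, heN⟩ := R.card_normalizer hG
    have h1 := card_pairs hG R hz2 hcl
    have h2 := R.card_orderOf_eq hG
    rw [heN, ← hn] at h2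
    set c := Nat.card {u : G // orderOf u = 2 ∧ orderOf (z * u) = p}
    set n := Nat.card {u : G // orderOf u = 2}
    set P := Nat.card R.P with hPdef
    have hP : P = p ^ (Nat.card G).factorization p := R.card_P hG
    have hn0 : 0 < n := by
      by_contra hcon
      rw [show n = 0 by omega, zero_mul] at hn
      exact absurd hn.symm Nat.card_pos.ne'
    have hP0 : 0 < P := Nat.card_pos
    have hce : c * e = 64 * (P - 1) := by
      refine Nat.eq_of_mul_eq_mul_left (Nat.mul_pos hn0 hP0) ?_
      calc n * P * (c * e) = (n * c) * (e * P) := by ring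
        _ = (Nat.card {g : G // orderOf g = p} * (e * P)) * P := by rw [h1]; ring
        _ = n * P * (64 * (P - 1)) := by rw [h2]; ring
    rw [hP] at hce
    rcases he with rfl | rfl | rfl
    · exact ⟨32, Or.inl rfl, by omega⟩
    · exact ⟨16, Or.inr (Or.inl rfl), by omega⟩
    · exact ⟨8, Or.inr (Or.inr rfl), by omega⟩
  let R3 : RealElt G 3 := ⟨F.v, F.x, F.hv, F.hx, F.inv, Or.inl rfl⟩
  obtain ⟨A, hA, hA'⟩ := hodd R3
  obtain ⟨B, hB, hB'⟩ := hodd F.R5
  have hsum := sum_orders hG z
  rw [h27, h96, hA', hB'] at hsum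
  -- the order of the group
  have : Fact (Nat.Prime 2) := ⟨Nat.prime_two⟩
  obtain ⟨S, hS⟩ := (F.T_isPGroup hG hZ).exists_le_sylow
  have h2G : 2 ^ (Nat.card G).factorization 2 = 64 := by
    rw [← Sylow.card_eq_multiplicity S, F.T_max hG hZ S.2 hS, hT]
  have hb : 2 ≤ (Nat.card G).factorization 3 :=
    (Nat.Prime.pow_dvd_iff_le_factorization Nat.prime_three Nat.card_pos.ne').1 (by simpa using h.nine)
  have hc : 1 ≤ (Nat.card G).factorization 5 :=
    (Nat.Prime.pow_dvd_iff_le_factorization Nat.prime_five Nat.card_pos.ne').1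
      (by rw [pow_one, ← F.R5.hx]; exact orderOf_dvd_natCard _)
  have hG' := card_eq_primes hG
  obtain ⟨b, hbe⟩ : ∃ b, b = (Nat.card G).factorization 3 := ⟨_, rfl⟩
  obtain ⟨c, hce⟩ : ∃ c, c = (Nat.card G).factorization 5 := ⟨_, rfl⟩
  rw [← hbe] at hb hsum hG'
  rw [← hce] at hc hsum hG'
  rw [h2G, ← hn, hsum, mul_assoc 64] at hG'
  refine four_arith hb hc hA hB ?_
  omega

end Frame

end LocA5

end CfsgLib.Recog.EPOFive
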