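import Cfsg.Agent.Lib.Recog.EPOFive.LocalCore

/-!
Elements and elementary abelian subgroups of the normaliser.
-/

set_option autoImplicit false

namespace CfsgLib.Recog.EPOFive

open Subgroup

universe u

/-- A proper subgroup of a 2-group is properly contained in its normaliser. -/
theorem exists_normalizing {G : Type*} [Group G] [Finite G] {T H : Subgroup G} (hT : IsPGroup 2 T)
    (hle : H ≤ T) (hne : ¬ T ≤ H) : ∃ g ∈ T, g ∉ H ∧ ∀ h ∈ H, g * h * g⁻¹ ∈ H := by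
  have : Fact (Nat.Prime 2) := ⟨Nat.prime_two⟩
  have := hT.isNilpotent
  have hlt : H.subgroupOf T < ⊤ := lt_top_iff_ne_top.2 fun e => hne fun g hg => by
    have : (⟨g, hg⟩ : T) ∈ H.subgroupOf T := e ▸ Subgroup.mem_top _
    exact Subgroup.mem_subgroupOf.1 this
  obtain ⟨g, hg, hgH⟩ := SetLike.exists_of_lt (Group.normalizerCondition_of_isNilpotent (G := T) _ hlt)
  refine ⟨g, g.2, fun h => hgH (Subgroup.mem_subgroupOf.2 h), fun h hh => ?_⟩
  exact Subgroup.mem_subgroupOf.1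
    ((Subgroup.mem_normalizer_iff.1 hg ⟨h, hle hh⟩).1 (Subgroup.mem_subgroupOf.2 hh))

theorem subgroupOf_conj {G : Type*} [Group G] (g : G) (H : Subgroup G) (x : G) :
    x ∈ H.map (MulAut.conj g).toMonoidHom ↔ g⁻¹ * x * g ∈ H := by
  rw [Subgroup.mem_map_equiv]
  simp [MulAut.conj_symm_apply]

namespace LocA5

namespace Frame

variable {G : Type u} [Group G] [Finite G] {L : LocA5 G} (F : L.Frame) (hG : Spec G)

omit [Finite G] in
theorem y_v'' : F.y * F.v'' * F.y⁻¹ = F.v := by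
  calc F.y * F.v'' * F.y⁻¹ = F.y * F.y * F.y * F.v * (F.y * F.y * F.y)⁻¹ := by
        simp only [Frame.v'', Frame.v']; group
    _ = F.v := by rw [F.y_pow]; simp

omit [Finite G] in
theorem mem_W_of_sq {g : G} (hg : g ∈ L.W) : g * g = 1 := L.sq g hg

include hG in
theorem Z_comm {z : G} (hz : z ∈ F.Z) {e : G} (he : F.IsE e) : z * e = e * z := by
  obtain ⟨hzW, hzv⟩ := F.mem_Z.1 hz
  have h' := ((F.Z_facts hG).2.1 z hzW).2 hzv
  rcases he with rfl | rfl | rfl
  · exact hzv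
  · exact h'
  · rw [(F.v''_eq hG).1, ← mul_assoc, hzv, mul_assoc, h', ← mul_assoc]

include hG in
theorem mem_Z_of {w e : G} (hw : w ∈ L.W) (he : F.IsE e) (hc : w * e = e * w) : w ∈ F.Z := by
  rcases he with rfl | rfl | rfl
  · exact F.mem_Z.2 ⟨hw, hc⟩
  · exact F.mem_Z.2 ⟨hw, ((F.Z_facts hG).2.1 w hw).1 hc⟩
  · set u := F.y * w * F.y⁻¹ with hu
    have huW : u ∈ L.W := L.conj_mem F.yN hw
    have huZ : u ∈ F.Z := F.mem_Z.2 ⟨huW, by
      calc u * F.v = F.y * (w * F.v'') * F.y⁻¹ := by rw [← F.y_v'']; simp only [hu]; group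
        _ = F.v * u := by rw [hc, ← F.y_v'']; simp only [hu]; group⟩
    refine F.mem_Z.2 ⟨hw, ?_⟩
    have h := F.Z_comm hG huZ (Or.inr (Or.inl rfl))
    calc w * F.v = F.y⁻¹ * (u * F.v') * F.y := by simp only [hu, Frame.v']; group
      _ = F.v * w := by rw [h]; simp only [hu, Frame.v']; group

include hG in
theorem delta_mem {w e : G} (hw : w ∈ L.W) (he : F.IsE e) : w * (e * w * e⁻¹) ∈ F.Z := by
  have hew : e * w * e⁻¹ ∈ L.W := L.conj_mem (F.isE_mem he) hw
  refine F.mem_Z_of hG (mul_mem hw hew) he ?_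
  have hc := L.comm _ hw _ hew
  calc w * (e * w * e⁻¹) * e = w * e * w := by group
    _ = e * (e⁻¹ * (w * e * w)) := by group
    _ = e * (w * (e * w * e⁻¹)) := by
      rw [hc, F.isE_inv he]
      simp only [mul_assoc]

include hG in
theorem y_Z {z : G} (hz : z ∈ F.Z) : F.y * z * F.y⁻¹ ∈ F.Z := by
  refine F.mem_Z_of hG (L.conj_mem F.yN (F.Z_le hz)) (Or.inr (Or.inl rfl)) ?_
  calc F.y * z * F.y⁻¹ * F.v' = F.y * (z * F.v) * F.y⁻¹ := by simp only [Frame.v']; group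
    _ = F.v' * (F.y * z * F.y⁻¹) := by rw [(F.mem_Z.1 hz).2]; simp only [Frame.v']; group

include hG in
theorem four_le_Z : 4 ≤ Nat.card F.Z := by
  have : Fact (Nat.Prime 2) := ⟨Nat.prime_two⟩
  obtain ⟨k, hk⟩ := IsPGroup.iff_card.1 (L.isPGroup.to_le F.Z_le)
  have hW := (F.Z_facts hG).1
  rcases k with _ | _ | k
  · exfalso
    apply L.ne
    rw [← Subgroup.card_eq_one, hW, hk, pow_zero, one_mul]
  · exfalso
    obtain ⟨z, hz, hz1⟩ : ∃ z ∈ F.Z, z ≠ 1 := by
      by_contra hc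
      push Not at hc
      rw [(F.Z.eq_bot_iff_forall).2 hc, Subgroup.card_bot] at hk
      omega
    have huniq : ∀ a ∈ F.Z, a = 1 ∨ a = z := by
      intro a ha
      by_contra hcon
      push Not at hcon
      let f : Fin 3 → F.Z := ![1, ⟨z, hz⟩, ⟨a, ha⟩]
      have hf : Function.Injective f := by
        intro i j hij
        have h' := congrArg Subtype.val hij
        fin_cases i <;> fin_cases j <;> simp [f] at hij h' ⊢
        all_goals first
          | exact hz1 h' | exact hz1 h'.symm | exact hcon.1 h' | exact hcon.1 h'.symm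
          | exact hcon.2 h' | exact hcon.2 h'.symm | exact hz1 (by simpa using congrArg Subtype.val hij)
          | exact hz1 (by simpa using congrArg Subtype.val hij.symm)
      have := Nat.card_le_card_of_injective f hf
      rw [Nat.card_fin, hk] at this
      omega
    rcases huniq _ (F.y_Z hG hz) with e | e
    · exact hz1 (conj_eq_one_iff.1 e)
    · have hc : Commute F.y z := mul_inv_eq_iff_eq_mul.1 e
      have hy1 : F.y ≠ 1 := fun e' => by have := F.hy; rw [e', orderOf_one] at this; omega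
      exact hz1 (hG.eq_one_of_commute hc hy1 (by
        rw [F.hy, L.orderOf_of_mem (F.Z_le hz) hz1]; norm_num))
  · rw [hk]
    calc 4 = 2 ^ 2 := rfl
      _ ≤ 2 ^ (k + 1 + 1) := Nat.pow_le_pow_right (by norm_num) (by omega)

/-- The preimage of the standard four group. -/
def T (_F : L.Frame) : Subgroup G where
  carrier := {g | g ∈ L.N ∧ L.m g * Alt.a5 = Alt.a5 * L.m g}
  one_mem' := ⟨one_mem _, by rw [L.m_of_mem (one_mem _)]; simp⟩
  mul_mem' := by
    rintro a b ⟨ha, ha'⟩ ⟨hb, hb'⟩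
    exact ⟨mul_mem ha hb, by rw [L.m_mul ha hb, mul_assoc, hb', ← mul_assoc, ha', mul_assoc]⟩
  inv_mem' := by
    rintro a ⟨ha, ha'⟩
    exact ⟨inv_mem ha, by rw [L.m_inv ha]; exact (Commute.inv_left ha').eq⟩

/-- The centraliser of the first involution in the normaliser. -/
def E : Subgroup G := L.N ⊓ Subgroup.centralizer ({F.v} : Set G)

omit [Finite G] in
theorem mem_T {g : G} : g ∈ F.T ↔ g ∈ L.N ∧ L.m g * Alt.a5 = Alt.a5 * L.m g := Iff.rfl

omit [Finite G] in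
theorem W_le_T : L.W ≤ F.T := fun w hw => ⟨L.W_le hw, by rw [L.m_of_mem hw]; simp⟩

omit [Finite G] in
theorem mem_E {g : G} : g ∈ F.E ↔ g ∈ L.N ∧ g * F.v = F.v * g := by
  rw [E, Subgroup.mem_inf, Subgroup.mem_centralizer_singleton_iff]

omit [Finite G] in
theorem decomp {g : G} (hg : g ∈ F.T) : g ∈ L.W ∨ ∃ e, F.IsE e ∧ g * e ∈ L.W := by
  obtain ⟨hgN, hc⟩ := hg
  have key : ∀ e, F.IsE e → L.m g = L.m e → g * e ∈ L.W := fun e he hm => by
    rw [← L.m_eq_one_iff (mul_mem hgN (F.isE_mem he)), L.m_mul hgN (F.isE_mem he), hm,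
      ← L.m_mul (F.isE_mem he) (F.isE_mem he), F.isE_sq he]
    exact L.m_of_mem (one_mem _)
  rcases Alt.five_centralizer _ hc with h | h | h | h
  · exact Or.inl ((L.m_eq_one_iff hgN).1 h)
  · exact Or.inr ⟨F.v, Or.inl rfl, key _ (Or.inl rfl) (h.trans F.mv.symm)⟩
  · exact Or.inr ⟨F.v', Or.inr (Or.inl rfl), key _ (Or.inr (Or.inl rfl)) (h.trans F.mv'.symm)⟩
  · exact Or.inr ⟨F.v'', Or.inr (Or.inr rfl), key _ (Or.inr (Or.inr rfl)) (h.trans F.mv''.symm)⟩

omit [Finite G] in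
theorem E_le_T : F.E ≤ F.T := fun g hg => by
  obtain ⟨hgN, hc⟩ := F.mem_E.1 hg
  refine ⟨hgN, ?_⟩
  rw [← F.mv, ← L.m_mul hgN F.vN, ← L.m_mul F.vN hgN, hc]

include hG in
theorem isE_mem_E {e : G} (he : F.IsE e) : e ∈ F.E := by
  refine F.mem_E.2 ⟨F.isE_mem he, ?_⟩
  obtain ⟨hvv, hcom⟩ := F.v''_eq hG
  rcases he with rfl | rfl | rfl
  · rfl
  · exact hcom.symm
  · rw [hvv, mul_assoc, ← hcom]

include hG in
theorem Z_le_E : F.Z ≤ F.E := fun z hz => F.mem_E.2 ⟨L.W_le (F.Z_le hz), (F.mem_Z.1 hz).2⟩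

include hG in
theorem decomp_E {g : G} (hg : g ∈ F.E) : g ∈ F.Z ∨ ∃ e, F.IsE e ∧ g * e ∈ F.Z := by
  have hcv := (F.mem_E.1 hg).2
  rcases F.decomp (F.E_le_T hg) with h | ⟨e, he, h⟩
  · exact Or.inl (F.mem_Z.2 ⟨h, hcv⟩)
  · exact Or.inr ⟨e, he, F.mem_Z.2 ⟨h, (F.mem_E.1 (mul_mem hg (F.isE_mem_E hG he))).2⟩⟩

include hG in
theorem isE_comm {e e' : G} (he : F.IsE e) (he' : F.IsE e') : e * e' = e' * e := by
  obtain ⟨hvv, hcom⟩ := F.v''_eq hG
  have h3 : F.v * F.v'' = F.v'' * F.v := ((F.mem_E.1 (F.isE_mem_E hG (Or.inr (Or.inr rfl)))).2).symm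
  have h4 : F.v' * F.v'' = F.v'' * F.v' := by rw [hvv, ← mul_assoc, ← hcom]
  rcases he with rfl | rfl | rfl <;> rcases he' with rfl | rfl | rfl <;>
    first | rfl | exact hcom | exact hcom.symm | exact h3 | exact h3.symm | exact h4 | exact h4.symm

include hG in
theorem E_elem : (∀ a ∈ F.E, ∀ b ∈ F.E, a * b = b * a) ∧ (∀ a ∈ F.E, a * a = 1) := by
  have hform : ∀ a ∈ F.E, ∃ z ∈ F.Z, ∃ e, (e = 1 ∨ F.IsE e) ∧ a = z * e := by
    intro a ha
    rcases F.decomp_E hG ha with h | ⟨e, he, h⟩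
    · exact ⟨a, h, 1, Or.inl rfl, (mul_one a).symm⟩
    · exact ⟨a * e, h, e, Or.inr he, by rw [mul_assoc, F.isE_sq he, mul_one]⟩
  have hze : ∀ z ∈ F.Z, ∀ e, (e = 1 ∨ F.IsE e) → Commute z e := fun z hz e he => by
    rcases he with rfl | he
    · exact Commute.one_right z
    · exact F.Z_comm hG hz he
  have hee : ∀ e e', (e = 1 ∨ F.IsE e) → (e' = 1 ∨ F.IsE e') → Commute e e' := fun e e' he he' => by
    rcases he with rfl | he
    · exact Commute.one_left e'
    · rcases he' with rfl | he'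
      · exact Commute.one_right e
      · exact F.isE_comm hG he he'
  refine ⟨fun a ha b hb => ?_, fun a ha => ?_⟩
  · obtain ⟨z, hz, e, he, rfl⟩ := hform a ha
    obtain ⟨z', hz', e', he', rfl⟩ := hform b hb
    exact (((show Commute z z' from L.comm _ (F.Z_le hz) _ (F.Z_le hz')).mul_left
      (hze z' hz' e he).symm).mul_right ((hze z hz e' he').mul_left (hee e e' he he'))).eq
  · obtain ⟨z, hz, e, he, rfl⟩ := hform a ha
    rw [(hze z hz e he).symm.mul_mul_mul_comm, L.sq z (F.Z_le hz)]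
    rcases he with rfl | he
    · simp
    · rw [F.isE_sq he, one_mul]

/-- Representatives of the four group. -/
def ev : Fin 4 → G := ![1, F.v, F.v', F.v'']

omit [Finite G] in
theorem ev_cases (i : Fin 4) : F.ev i = 1 ∨ F.IsE (F.ev i) := by
  fin_cases i
  · exact Or.inl rfl
  · exact Or.inr (Or.inl rfl)
  · exact Or.inr (Or.inr (Or.inl rfl))
  · exact Or.inr (Or.inr (Or.inr rfl))

omit [Finite G] in
theorem m_ev : Function.Injective fun i => L.m (F.ev i) := by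
  have e : (fun i => L.m (F.ev i)) = ![1, Alt.a5, Alt.b5, Alt.a5 * Alt.b5] := by
    funext i
    fin_cases i
    · exact L.m_of_mem (one_mem _)
    · exact F.mv
    · exact F.mv'
    · exact F.mv''
  rw [e]
  decide +kernel

include hG in
theorem card_T : Nat.card F.T = 4 * Nat.card L.W := by
  have hmem : ∀ i, F.ev i ∈ F.T := fun i => by
    rcases F.ev_cases i with e | e
    · rw [e]; exact one_mem _
    · exact F.E_le_T (F.isE_mem_E hG e)
  let f : L.W × Fin 4 → F.T := fun p => ⟨p.1 * F.ev p.2, mul_mem (F.W_le_T p.1.2) (hmem p.2)⟩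
  have hf : Function.Bijective f := by
    constructor
    · rintro ⟨w, i⟩ ⟨w', j⟩ e
      have e' : (w : G) * F.ev i = w' * F.ev j := congrArg Subtype.val e
      have hij : i = j := F.m_ev (by
        have := congrArg L.m e'
        rwa [L.m_mul (L.W_le w.2) (hmem i).1, L.m_mul (L.W_le w'.2) (hmem j).1, L.m_of_mem w.2,
          L.m_of_mem w'.2, one_mul, one_mul] at this)
      subst hij
      exact Prod.ext (Subtype.ext (mul_right_cancel e')) rfl
    · rintro ⟨g, hg⟩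
      rcases F.decomp hg with h | ⟨e, he, h⟩
      · exact ⟨(⟨g, h⟩, 0), Subtype.ext (by show g * F.ev 0 = g; simp [ev])⟩
      · obtain ⟨i, hi⟩ : ∃ i, F.ev i = e := by
          rcases he with rfl | rfl | rfl
          exacts [⟨1, rfl⟩, ⟨2, rfl⟩, ⟨3, rfl⟩]
        exact ⟨(⟨g * e, h⟩, i), Subtype.ext (by
          show g * e * F.ev i = g
          rw [hi, mul_assoc, F.isE_sq he, mul_one])⟩
  rw [← Nat.card_congr (Equiv.ofBijective f hf), Nat.card_prod, Nat.card_fin, mul_comm]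

include hG in
theorem card_E : Nat.card F.E = 4 * Nat.card F.Z := by
  have hmem : ∀ i, F.ev i ∈ F.E := fun i => by
    rcases F.ev_cases i with e | e
    · rw [e]; exact one_mem _
    · exact F.isE_mem_E hG e
  let f : F.Z × Fin 4 → F.E := fun p => ⟨p.1 * F.ev p.2, mul_mem (F.Z_le_E hG p.1.2) (hmem p.2)⟩
  have hf : Function.Bijective f := by
    constructor
    · rintro ⟨w, i⟩ ⟨w', j⟩ e
      have e' : (w : G) * F.ev i = w' * F.ev j := congrArg Subtype.val e
      have hij : i = j := F.m_ev (by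
        have := congrArg L.m e'
        rwa [L.m_mul (L.W_le (F.Z_le w.2)) (F.mem_E.1 (hmem i)).1,
          L.m_mul (L.W_le (F.Z_le w'.2)) (F.mem_E.1 (hmem j)).1, L.m_of_mem (F.Z_le w.2),
          L.m_of_mem (F.Z_le w'.2), one_mul, one_mul] at this)
      subst hij
      exact Prod.ext (Subtype.ext (mul_right_cancel e')) rfl
    · rintro ⟨g, hg⟩
      rcases F.decomp_E hG hg with h | ⟨e, he, h⟩
      · exact ⟨(⟨g, h⟩, 0), Subtype.ext (by show g * F.ev 0 = g; simp [ev])⟩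
      · obtain ⟨i, hi⟩ : ∃ i, F.ev i = e := by
          rcases he with rfl | rfl | rfl
          exacts [⟨1, rfl⟩, ⟨2, rfl⟩, ⟨3, rfl⟩]
        exact ⟨(⟨g * e, h⟩, i), Subtype.ext (by
          show g * e * F.ev i = g
          rw [hi, mul_assoc, F.isE_sq he, mul_one])⟩
  rw [← Nat.card_congr (Equiv.ofBijective f hf), Nat.card_prod, Nat.card_fin, mul_comm]

include hG in
/-- Every involution of the normaliser outside `W` is conjugate to the first involution. -/
theorem invol_conj_v {u : G} (hu : u ∈ L.N) (hu' : u ∉ L.W) (hu2 : u * u = 1) :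
    ∃ h ∈ L.N, h * u * h⁻¹ = F.v := by
  obtain ⟨q, hq⟩ := Alt.five_involutions (L.m u)
    (by rw [pow_two, ← L.m_mul hu hu, hu2]; exact L.m_of_mem (one_mem _))
    (fun e => hu' ((L.m_eq_one_iff hu).1 e))
  obtain ⟨h₀, hh₀, hmh⟩ := L.exists_m q
  set u₀ := h₀ * u * h₀⁻¹ with hu₀
  have hu₀N : u₀ ∈ L.N := mul_mem (mul_mem hh₀ hu) (inv_mem hh₀)
  have hz : u₀ * F.v ∈ L.W := by
    rw [← L.m_eq_one_iff (mul_mem hu₀N F.vN), L.m_mul hu₀N F.vN, L.m_conj hh₀ hu, hmh, hq, F.mv,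
      ← pow_two]
    exact Alt.five_facts.1
  have hvsq := F.isE_sq (Or.inl rfl)
  have hu₀sq : u₀ * u₀ = 1 := by rw [hu₀, conj_mul, hu2]; simp
  have hcomm : u₀ * F.v * F.v = F.v * (u₀ * F.v) := by
    have h1 := L.sq _ hz
    rw [mul_assoc u₀ F.v F.v, hvsq, mul_one]
    calc u₀ = u₀ * (u₀ * F.v * (u₀ * F.v)) := by rw [h1, mul_one]
      _ = (u₀ * u₀) * (F.v * (u₀ * F.v)) := by group
      _ = F.v * (u₀ * F.v) := by rw [hu₀sq, one_mul]
  obtain ⟨w, hw, hwz⟩ := (F.Z_facts hG).2.2.2 _ (F.mem_Z.2 ⟨hz, hcomm⟩)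
  have hwv : w * F.v * w⁻¹ = u₀ := by
    rw [L.inv_eq hw]
    calc w * F.v * w = w * (F.v * w * F.v⁻¹) * F.v := by group
      _ = u₀ := by rw [hwz, mul_assoc, hvsq, mul_one]
  refine ⟨w⁻¹ * h₀, mul_mem (inv_mem (L.W_le hw)) hh₀, ?_⟩
  calc w⁻¹ * h₀ * u * (w⁻¹ * h₀)⁻¹ = w⁻¹ * u₀ * w := by rw [hu₀]; group
    _ = F.v := by rw [← hwv]; group

include hG in
/-- An elementary abelian subgroup of the normaliser not in `W` is small. -/
theorem elem_le {A : Subgroup G} (hA : A ≤ L.N) (hAW : ¬ A ≤ L.W)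
    (hc : ∀ a ∈ A, ∀ b ∈ A, a * b = b * a) (hs : ∀ a ∈ A, a * a = 1) :
    Nat.card A ≤ 4 * Nat.card F.Z := by
  obtain ⟨a, ha, haW⟩ := SetLike.not_le_iff_exists.1 hAW
  obtain ⟨h, hh, hhv⟩ := F.invol_conj_v hG (hA ha) haW (hs a ha)
  rw [← F.card_E hG]
  refine Nat.card_le_card_of_injective (fun b : A => (⟨h * b * h⁻¹, F.mem_E.2
    ⟨mul_mem (mul_mem hh (hA b.2)) (inv_mem hh), by rw [← hhv, conj_mul, conj_mul, hc b b.2 a ha]⟩⟩ : F.E)) ?_
  intro b b' e
  exact Subtype.ext (mul_left_cancel (mul_right_cancel (congrArg Subtype.val e : _)))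

include F hG in
/-- An elementary abelian subgroup of the normaliser meeting `W` trivially has order at most four. -/
theorem elem_le_four {A : Subgroup G} (hA : A ≤ L.N) (hAW : ∀ a ∈ A, a ∈ L.W → a = 1)
    (hc : ∀ a ∈ A, ∀ b ∈ A, a * b = b * a) (hs : ∀ a ∈ A, a * a = 1) : Nat.card A ≤ 4 := by
  by_cases hA1 : ∀ a ∈ A, a = 1
  · rw [(A.eq_bot_iff_forall).2 hA1, Subgroup.card_bot]; norm_num
  push Not at hA1
  obtain ⟨a, ha, ha1⟩ := hA1
  obtain ⟨h, hh, hhv⟩ := F.invol_conj_v hG (hA ha) (fun hw => ha1 (hAW a ha hw)) (hs a ha)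
  have h4 : Nat.card {q : Alt.A5 // q = 1 ∨ q = Alt.a5 ∨ q = Alt.b5 ∨ q = Alt.a5 * Alt.b5} = 4 := by
    rw [Nat.card_eq_fintype_card]; decide +kernel
  rw [← h4]
  refine Nat.card_le_card_of_injective (fun b : A =>
    (⟨L.m (h * b * h⁻¹), Alt.five_centralizer _ (F.E_le_T (F.mem_E.2
      ⟨mul_mem (mul_mem hh (hA b.2)) (inv_mem hh), by rw [← hhv, conj_mul, conj_mul, hc b b.2 a ha]⟩)).2⟩ :
      {q : Alt.A5 // q = 1 ∨ q = Alt.a5 ∨ q = Alt.b5 ∨ q = Alt.a5 * Alt.b5})) ?_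
  intro b b' e
  have e' : L.m (h * b * h⁻¹) = L.m (h * b' * h⁻¹) := congrArg Subtype.val e
  have hb : h * ((b : G) * (b' : G)⁻¹) * h⁻¹ ∈ L.W := by
    rw [← L.m_eq_one_iff (mul_mem (mul_mem hh (mul_mem (hA b.2) (inv_mem (hA b'.2)))) (inv_mem hh)),
      ← conj_mul, L.m_mul (mul_mem (mul_mem hh (hA b.2)) (inv_mem hh))
        (mul_mem (mul_mem hh (inv_mem (hA b'.2))) (inv_mem hh)), e', ← conj_inv,
      L.m_inv (mul_mem (mul_mem hh (hA b'.2)) (inv_mem hh)), mul_inv_cancel]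
  have hbb : (b : G) * (b' : G)⁻¹ = 1 := by
    refine hAW _ (mul_mem b.2 (inv_mem b'.2)) ?_
    have := L.conj_mem (inv_mem hh) hb
    rw [inv_inv] at this
    simpa [mul_assoc] using this
  exact Subtype.ext (mul_inv_eq_one.1 hbb)

include hG in
/-- The centraliser in `W` of an involution of the normaliser outside `W`. -/
theorem card_centralizer_W {u : G} (hu : u ∈ L.N) (hu' : u ∉ L.W) (hu2 : u * u = 1) :
    Nat.card F.Z ≤ Nat.card {w : G // w ∈ L.W ∧ w * u = u * w} := by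
  obtain ⟨h, hh, hhv⟩ := F.invol_conj_v hG hu hu' hu2
  refine Nat.card_le_card_of_injective (fun z : F.Z =>
    (⟨h⁻¹ * z * h, by
      have := L.conj_mem (inv_mem hh) (F.Z_le z.2)
      rwa [inv_inv] at this, by
      have hz := (F.mem_Z.1 z.2).2
      calc h⁻¹ * (z : G) * h * u = h⁻¹ * ((z : G) * (h * u * h⁻¹)) * h := by group
        _ = h⁻¹ * ((h * u * h⁻¹) * z) * h := by rw [hhv, hz]
        _ = u * (h⁻¹ * z * h) := by group⟩ : {w : G // w ∈ L.W ∧ w * u = u * w})) ?_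
  intro z z' e
  exact Subtype.ext (mul_left_cancel (mul_right_cancel (congrArg Subtype.val e : _)))

end Frame

end LocA5

end CfsgLib.Recog.EPOFive
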