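import Cfsg.Agent.Lib.Recog.EPOFive.LocalLarge

/-!
A local subgroup with quotient the alternating group of degree five and fixed space of order four:
the Sylow 2-subgroup and the involutions.
-/

set_option autoImplicit false

namespace CfsgLib.Recog.EPOFive

open Subgroup
open scoped Pointwise

universe u

namespace LocA5

namespace Frame

variable {G : Type u} [Group G] [Finite G] {L : LocA5 G} (F : L.Frame)
  (hG : Spec G) (hZ : Nat.card F.Z = 4)

include hG hZ in
theorem cards : Nat.card L.W = 16 ∧ Nat.card F.E = 16 ∧ Nat.card F.T = 64 := by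
  have h1 := (F.Z_facts hG).1
  refine ⟨by rw [h1, hZ], by rw [F.card_E hG, hZ], by rw [F.card_T hG, h1, hZ]⟩

include hG in
theorem W_inf_E {a : G} (h1 : a ∈ L.W) (h2 : a ∈ F.E) : a ∈ F.Z :=
  F.mem_Z.2 ⟨h1, (F.mem_E.1 h2).2⟩

include hG in
/-- An involution of the preimage of the four group lies in `W` or in `E`. -/
theorem invol_T {a : G} (ha : a ∈ F.T) (ha2 : a * a = 1) : a ∈ L.W ∨ a ∈ F.E := by
  rcases F.decomp ha with h | ⟨e, he, h⟩
  · exact Or.inl h
  · right
    have hesq := F.isE_sq he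
    have hc : a * e * e = e * (a * e) := by
      have h1 := L.sq _ h
      rw [mul_assoc a e e, hesq, mul_one]
      calc a = a * (a * e * (a * e)) := by rw [h1, mul_one]
        _ = (a * a) * (e * (a * e)) := by group
        _ = e * (a * e) := by rw [ha2, one_mul]
    have : a = a * e * e := by rw [mul_assoc, hesq, mul_one]
    rw [this]
    exact mul_mem (F.Z_le_E hG (F.mem_Z_of hG h he hc)) (F.isE_mem_E hG he)

include hG in
/-- `W` normalises `E`. -/
theorem conj_E {w x : G} (hw : w ∈ L.W) (hx : x ∈ F.E) : w * x * w⁻¹ ∈ F.E := by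
  rcases F.decomp_E hG hx with h | ⟨e, he, h⟩
  · rw [L.comm w hw x (F.Z_le h), mul_inv_cancel_right]
    exact hx
  · have hx' : x = x * e * e := by rw [mul_assoc, F.isE_sq he, mul_one]
    have hd := F.delta_mem hG hw he
    have e1 : w * x * w⁻¹ = x * e * (w * (e * w * e⁻¹)) * e := by
      have hc := L.comm w hw (x * e) (F.Z_le h)
      rw [L.inv_eq hw, F.isE_inv he]
      calc w * x * w = w * (x * e) * (e * w) := by
            rw [show w * (x * e) * (e * w) = w * x * (e * e) * w by group, F.isE_sq he, mul_one]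
        _ = x * e * (w * (e * w)) * (e * e) := by rw [hc, F.isE_sq he, mul_one]; group
        _ = x * e * (w * (e * w * e)) * e := by group
    rw [e1]
    exact mul_mem (mul_mem (F.Z_le_E hG h) (F.Z_le_E hG hd)) (F.isE_mem_E hG he)

include hG hZ in
theorem W_ne_E : ∀ A : Subgroup G, A = L.W → A ≠ F.E := by
  rintro A rfl e
  have : F.v ∈ L.W := e ▸ F.isE_mem_E hG (Or.inl rfl)
  exact Alt.five_facts.2.1 (F.mv.symm.trans (L.m_of_mem this))

include hG hZ in
/-- `W` and `E` are the only elementary abelian subgroups of order sixteen of `T`. -/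
theorem only_two {A : Subgroup G} (hA : A ≤ F.T) (hcard : Nat.card A = 16)
    (hc : ∀ a ∈ A, ∀ b ∈ A, a * b = b * a) (hs : ∀ a ∈ A, a * a = 1) : A = L.W ∨ A = F.E := by
  obtain ⟨hW, hE, -⟩ := F.cards hG hZ
  by_cases hAW : A ≤ L.W
  · exact Or.inl (Subgroup.eq_of_le_of_card_ge hAW (by omega))
  right
  obtain ⟨a, ha, haW⟩ := SetLike.not_le_iff_exists.1 hAW
  refine Subgroup.eq_of_le_of_card_ge (fun b hb => ?_) (by omega)
  rcases F.invol_T hG (hA hb) (hs b hb) with hbW | h
  swap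
  · exact h
  have haE := (F.invol_T hG (hA ha) (hs a ha)).resolve_left haW
  rcases F.decomp_E hG haE with h | ⟨e, he, h⟩
  · exact absurd (F.Z_le h) haW
  refine F.Z_le_E hG (F.mem_Z_of hG hbW he ?_)
  have h1 : Commute b (a * e) := L.comm b hbW _ (F.Z_le h)
  have h2 : Commute b a := hc b hb a ha
  have h3 : Commute b (a⁻¹ * (a * e)) := h2.inv_right.mul_right h1
  rwa [inv_mul_cancel_left] at h3

include hG hZ in
theorem T_isPGroup : IsPGroup 2 F.T :=
  IsPGroup.of_card (n := 6) (by rw [(F.cards hG hZ).2.2]; rfl)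

include hG hZ in
/-- `T` is a Sylow 2-subgroup of the whole group. -/
theorem T_max {S : Subgroup G} (hS : IsPGroup 2 S) (hTS : F.T ≤ S) : S = F.T := by
  classical
  obtain ⟨hW, hE, hT⟩ := F.cards hG hZ
  refine le_antisymm ?_ hTS
  by_contra hc
  obtain ⟨g, hgS, hgT, hg⟩ := exists_normalizing hS hTS hc
  have hSN : S ⊓ L.N = F.T := by
    refine (Subgroup.eq_of_le_of_card_ge (le_inf hTS fun a ha => ha.1) ?_).symm
    have := L.card_le_of_two (hS.to_le (inf_le_left : S ⊓ L.N ≤ S)) inf_le_right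
    omega
  have hgN : g ∉ L.N := fun e => hgT (hSN ▸ (⟨hgS, e⟩ : g ∈ S ⊓ L.N))
  have helem := F.E_elem hG
  -- `g` interchanges `W` and `E`
  have hAW : L.W.map (MulAut.conj g).toMonoidHom = F.E := by
    rcases F.only_two hG hZ (A := L.W.map (MulAut.conj g).toMonoidHom)
      (by rintro _ ⟨a, ha, rfl⟩; exact hg a (F.W_le_T ha))
      (by rw [← Nat.card_congr (Subgroup.equivMapOfInjective L.W _ (MulAut.conj g).injective).toEquiv, hW])
      (L.conj_elem g).1 (L.conj_elem g).2 with e | e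
    · exfalso
      exact hgN (L.mem_N_of_conj fun w hw => e ▸ (⟨w, hw, rfl⟩ : g * w * g⁻¹ ∈ L.W.map _))
    · exact e
  have hAE : F.E.map (MulAut.conj g).toMonoidHom = L.W := by
    rcases F.only_two hG hZ (A := F.E.map (MulAut.conj g).toMonoidHom)
      (by rintro _ ⟨a, ha, rfl⟩; exact hg a (F.E_le_T ha))
      (by rw [← Nat.card_congr (Subgroup.equivMapOfInjective F.E _ (MulAut.conj g).injective).toEquiv, hE])
      (by rintro _ ⟨a, ha, rfl⟩ _ ⟨b, hb, rfl⟩; rw [← map_mul, ← map_mul, helem.1 a ha b hb])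
      (by rintro _ ⟨a, ha, rfl⟩; rw [← map_mul, helem.2 a ha, map_one]) with e | e
    · exact e
    · exfalso
      exact F.W_ne_E hG hZ _ rfl (Subgroup.map_injective (MulAut.conj g).injective (hAW.trans e.symm))
  have hWE : ∀ w ∈ L.W, g * w * g⁻¹ ∈ F.E := fun w hw => hAW ▸ ⟨w, hw, rfl⟩
  have hEW : ∀ w ∈ F.E, g * w * g⁻¹ ∈ L.W := fun w hw => hAE ▸ ⟨w, hw, rfl⟩
  have hWE' : ∀ w ∈ L.W, g⁻¹ * w * g ∈ F.E := by
    intro w hw
    rw [← hAE, subgroupOf_conj] at hw
    exact hw
  have hgg : g * g ∈ F.T := by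
    rw [← hSN]
    refine ⟨mul_mem hgS hgS, L.mem_N_of_conj fun w hw => ?_⟩
    have := hEW _ (hWE w hw)
    simpa [mul_assoc] using this
  have hZg : ∀ z ∈ F.Z, g * z * g⁻¹ ∈ F.Z := fun z hz =>
    F.W_inf_E hG (hEW z (F.Z_le_E hG hz)) (hWE z (F.Z_le hz))
  let q : G → G := fun w => g * g * (g⁻¹ * w * g) * w
  have hqT : ∀ w ∈ L.W, q w ∈ F.T := fun w hw =>
    mul_mem (mul_mem hgg (F.E_le_T (hWE' w hw))) (F.W_le_T hw)
  have hdiff : ∀ w ∈ L.W, ∀ w' ∈ L.W,
      (q w)⁻¹ * q w' = w⁻¹ * (g⁻¹ * (w⁻¹ * w') * g) * w' := fun w _ w' _ => by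
    simp only [q]; group
  have key : ∀ w ∈ L.W, ∀ w' ∈ L.W,
      (q w ∈ L.W ∧ q w' ∈ L.W) ∨ (q w ∈ F.E ∧ q w' ∈ F.E) → w⁻¹ * w' ∈ F.Z := by
    intro w hw w' hw' hh
    set x := g⁻¹ * (w⁻¹ * w') * g with hx
    have hxE : x ∈ F.E := hWE' _ (mul_mem (inv_mem hw) hw')
    rcases hh with ⟨h1, h2⟩ | ⟨h1, h2⟩
    · have hd := mul_mem (inv_mem h1) h2
      rw [hdiff w hw w' hw', ← hx] at hd
      have hxW : x ∈ L.W := by
        have := mul_mem (mul_mem hw hd) (inv_mem hw')
        rw [show w * (w⁻¹ * x * w') * w'⁻¹ = x by group] at this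
        exact this
      have := hZg x (F.W_inf_E hG hxW hxE)
      rwa [hx, show g * (g⁻¹ * (w⁻¹ * w') * g) * g⁻¹ = w⁻¹ * w' by group] at this
    · have hd := mul_mem (inv_mem h1) h2
      rw [hdiff w hw w' hw', ← hx] at hd
      have hc1 := F.conj_E hG (inv_mem hw) hxE
      rw [inv_inv] at hc1
      have := mul_mem (inv_mem hc1) hd
      rw [show (w⁻¹ * x * w)⁻¹ * (w⁻¹ * x * w') = w⁻¹ * w' by group] at this
      exact F.W_inf_E hG (mul_mem (inv_mem hw) hw') this
  obtain ⟨w, hw, hqW, hqE⟩ : ∃ w ∈ L.W, q w ∉ L.W ∧ q w ∉ F.E := by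
    by_contra hcon
    push Not at hcon
    have hb : ∀ P : Subgroup G, (∀ w ∈ L.W, ∀ w' ∈ L.W, q w ∈ P → q w' ∈ P → w⁻¹ * w' ∈ F.Z) →
        Nat.card {w : G // w ∈ L.W ∧ q w ∈ P} ≤ 4 := by
      intro P hP
      rcases isEmpty_or_nonempty {w : G // w ∈ L.W ∧ q w ∈ P} with he | ⟨⟨w₀, hw₀, hq₀⟩⟩
      · simp
      · rw [← hZ]
        refine Nat.card_le_card_of_injective
          (fun w => (⟨w₀⁻¹ * w.1, hP w₀ hw₀ w.1 w.2.1 hq₀ w.2.2⟩ : F.Z)) ?_
        intro a b e
        exact Subtype.ext (mul_left_cancel (congrArg Subtype.val e : _))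
    have hsub : Nat.card L.W ≤ Nat.card
        ({w : G // w ∈ L.W ∧ q w ∈ L.W} ⊕ {w : G // w ∈ L.W ∧ q w ∈ F.E}) := by
      refine Nat.card_le_card_of_injective (fun w : L.W => if hq : q w ∈ L.W then
        Sum.inl ⟨w.1, w.2, hq⟩ else Sum.inr ⟨w.1, w.2, hcon w w.2 hq⟩) ?_
      intro a b e
      by_cases ha : q a ∈ L.W <;> by_cases hb' : q b ∈ L.W <;> simp [ha, hb'] at e
      all_goals exact e
    rw [Nat.card_sum] at hsub
    have h1 := hb L.W fun a ha b hb' h1 h2 => key a ha b hb' (Or.inl ⟨h1, h2⟩)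
    have h2 := hb F.E fun a ha b hb' h1 h2 => key a ha b hb' (Or.inr ⟨h1, h2⟩)
    omega
  have h4 := hG.pow_four_of_isPGroup hS (mul_mem hgS (hTS (F.W_le_T hw)))
  have hgw : g * w * (g * w) = q w := by simp only [q]; group
  have hq2 : q w * q w = 1 := by
    rw [← hgw, ← h4]; simp [pow_succ, mul_assoc]
  rcases F.invol_T hG (hqT w hw) hq2 with e | e
  · exact hqW e
  · exact hqE e

include hG hZ in
theorem centralizer_Z {z : G} (hz : z ∈ F.Z) (hz1 : z ≠ 1) :
    Subgroup.centralizer ({z} : Set G) = F.T := by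
  refine F.T_max hG hZ (centralizer_isPGroup hG (L.orderOf_of_mem (F.Z_le hz) hz1)) fun t ht => ?_
  refine mem_centralizer_of_commute ?_
  rcases F.decomp ht with h | ⟨e, he, h⟩
  · exact L.comm t h z (F.Z_le hz)
  · have h1 : Commute (t * e) z := L.comm _ h z (F.Z_le hz)
    have h2 : Commute e z := (F.Z_comm hG hz he).symm
    have h3 := h1.mul_left h2
    rwa [mul_assoc, F.isE_sq he, mul_one] at h3

include hG hZ in
/-- The involutions of `W` are conjugate in the normaliser. -/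
theorem W_orbit {w z : G} (hw : w ∈ L.W) (hw1 : w ≠ 1) (hz : z ∈ F.Z) (hz1 : z ≠ 1) :
    ∃ g ∈ L.N, g * w * g⁻¹ = z := by
  obtain ⟨hW, hE, hT⟩ := F.cards hG hZ
  set C := (L.N ⊓ Subgroup.centralizer ({w} : Set G)).subgroupOf L.N with hC
  have hmemC : ∀ g : L.N, g ∈ C ↔ (g : G) * w = w * g := fun g => by
    rw [hC, Subgroup.mem_subgroupOf, Subgroup.mem_inf, Subgroup.mem_centralizer_singleton_iff]
    exact and_iff_right g.2
  have hfin : ∀ g : L.N, (g : G) * w * (g : G)⁻¹ ∈ L.W ∧ (g : G) * w * (g : G)⁻¹ ≠ 1 := fun g =>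
    ⟨L.conj_mem g.2 hw, fun e => hw1 (conj_eq_one_iff.1 e)⟩
  let f : L.N ⧸ C → {u : G // u ∈ L.W ∧ u ≠ 1} :=
    Quotient.lift (fun g : L.N => ⟨(g : G) * w * (g : G)⁻¹, hfin g⟩) (fun a b hab => by
      have h1 : a⁻¹ * b ∈ C := QuotientGroup.leftRel_apply.1 hab
      rw [hmemC] at h1
      refine Subtype.ext ?_
      show (a : G) * w * (a : G)⁻¹ = (b : G) * w * (b : G)⁻¹
      calc (a : G) * w * (a : G)⁻¹ = a * (w * ((a⁻¹ * b : L.N) : G)) * (b : G)⁻¹ := by
            simp only [Subgroup.coe_mul, Subgroup.coe_inv]; group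
        _ = _ := by rw [← h1]; simp only [Subgroup.coe_mul, Subgroup.coe_inv]; group)
  have hf : Function.Injective f := by
    intro a b
    induction a using QuotientGroup.induction_on with
    | H a =>
      induction b using QuotientGroup.induction_on with
      | H b =>
        intro e
        have e' : (a : G) * w * (a : G)⁻¹ = (b : G) * w * (b : G)⁻¹ := congrArg Subtype.val e
        rw [QuotientGroup.eq, hmemC]
        show (a : G)⁻¹ * b * w = w * ((a : G)⁻¹ * b)
        calc (a : G)⁻¹ * b * w = (a : G)⁻¹ * ((b : G) * w * (b : G)⁻¹) * b := by group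
          _ = w * ((a : G)⁻¹ * b) := by rw [← e']; group
  have h15 : Nat.card {u : G // u ∈ L.W ∧ u ≠ 1} + 1 = 16 := by
    classical
    let e : Option {u : G // u ∈ L.W ∧ u ≠ 1} ≃ L.W :=
      { toFun := fun o => o.elim 1 fun u => ⟨u.1, u.2.1⟩
        invFun := fun u => if hu : (u : G) = 1 then none else some ⟨u, u.2, hu⟩
        left_inv := fun o => by
          rcases o with _ | ⟨u, hu⟩
          · simp
          · simp [hu.2]
        right_inv := fun u => by
          by_cases hu : (u : G) = 1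
          · simp [hu]; exact Subtype.ext hu.symm
          · simp [hu] }
    rw [← hW, ← Nat.card_congr e, Finite.card_option]
  have hN : Nat.card L.N = 960 := by rw [L.card_N, hW]
  have hq := Subgroup.card_eq_card_quotient_mul_card_subgroup C
  have hCle : Nat.card C ≤ 64 := by
    rw [hC, Nat.card_congr (Subgroup.subgroupOfEquivOfLe (inf_le_left :
      L.N ⊓ Subgroup.centralizer ({w} : Set G) ≤ L.N)).toEquiv]
    have := L.card_le_of_two ((centralizer_isPGroup hG (L.orderOf_of_mem hw hw1)).to_le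
      (inf_le_right : L.N ⊓ Subgroup.centralizer ({w} : Set G) ≤ _)) inf_le_left
    omega
  have h15' : 15 ≤ Nat.card (L.N ⧸ C) := by
    by_contra hcon
    push Not at hcon
    have : Nat.card (L.N ⧸ C) * Nat.card C ≤ 14 * 64 := Nat.mul_le_mul (by omega) hCle
    omega
  have hbij : Function.Bijective f := by
    have := Fintype.ofFinite (L.N ⧸ C)
    have := Fintype.ofFinite {u : G // u ∈ L.W ∧ u ≠ 1}
    rw [Fintype.bijective_iff_injective_and_card, ← Nat.card_eq_fintype_card, ← Nat.card_eq_fintype_card]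
    refine ⟨hf, le_antisymm (Nat.card_le_card_of_injective f hf) ?_⟩
    omega
  obtain ⟨a, ha⟩ := hbij.2 ⟨z, F.Z_le hz, hz1⟩
  induction a using QuotientGroup.induction_on with
  | H a => exact ⟨a, a.2, congrArg Subtype.val ha⟩

end Frame

namespace Frame

variable {G : Type u} [Group G] [Finite G] {L : LocA5 G} (F : L.Frame)

/-- All involutions are conjugate to a central involution of `T`. -/
theorem four_conj (h : Ctx G) (hZ : Nat.card F.Z = 4) {z : G} (hz : z ∈ F.Z) (hz1 : z ≠ 1) :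
    ∀ u : G, orderOf u = 2 → ∃ g, g * z * g⁻¹ = u := by
  have hG := h.spec
  have hz2 := L.orderOf_of_mem (F.Z_le hz) hz1
  have hvW : F.v ∉ L.W := fun e => Alt.five_facts.2.1 (F.mv.symm.trans (L.m_of_mem e))
  have hWz : ∀ w ∈ L.W, w ≠ 1 → ∃ g, g * z * g⁻¹ = w := fun w hw hw1 => by
    obtain ⟨g, -, hg⟩ := F.W_orbit hG hZ hw hw1 hz hz1
    exact ⟨g⁻¹, by rw [← hg]; group⟩
  have hvz : ∃ g, g * z * g⁻¹ = F.v := by
    by_contra hno
    -- no involution outside `W` is conjugate to `z`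
    have hout : ∀ u ∈ L.N, u ∉ L.W → u * u = 1 → ∀ g, g * z * g⁻¹ ≠ u := by
      intro u hu huW hu2 g hg
      obtain ⟨k, -, hk⟩ := F.invol_conj_v hG hu huW hu2
      exact hno ⟨k * g, by rw [← hk, ← hg]; group⟩
    have hCv : Subgroup.centralizer ({F.v} : Set G) ≤ L.N := by
      by_contra hc
      set C := Subgroup.centralizer ({F.v} : Set G)
      obtain ⟨g, hgC, hgE, hg⟩ := exists_normalizing (centralizer_isPGroup hG F.hv)
        (inf_le_right : F.E ≤ C) fun e => hc (e.trans inf_le_left)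
      have hgN : g ∉ L.N := fun e => hgE ⟨e, hgC⟩
      have hgE' : ∀ a ∈ F.E, g * a * g⁻¹ ∈ F.E := hg
      have hgZ : ∀ a ∈ F.Z, g * a * g⁻¹ ∈ F.Z := by
        intro a ha
        have haE := hgE' a (F.Z_le_E hG ha)
        by_cases ha1 : a = 1
        · rw [ha1, mul_one, mul_inv_cancel]; exact one_mem _
        by_cases hW : g * a * g⁻¹ ∈ L.W
        · exact F.W_inf_E hG hW haE
        · exfalso
          obtain ⟨k, hk⟩ := hWz a (F.Z_le ha) ha1
          exact hout _ (F.mem_E.1 haE).1 hW ((F.E_elem hG).2 _ haE) (g * k) (by rw [← hk]; group)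
      have hgT : ∀ t ∈ F.T, g * t * g⁻¹ ∈ F.T := by
        intro t ht
        rw [← F.centralizer_Z hG hZ (hgZ z hz) (fun e => hz1 (conj_eq_one_iff.1 e))]
        refine mem_centralizer_of_commute ?_
        have := Subgroup.mem_centralizer_singleton_iff.1 ((F.centralizer_Z hG hZ hz hz1).ge ht)
        show g * t * g⁻¹ * (g * z * g⁻¹) = g * z * g⁻¹ * (g * t * g⁻¹)
        rw [conj_mul, conj_mul, this]
      obtain ⟨hW, hE, -⟩ := F.cards hG hZ
      rcases F.only_two hG hZ (A := L.W.map (MulAut.conj g).toMonoidHom)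
        (by rintro _ ⟨a, ha, rfl⟩; exact hgT a (F.W_le_T ha))
        (by rw [← Nat.card_congr (Subgroup.equivMapOfInjective L.W _ (MulAut.conj g).injective).toEquiv, hW])
        (L.conj_elem g).1 (L.conj_elem g).2 with e | e
      · exact hgN (L.mem_N_of_conj fun w hw => e ▸ (⟨w, hw, rfl⟩ : g * w * g⁻¹ ∈ L.W.map _))
      · have hEE : F.E.map (MulAut.conj g).toMonoidHom = F.E := by
          refine Subgroup.eq_of_le_of_card_ge ?_ (Nat.card_congr
            (Subgroup.equivMapOfInjective F.E _ (MulAut.conj g).injective).toEquiv).le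
          rintro _ ⟨a, ha, rfl⟩
          exact hgE' a ha
        exact F.W_ne_E hG hZ _ rfl (Subgroup.map_injective (MulAut.conj g).injective (e.trans hEE.symm))
    have htrans : ∀ t k : G, k ∈ L.N →
        Subgroup.centralizer ({k * t * k⁻¹} : Set G) ≤ L.N →
        Subgroup.centralizer ({t} : Set G) ≤ L.N := by
      intro t k hk hle a ha
      have : k * a * k⁻¹ ∈ L.N := hle (mem_centralizer_of_commute (by
        show k * a * k⁻¹ * (k * t * k⁻¹) = k * t * k⁻¹ * (k * a * k⁻¹)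
        rw [conj_mul, conj_mul, Subgroup.mem_centralizer_singleton_iff.1 ha]))
      have := mul_mem (mul_mem (inv_mem hk) this) hk
      rwa [show k⁻¹ * (k * a * k⁻¹) * k = a by group] at this
    have hall : ∀ t ∈ L.N, orderOf t = 2 → Subgroup.centralizer ({t} : Set G) ≤ L.N := by
      intro t ht ht2
      by_cases htW : t ∈ L.W
      · obtain ⟨k, hk, hkz⟩ := F.W_orbit hG hZ htW (fun e => by rw [e, orderOf_one] at ht2; omega) hz hz1
        refine htrans t k hk ?_
        rw [hkz, F.centralizer_Z hG hZ hz hz1]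
        exact fun a ha => ha.1
      · obtain ⟨k, hk, hkv⟩ := F.invol_conj_v hG ht htW (invol_sq ht2)
        refine htrans t k hk ?_
        rw [hkv]
        exact hCv
    exact hno (h.all_conj (L.N_ne_top h) hall (L.W_le (F.Z_le hz)) hz2 F.v F.hv)
  intro u hu
  have : Fact (Nat.Prime 2) := ⟨Nat.prime_two⟩
  obtain ⟨S, hS⟩ := (F.T_isPGroup hG hZ).exists_le_sylow
  have hST : (S : Subgroup G) = F.T := F.T_max hG hZ S.2 hS
  obtain ⟨S', hS'⟩ := (IsPGroup.of_card (n := 1) (G := Subgroup.zpowers u)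
    (by rw [Nat.card_zpowers, hu, pow_one])).exists_le_sylow
  obtain ⟨k, hk⟩ := MulAction.exists_smul_eq G S S'
  have huS : u ∈ (S' : Subgroup G) := hS' (Subgroup.mem_zpowers u)
  rw [← hk, Sylow.coe_subgroup_smul, Subgroup.mem_pointwise_smul_iff_inv_smul_mem, hST] at huS
  have hu' : k⁻¹ * u * k ∈ F.T := by simpa [MulAut.conj_inv_apply] using huS
  have hord : orderOf (k⁻¹ * u * k) = 2 := by
    have := invol_conj k⁻¹ hu
    rwa [inv_inv] at this
  obtain ⟨g, hg⟩ : ∃ g, g * z * g⁻¹ = k⁻¹ * u * k := by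
    by_cases hW : k⁻¹ * u * k ∈ L.W
    · exact hWz _ hW fun e => by rw [e, orderOf_one] at hord; omega
    · obtain ⟨j, -, hj⟩ := F.invol_conj_v hG (hu'.1) hW (invol_sq hord)
      obtain ⟨g, hg⟩ := hvz
      exact ⟨j⁻¹ * g, by
        calc j⁻¹ * g * z * (j⁻¹ * g)⁻¹ = j⁻¹ * (g * z * g⁻¹) * j := by group
          _ = k⁻¹ * u * k := by rw [hg, ← hj]; group⟩
  exact ⟨k * g, by
    calc k * g * z * (k * g)⁻¹ = k * (g * z * g⁻¹) * k⁻¹ := by group
      _ = u := by rw [hg]; group⟩

end Frame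

end LocA5

end CfsgLib.Recog.EPOFive
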