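import Cfsg.Agent.Lib.Recog.EPOFive.LocalFacts
import Cfsg.Agent.Lib.Recog.EPOFive.Context

/-!
A local subgroup with quotient the alternating group of degree five and a large fixed space.
-/

set_option autoImplicit false

namespace CfsgLib.Recog.EPOFive

open Subgroup

universe u

namespace LocA5

variable {G : Type u} [Group G] [Finite G] (L : LocA5 G)

theorem N_ne_top (h : Ctx G) : L.N ≠ ⊤ := fun e => by
  have : L.W.Normal := Subgroup.normalizer_eq_top_iff.1 e
  exact L.ne (h.normal_eq_bot this (Group.isSolvable_of_comm fun a b =>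
    Subtype.ext (L.comm _ a.2 _ b.2)))

theorem mem_N_of_conj {g : G} (hg : ∀ w ∈ L.W, g * w * g⁻¹ ∈ L.W) : g ∈ L.N := by
  have hle : L.W.map (MulAut.conj g).toMonoidHom ≤ L.W := by
    rintro _ ⟨w, hw, rfl⟩
    exact hg w hw
  have heq : L.W.map (MulAut.conj g).toMonoidHom = L.W :=
    Subgroup.eq_of_le_of_card_ge hle (Nat.card_congr
      (Subgroup.equivMapOfInjective L.W _ (MulAut.conj g).injective).toEquiv).le
  refine Subgroup.mem_normalizer_iff.2 fun x => ⟨hg x, fun hx => ?_⟩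
  have : g * x * g⁻¹ ∈ L.W.map (MulAut.conj g).toMonoidHom := by rw [heq]; exact hx
  rw [subgroupOf_conj] at this
  simpa [mul_assoc] using this

omit [Finite G] in
theorem conj_elem (g : G) :
    (∀ a ∈ L.W.map (MulAut.conj g).toMonoidHom, ∀ b ∈ L.W.map (MulAut.conj g).toMonoidHom,
      a * b = b * a) ∧ (∀ a ∈ L.W.map (MulAut.conj g).toMonoidHom, a * a = 1) := by
  refine ⟨?_, ?_⟩
  · rintro _ ⟨a, ha, rfl⟩ _ ⟨b, hb, rfl⟩
    rw [← map_mul, ← map_mul, L.comm a ha b hb]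
  · rintro _ ⟨a, ha, rfl⟩
    rw [← map_mul, L.sq a ha, map_one]

theorem centralizer_isPGroup (hG : Spec G) {w : G} (hw : orderOf w = 2) :
    IsPGroup 2 (Subgroup.centralizer ({w} : Set G)) :=
  have : Fact (Nat.Prime 2) := ⟨Nat.prime_two⟩
  hG.isPGroup_centralizer hw

namespace Frame

variable {L} (F : L.Frame)

include F in
theorem large (h : Ctx G) (hZ : 4 < Nat.card F.Z) : False := by
  have hG := h.spec
  have hbig : 4 * Nat.card F.Z < Nat.card L.W := by
    rw [(F.Z_facts hG).1]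
    exact Nat.mul_lt_mul_of_pos_right hZ (by omega)
  have huniq : ∀ g : G, (∀ w ∈ L.W, g * w * g⁻¹ ∈ L.N) → g ∈ L.N := by
    intro g hg
    refine L.mem_N_of_conj fun w hw => ?_
    have hle : L.W.map (MulAut.conj g).toMonoidHom ≤ L.N := by
      rintro _ ⟨a, ha, rfl⟩
      exact hg a ha
    by_contra hwW
    have := F.elem_le hG hle (fun e => hwW (e ⟨w, hw, rfl⟩)) (L.conj_elem g).1 (L.conj_elem g).2
    rw [← Nat.card_congr (Subgroup.equivMapOfInjective L.W _ (MulAut.conj g).injective).toEquiv] at this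
    omega
  have h2le : ∀ T : Subgroup G, IsPGroup 2 T → L.W ≤ T → T ≤ L.N := by
    intro T hT hW
    by_contra hc
    obtain ⟨g, hgT, hgH, hg⟩ := exists_normalizing hT (inf_le_left : T ⊓ L.N ≤ T)
      fun e => hc (e.trans inf_le_right)
    exact hgH ⟨hgT, huniq g fun w hw => (hg w ⟨hW hw, L.W_le hw⟩).2⟩
  have hCW : ∀ w ∈ L.W, w ≠ 1 → Subgroup.centralizer ({w} : Set G) ≤ L.N := fun w hw hw1 =>
    h2le _ (centralizer_isPGroup hG (L.orderOf_of_mem hw hw1))
      fun a ha => mem_centralizer_of_commute (L.comm a ha w hw)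
  have hTI : ∀ g w : G, w ∈ L.W → w ≠ 1 → g * w * g⁻¹ ∈ L.W → g ∈ L.N := by
    intro g w hw hw1 hgw
    refine huniq g fun a ha => hCW _ hgw (fun e => hw1 (conj_eq_one_iff.1 e))
      (mem_centralizer_of_commute ?_)
    show g * a * g⁻¹ * (g * w * g⁻¹) = g * w * g⁻¹ * (g * a * g⁻¹)
    rw [conj_mul, conj_mul, L.comm a ha w hw]
  have hno : ∀ g w : G, w ∈ L.W → w ≠ 1 → g * w * g⁻¹ ∈ L.N → g * w * g⁻¹ ∈ L.W := by
    intro g w hw hw1 hgN
    by_contra hgW
    set u := g * w * g⁻¹ with hu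
    have hgnN : g ∉ L.N := fun e => hgW (L.conj_mem e hw)
    let A : Subgroup G := L.W.map (MulAut.conj g⁻¹).toMonoidHom ⊓ L.N
    have hA : Nat.card A ≤ 4 := by
      refine F.elem_le_four hG inf_le_right ?_ (fun a ha b hb => (L.conj_elem g⁻¹).1 a ha.1 b hb.1)
        fun a ha => (L.conj_elem g⁻¹).2 a ha.1
      rintro a ⟨⟨b, hb, rfl⟩, -⟩ haW
      by_contra ha1
      exact hgnN (inv_mem_iff.1 (hTI g⁻¹ b hb (fun e => ha1 (by rw [e, map_one])) haW))
    have hcard := F.card_centralizer_W hG hgN hgW (by rw [hu, conj_mul, L.sq w hw]; simp)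
    have : Nat.card {a : G // a ∈ L.W ∧ a * u = u * a} ≤ Nat.card A := by
      refine Nat.card_le_card_of_injective (fun a => (⟨g⁻¹ * a.1 * g,
        ⟨a.1, a.2.1, by show g⁻¹ * a.1 * g⁻¹⁻¹ = _; rw [inv_inv]⟩,
        hCW w hw hw1 (mem_centralizer_of_commute ?_)⟩ : A)) ?_
      · obtain ⟨a, -, hau⟩ := a
        show g⁻¹ * a * g * w = w * (g⁻¹ * a * g)
        calc g⁻¹ * a * g * w = g⁻¹ * (a * u) * g := by rw [hu]; group
          _ = w * (g⁻¹ * a * g) := by rw [hau, hu]; group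
      · intro a a' e
        exact Subtype.ext (mul_left_cancel (mul_right_cancel (congrArg Subtype.val e : _)))
    omega
  have hCv : ∀ u ∈ L.N, u ∉ L.W → orderOf u = 2 → Subgroup.centralizer ({u} : Set G) ≤ L.N := by
    intro u hu huW hu2
    by_contra hc
    set T := Subgroup.centralizer ({u} : Set G)
    obtain ⟨g, hgT, hgH, hg⟩ := exists_normalizing (centralizer_isPGroup hG hu2)
      (inf_le_left : T ⊓ L.N ≤ T) fun e => hc (e.trans inf_le_right)
    obtain ⟨w, hwW, hwu, hw1⟩ : ∃ w, w ∈ L.W ∧ w * u = u * w ∧ w ≠ 1 := by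
      by_contra hcon
      push Not at hcon
      have h1 : Nat.card {a : G // a ∈ L.W ∧ a * u = u * a} ≤ 1 :=
        Finite.card_le_one_iff_subsingleton.2
          ⟨fun a b => Subtype.ext ((hcon _ a.2.1 a.2.2).trans (hcon _ b.2.1 b.2.2).symm)⟩
      have := F.card_centralizer_W hG hu huW (invol_sq hu2)
      omega
    have hgw := hg w ⟨Subgroup.mem_centralizer_singleton_iff.2 hwu, L.W_le hwW⟩
    exact hgH ⟨hgT, hTI g w hwW hw1 (hno g w hwW hw1 hgw.2)⟩
  obtain ⟨w, hw, hw1⟩ := L.exists_mem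
  have hall : ∀ t ∈ L.N, orderOf t = 2 → Subgroup.centralizer ({t} : Set G) ≤ L.N := fun t ht ht2 => by
    by_cases htW : t ∈ L.W
    · exact hCW t htW fun e => by rw [e, orderOf_one] at ht2; omega
    · exact hCv t ht htW ht2
  obtain ⟨g, hg⟩ := h.all_conj (L.N_ne_top h) hall (L.W_le hw) (L.orderOf_of_mem hw hw1) F.v F.hv
  have hvW : F.v ∈ L.W := hg ▸ hno g w hw hw1 (hg ▸ F.vN)
  exact Alt.five_facts.2.1 (F.mv.symm.trans (L.m_of_mem hvW))

end Frame

end LocA5

end CfsgLib.Recog.EPOFive
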