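import Cfsg.Agent.Lib.Recog.EPOFive.Context
import Cfsg.Agent.Lib.Recog.EPOFive.LocalFacts

/-!
A normal alternating group of degree six with trivial 2-core above it is the whole group.
-/

set_option autoImplicit false

namespace CfsgLib.Recog.EPOFive

open Subgroup

universe u

variable {G : Type u} [Group G] [Finite G]

/-- An element normalising a subgroup of order five or nine acts without being of the wrong order. -/
theorem Spec.coprime_fix (hG : Spec G) {P : Subgroup G} {q p : ℕ} [hp : Fact p.Prime]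
    (hP : IsPGroup q P) (hq : q.Prime) (hne : q ≠ p) {g : G} (hg : orderOf g = p)
    (hn : g ∈ Subgroup.normalizer (P : Set G)) : Nat.card P % p = 1 := by
  classical
  let φ : Subgroup.zpowers g →* MulAut P :=
    P.normalizerMonoidHom.comp (Subgroup.inclusion (Subgroup.zpowers_le.2 hn))
  let act : MulAction (Subgroup.zpowers g) P := MulAction.compHom P φ
  have hgp : IsPGroup p (Subgroup.zpowers g) :=
    IsPGroup.of_card (n := 1) (by rw [Nat.card_zpowers, hg, pow_one])
  have hmod := hgp.card_modEq_card_fixedPoints (α := P)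
  have hfix : MulAction.fixedPoints (Subgroup.zpowers g) P = {(1 : P)} := by
    ext a
    simp only [MulAction.mem_fixedPoints, Set.mem_singleton_iff]
    constructor
    · intro ha
      by_contra ha1
      have h1 : φ ⟨g, Subgroup.mem_zpowers g⟩ a = a := ha ⟨g, Subgroup.mem_zpowers g⟩
      have h2 : g * (a : G) * g⁻¹ = a := congrArg Subtype.val h1
      have hc : Commute g (a : G) := mul_inv_eq_iff_eq_mul.1 h2
      have hg1 : g ≠ 1 := fun e => by rw [e, orderOf_one] at hg; exact hp.out.ne_one hg.symm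
      refine ha1 (Subtype.ext (hG.eq_one_of_commute hc hg1 ?_))
      have : Fact q.Prime := ⟨hq⟩
      obtain ⟨k, hk⟩ := hP.exists_orderOf_eq_pow a
      rw [hg, Subgroup.orderOf_coe, hk]
      exact Nat.Coprime.pow_right _ ((Nat.coprime_primes hp.out hq).2 (Ne.symm hne))
    · rintro rfl b
      exact map_one (φ b)
  rw [hfix] at hmod
  have h1 : Nat.card ({(1 : P)} : Set P) = 1 := by simp
  rw [h1] at hmod
  rw [hmod, Nat.mod_eq_of_lt hp.out.one_lt]

/-- Outside the 2-core an involution inverts an element of order three or five. -/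
theorem Spec.invol_inverts (hG : Spec G) (hO : Cfsg.pCore 2 G = ⊥) {u : G} (hu : orderOf u = 2) :
    ∃ w : G, (orderOf w = 3 ∨ orderOf w = 5) ∧ u * w * u⁻¹ = w⁻¹ := by
  have : Fact (Nat.Prime 2) := ⟨Nat.prime_two⟩
  by_contra hcon
  push Not at hcon
  have hu2 := invol_sq hu
  have hui := invol_inv hu
  have hmem : u ∈ Cfsg.pCore 2 G := by
    refine CfsgLib.Invol.baer_suzuki_mem_pCore fun g => ?_
    set s := g * u * g⁻¹ with hs
    have hs2 : s * s = 1 := by rw [hs, conj_mul, hu2]; simp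
    set w := u * s with hw
    have hinv : u * w * u⁻¹ = w⁻¹ := by
      rw [hw, mul_inv_rev, hui, inv_eq_of_mul_eq_one_left hs2, ← mul_assoc, hu2, one_mul]
    obtain ⟨k, hk⟩ : ∃ k, orderOf w = 2 ^ k := by
      rcases hG.orderOf_cases w with e | e | e | e | e
      exacts [⟨0, e⟩, ⟨1, e⟩, absurd hinv (hcon w (Or.inl e)), ⟨2, e⟩, absurd hinv (hcon w (Or.inr e))]
    have hn : u ∈ Subgroup.normalizer (Subgroup.zpowers w : Set G) := by
      refine Subgroup.mem_normalizer_fintype fun z hz => ?_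
      obtain ⟨i, rfl⟩ := Subgroup.mem_zpowers_iff.1 hz
      rw [← conj_zpow, hinv]
      exact zpow_mem (inv_mem (Subgroup.mem_zpowers w)) i
    have hWp : IsPGroup 2 (Subgroup.zpowers w) :=
      IsPGroup.of_card (n := k) (by rw [Nat.card_zpowers, hk])
    have hTp : IsPGroup 2 (Subgroup.zpowers u) :=
      IsPGroup.of_card (n := 1) (by rw [Nat.card_zpowers, hu, pow_one])
    refine (hTp.to_sup_of_normal_right' hWp (Subgroup.zpowers_le.2 hn)).to_le
      ((Subgroup.closure_le _).2 ?_)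
    rintro x (rfl | rfl)
    · exact Subgroup.mem_sup_left (Subgroup.mem_zpowers _)
    · have h : s = u * w := by rw [hw, ← mul_assoc, hu2, one_mul]
      rw [h]
      exact mul_mem (Subgroup.mem_sup_left (Subgroup.mem_zpowers _))
        (Subgroup.mem_sup_right (Subgroup.mem_zpowers _))
  rw [hO, Subgroup.mem_bot] at hmem
  rw [hmem, orderOf_one] at hu
  omega

theorem Spec.normal_A6 (hG : Spec G) (hO : Cfsg.pCore 2 G = ⊥) {M : Subgroup G} [M.Normal]
    (e : M ≃* Alt.A6) : M = ⊤ := by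
  classical
  obtain ⟨g1, g2, g3, g4, g5, g6, g7, g8, g9, g10, g11, g12, g13, g14, g15, g16, g17, g18, g19⟩ :=
    Alt.six_facts
  obtain ⟨s1, s2, s3, s4, s5⟩ := Alt.six_S_facts
  have : Fact (Nat.Prime 2) := ⟨Nat.prime_two⟩
  have : Fact (Nat.Prime 3) := ⟨Nat.prime_three⟩
  have : Fact (Nat.Prime 5) := ⟨Nat.prime_five⟩
  let φ : Alt.A6 →* G := M.subtype.comp e.symm.toMonoidHom
  have hφ : Function.Injective φ := M.subtype_injective.comp e.symm.injective
  have hφM : ∀ q, φ q ∈ M := fun q => (e.symm q).2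
  have hback : ∀ g ∈ M, ∃ q, φ q = g := fun g hg => ⟨e ⟨g, hg⟩, by simp [φ]⟩
  -- Sylow subgroups of `M`
  let S0 : Subgroup Alt.A6 :=
    { carrier := {q | q ∈ Alt.S6}
      one_mem' := by simp [Alt.S6]
      mul_mem' := fun {a b} ha hb => Alt.six_S_mul a ha b hb
      inv_mem' := fun {a} ha => Alt.six_S_inv a ha }
  have hS0 : Nat.card S0 = 9 := by
    have : Nat.card Alt.S6 = Nat.card S0 := Nat.card_congr (Equiv.subtypeEquivRight fun _ => Iff.rfl)
    rw [← this, Nat.card_eq_finsetCard, s1]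
  have hfact : ∀ p k : ℕ, p.Prime → p ^ k ∣ 360 → ¬ p ^ (k + 1) ∣ 360 → (360 : ℕ).factorization p = k := by
    intro p k hp h1 h2
    rw [hp.pow_dvd_iff_le_factorization (by norm_num)] at h1 h2
    omega
  have hcardM : Nat.card M = 360 := by rw [Nat.card_congr e.toEquiv, Alt.six_card]
  have frattini : ∀ {p : ℕ} [Fact p.Prime] (P : Subgroup Alt.A6), Nat.card P = p ^ (360 : ℕ).factorization p →
      Nat.card (G ⧸ M) ∣ Nat.card (Subgroup.normalizer (P.map φ : Set G)) := by
    intro p _ P hP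
    have hsub : (P.map e.symm.toMonoidHom).map M.subtype = P.map φ := Subgroup.map_map _ _ _
    have hS := Sylow.normalizer_sup_eq_top (Sylow.ofCard (P.map e.symm.toMonoidHom) (by
      rw [hcardM, ← hP]
      exact (Nat.card_congr (Subgroup.equivMapOfInjective P _ e.symm.injective).toEquiv).symm) :
      Sylow p M)
    rw [Sylow.coe_ofCard, hsub] at hS
    refine Subgroup.card_dvd_of_surjective ((QuotientGroup.mk' M).comp
      (Subgroup.normalizer (P.map φ : Set G)).subtype) fun x => ?_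
    obtain ⟨g, rfl⟩ := QuotientGroup.mk'_surjective M x
    have hg : g ∈ Subgroup.normalizer (P.map φ : Set G) ⊔ M := hS ▸ Subgroup.mem_top g
    obtain ⟨n, hn, m, hm, rfl⟩ := Subgroup.mem_sup_of_normal_right.1 hg
    exact ⟨⟨n, hn⟩, (QuotientGroup.mk_mul_of_mem n hm).symm⟩
  have hP3 : IsPGroup 3 (S0.map φ) := (IsPGroup.of_card (n := 2) (by rw [hS0]; rfl)).map φ
  have hP5 : IsPGroup 5 ((Subgroup.zpowers Alt.f6).map φ) :=
    (IsPGroup.of_card (n := 1) (by rw [Nat.card_zpowers, orderOf_eq_prime g15 g16, pow_one])).map φ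
  have hF := frattini (p := 5) (Subgroup.zpowers Alt.f6) (by
    rw [Nat.card_zpowers, orderOf_eq_prime g15 g16, hfact 5 1 Nat.prime_five (by norm_num) (by norm_num), pow_one])
  have hS := frattini (p := 3) S0 (by rw [hS0, hfact 3 2 Nat.prime_three (by norm_num) (by norm_num)]; rfl)
  -- the quotient is a 2-group
  have hQ : IsPGroup 2 (G ⧸ M) := by
    refine fun x => ?_
    obtain ⟨k, hk⟩ : ∃ k, orderOf x = 2 ^ k := by
      refine ⟨_, Nat.eq_prime_pow_of_unique_prime_dvd (orderOf_pos x).ne' fun {d} hd hdd => ?_⟩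
      have hdQ := hdd.trans (orderOf_dvd_natCard x)
      rcases (hG.quotient M).prime_cases hd hdQ with e' | e' | e'
      · exact e'
      · exfalso
        subst e'
        obtain ⟨⟨g, hgn⟩, hg⟩ := exists_prime_orderOf_dvd_card' (G :=
          Subgroup.normalizer ((Subgroup.zpowers Alt.f6).map φ : Set G)) 3 (hdQ.trans hF)
        rw [Subgroup.orderOf_mk] at hg
        have h1 := hG.coprime_fix (p := 3) hP5 Nat.prime_five (by norm_num) hg hgn
        rw [← Nat.card_congr (Subgroup.equivMapOfInjective _ φ hφ).toEquiv, Nat.card_zpowers,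
          orderOf_eq_prime g15 g16] at h1
        omega
      · exfalso
        subst e'
        obtain ⟨⟨g, hgn⟩, hg⟩ := exists_prime_orderOf_dvd_card' (G :=
          Subgroup.normalizer (S0.map φ : Set G)) 5 (hdQ.trans hS)
        rw [Subgroup.orderOf_mk] at hg
        have h1 := hG.coprime_fix (p := 5) hP3 Nat.prime_three (by norm_num) hg hgn
        rw [← Nat.card_congr (Subgroup.equivMapOfInjective _ φ hφ).toEquiv, hS0] at h1
        omega
    exact ⟨k, by rw [← hk]; exact pow_orderOf_eq_one x⟩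
  have hoddM : ∀ g : G, Odd (orderOf g) → g ∈ M := by
    intro g hg
    rw [← QuotientGroup.eq_one_iff, ← orderOf_eq_one_iff]
    obtain ⟨k, hk⟩ := hQ.exists_orderOf_eq_pow (g : G ⧸ M)
    have hd : orderOf (g : G ⧸ M) ∣ orderOf g := orderOf_map_dvd (QuotientGroup.mk' M) g
    rw [hk] at hd ⊢
    exact Nat.eq_one_of_dvd_coprimes (Nat.Coprime.pow_left k (Nat.coprime_two_left.2 hg)) dvd_rfl hd
  -- no involutions outside
  have hinv : ∀ u : G, orderOf u = 2 → u ∈ M := by
    intro u hu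
    obtain ⟨w, hw, huw⟩ := hG.invol_inverts hO hu
    have hwM : w ∈ M := hoddM w (by rcases hw with e | e <;> rw [e] <;> decide)
    obtain ⟨t, htM, ht, htw⟩ : ∃ t ∈ M, orderOf t = 2 ∧ t * w * t⁻¹ = w⁻¹ := by
      obtain ⟨q, rfl⟩ := hback w hwM
      rw [orderOf_injective φ hφ] at hw
      have h6 : Spec Alt.A6 := hG.of_injective φ hφ
      have main : ∀ {p : ℕ} (R : RealElt Alt.A6 p), orderOf q = p →
          ∃ t ∈ M, orderOf t = 2 ∧ t * φ q * t⁻¹ = (φ q)⁻¹ := by
        intro p R hq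
        obtain ⟨k, hk, -⟩ := R.exists_conj h6 hq
        refine ⟨φ (k * R.u * k⁻¹), hφM _, by rw [orderOf_injective φ hφ]; exact invol_conj k R.hu, ?_⟩
        rw [← map_inv, ← map_inv, ← map_mul, ← map_mul]
        refine congrArg φ ?_
        have := R.inverts h6 _ hk
        calc k * R.u * k⁻¹ * q * (k * R.u * k⁻¹)⁻¹ = k * (R.u * (k⁻¹ * q * k) * R.u⁻¹) * k⁻¹ := by group
          _ = q⁻¹ := by rw [this]; group
      have hz : orderOf (Alt.r6 ^ 2) = 2 := orderOf_eq_prime (by rw [← pow_mul]; exact g8) g9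
      rcases hw with e' | e'
      · exact main ⟨Alt.r6 ^ 2, Alt.a6, hz, orderOf_eq_prime g1 g2, s5, Or.inl rfl⟩ e'
      · exact main ⟨Alt.t6, Alt.f6, orderOf_eq_prime g17 g18, orderOf_eq_prime g15 g16, g19, Or.inr rfl⟩ e'
    have hc : Commute (t * u) w := by
      show t * u * w = w * (t * u)
      calc t * u * w = t * (u * w * u⁻¹) * t⁻¹ * (t * u) := by group
        _ = w * (t * u) := by rw [huw, ← conj_inv, htw, inv_inv]
    have hw1 : w ≠ 1 := fun e' => by rw [e', orderOf_one] at hw; omega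
    have htu : t * u ∈ M := by
      refine hoddM _ (Nat.not_even_iff_odd.1 fun hev => ?_)
      obtain ⟨m, hm⟩ := hev
      have hpos := orderOf_pos (t * u)
      have hz2 : orderOf ((t * u) ^ m) = 2 := by
        rw [orderOf_pow' _ (by omega), hm, show Nat.gcd (m + m) m = m from Nat.gcd_eq_right ⟨2, by ring⟩]
        exact Nat.div_eq_of_eq_mul_left (by omega) (by ring)
      refine hw1 (hG.eq_one_of_commute (hc.pow_left m) (fun e' => by rw [e', orderOf_one] at hz2; omega) ?_)
      rw [hz2]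
      rcases hw with e' | e' <;> rw [e'] <;> norm_num
    have := mul_mem (inv_mem htM) htu
    rwa [inv_mul_cancel_left] at this
  by_contra htop
  -- an element outside normalising a cyclic group of order four
  set N := Subgroup.normalizer (S0.map φ : Set G) with hN
  set r := φ Alt.r6 with hr
  have hr4 : orderOf r = 4 := by
    rw [hr, orderOf_injective φ hφ]
    exact orderOf_eq_prime_pow (p := 2) (n := 1) (by simpa using g9) (by simpa using g8)
  have hri : r⁻¹ = φ Alt.r6⁻¹ := (map_inv φ Alt.r6).symm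
  have hr4' : r ^ 4 = 1 := by rw [← hr4]; exact pow_orderOf_eq_one r
  have hrz : ∀ x ∈ Subgroup.zpowers r, x = 1 ∨ x = r ∨ x = r ^ 2 ∨ x = r ^ 3 := by
    intro x hx
    rw [mem_zpowers_iff_mem_range_orderOf, hr4, Finset.mem_image] at hx
    obtain ⟨i, hi, rfl⟩ := hx
    rw [Finset.mem_range] at hi
    interval_cases i <;> simp
  have hrN : r ∈ N := by
    refine Subgroup.mem_normalizer_fintype fun x hx => ?_
    obtain ⟨q, hq, rfl⟩ := hx
    exact ⟨_, s4 q hq, by simp [hr]⟩
  obtain ⟨K, hK⟩ := (IsPGroup.of_card (n := 2) (G := Subgroup.zpowers (⟨r, hrN⟩ : N))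
    (by rw [Nat.card_zpowers, Subgroup.orderOf_mk, hr4]; rfl) : IsPGroup 2 _).exists_le_sylow
  set K' : Subgroup G := (K : Subgroup N).map N.subtype with hK'
  have hK'p : IsPGroup 2 K' := K.2.map _
  have hrK : Subgroup.zpowers r ≤ K' := Subgroup.zpowers_le.2 ⟨⟨r, hrN⟩, hK (Subgroup.mem_zpowers _), rfl⟩
  have hsq : ∀ g : G, g * r * g⁻¹ ∈ Subgroup.zpowers r → g * r * g⁻¹ = r ∨ g * r * g⁻¹ = r⁻¹ := by
    intro g hg
    have hord : orderOf (g * r * g⁻¹) = 4 := ((MulAut.conj g).orderOf_eq r).trans hr4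
    rcases hrz _ hg with e' | e' | e' | e'
    · rw [e', orderOf_one] at hord; omega
    · exact Or.inl e'
    · exfalso
      rw [e', orderOf_pow' r two_ne_zero, hr4] at hord
      norm_num at hord
    · exact Or.inr (e'.trans (eq_inv_of_mul_eq_one_left (by rw [← pow_succ, hr4'])))
  have hKM : K' ⊓ M ≤ Subgroup.zpowers r := by
    by_contra hc
    obtain ⟨g, hgK, hgr, hg⟩ := exists_normalizing (hK'p.to_le (inf_le_left : K' ⊓ M ≤ K'))
      (le_inf hrK (Subgroup.zpowers_le.2 (hφM _))) hc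
    obtain ⟨⟨n, hnN⟩, hnK, hgn⟩ := hgK.1
    obtain ⟨q, rfl⟩ := hback g hgK.2
    have hgN : φ q ∈ N := hgn ▸ hnN
    have hq : ∀ a ∈ Alt.S6, q * a * q⁻¹ ∈ Alt.S6 := by
      intro a ha
      obtain ⟨b, hb, hb'⟩ := (Subgroup.mem_normalizer_iff.1 hgN (φ a)).1 ⟨a, ha, rfl⟩
      rw [← map_inv, ← map_mul, ← map_mul] at hb'
      rw [← hφ hb']; exact hb
    have hqr : q * Alt.r6 * q⁻¹ = Alt.r6 ∨ q * Alt.r6 * q⁻¹ = Alt.r6⁻¹ := by
      rcases hsq (φ q) (hg r (Subgroup.mem_zpowers r)) with e' | e'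
      · exact Or.inl (hφ (by rw [map_mul, map_mul, map_inv]; exact e'))
      · exact Or.inr (hφ (by rw [map_mul, map_mul, map_inv, map_inv]; exact e'))
    apply hgr
    rcases Alt.six_normalizer q (hq _ s2) (hq _ s3) hqr with rfl | rfl | rfl | rfl
    · rw [map_one]; exact one_mem _
    · exact Subgroup.mem_zpowers r
    · rw [map_pow]; exact pow_mem (Subgroup.mem_zpowers r) 2
    · rw [map_pow]; exact pow_mem (Subgroup.mem_zpowers r) 3
  have hKnM : ¬ K' ≤ M := by
    intro hle
    apply htop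
    rw [← Subgroup.index_eq_one]
    obtain ⟨k, hk⟩ := IsPGroup.iff_card.1 hQ
    have hdvd : M.index ∣ (K : Subgroup N).index := by
      have hsurj : Function.Surjective ((QuotientGroup.mk' M).comp N.subtype) := fun x => by
        obtain ⟨g, rfl⟩ := QuotientGroup.mk'_surjective M x
        have hSy := Sylow.normalizer_sup_eq_top (Sylow.ofCard (S0.map e.symm.toMonoidHom) (by
          rw [hcardM, hfact 3 2 Nat.prime_three (by norm_num) (by norm_num)]
          rw [← Nat.card_congr (Subgroup.equivMapOfInjective S0 _ e.symm.injective).toEquiv, hS0]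
          rfl) : Sylow 3 M)
        rw [Sylow.coe_ofCard, Subgroup.map_map] at hSy
        have hg : g ∈ N ⊔ M := hSy ▸ Subgroup.mem_top g
        obtain ⟨n, hn, m, hm, rfl⟩ := Subgroup.mem_sup_of_normal_right.1 hg
        exact ⟨⟨n, hn⟩, (QuotientGroup.mk_mul_of_mem n hm).symm⟩
      rw [show M.index = (⊥ : Subgroup (G ⧸ M)).index by rw [Subgroup.index_bot]; rfl,
        ← Subgroup.index_comap_of_surjective (H := (⊥ : Subgroup (G ⧸ M))) hsurj]
      refine Subgroup.index_dvd_of_le fun x hx => ?_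
      rw [Subgroup.mem_comap, Subgroup.mem_bot]
      exact (QuotientGroup.eq_one_iff _).2 (hle ⟨x, hx, rfl⟩)
    have hodd := K.not_dvd_index
    have hkk : M.index = 2 ^ k := by rw [← hk]; rfl
    rcases k with _ | k
    · rw [hkk]; rfl
    · exact absurd ((dvd_pow_self 2 (Nat.succ_ne_zero k)).trans (hkk ▸ hdvd)) hodd
  obtain ⟨g, hgK, hgr, hg⟩ := exists_normalizing hK'p hrK fun hle => hKnM (hle.trans
    (Subgroup.zpowers_le.2 (hφM _)))
  have hgM : g ∉ M := fun h' => hgr (hKM ⟨hgK, h'⟩)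
  obtain ⟨c, hcM, hcr⟩ : ∃ c : G, c ∉ M ∧ Commute c r := by
    rcases hsq g (hg r (Subgroup.mem_zpowers r)) with e' | e'
    · exact ⟨g, hgM, mul_inv_eq_iff_eq_mul.1 e'⟩
    · refine ⟨g * φ Alt.s6, fun h' => hgM ?_, mul_inv_eq_iff_eq_mul.1 ?_⟩
      · have := mul_mem h' (inv_mem (hφM Alt.s6))
        rwa [mul_inv_cancel_right] at this
      · calc g * φ Alt.s6 * r * (g * φ Alt.s6)⁻¹ = g * φ (Alt.s6 * Alt.r6 * Alt.s6⁻¹) * g⁻¹ := by
              rw [map_mul, map_mul, map_inv, hr]; group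
          _ = r := by rw [g14, map_inv, ← hr, ← conj_inv, e', inv_inv]
  have hr1 : r ≠ 1 := fun e' => by rw [e', orderOf_one] at hr4; omega
  have hc1 : c ≠ 1 := fun e' => hcM (e' ▸ one_mem M)
  rcases hG.orderOf_cases c with e' | e' | e' | e' | e'
  · exact hc1 (orderOf_eq_one_iff.1 e')
  · exact hcM (hinv c e')
  · exact hr1 (hG.eq_one_of_commute hcr hc1 (by rw [e', hr4]; norm_num))
  · have hc2 : orderOf (c ^ 2) = 2 := by rw [orderOf_pow' c two_ne_zero, e']; rfl
    obtain ⟨q, hq⟩ := hback _ (hinv _ hc2)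
    have hqc : q * Alt.r6 = Alt.r6 * q := hφ (by rw [map_mul, map_mul, hq, ← hr]; exact (hcr.pow_left 2).eq)
    have hcsq : c ^ 2 = r ^ 2 := by
      rw [← hq] at hc2 ⊢
      rcases Alt.six_centralizer_r q hqc with rfl | rfl | rfl | rfl
      · rw [map_one, orderOf_one] at hc2; omega
      · rw [← hr, hr4] at hc2; omega
      · rw [map_pow]
      · rw [map_pow, ← hr, orderOf_pow' r (by norm_num), hr4] at hc2; norm_num at hc2
    have hd2 : (c * r⁻¹) ^ 2 = 1 := by rw [(hcr.inv_right).mul_pow, hcsq, inv_pow, mul_inv_cancel]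
    have hd1 : c * r⁻¹ ≠ 1 := fun e'' => hcM (by rw [mul_inv_eq_one.1 e'']; exact hφM _)
    have := hinv _ (orderOf_eq_prime hd2 hd1)
    exact hcM (by have := mul_mem this (hφM Alt.r6); rwa [← hr, inv_mul_cancel_right] at this)
  · exact hr1 (hG.eq_one_of_commute hcr hc1 (by rw [e', hr4]; norm_num))

end CfsgLib.Recog.EPOFive
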