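import Cfsg.Agent.Lib.Recog.EPOFive.Simple
import Cfsg.Agent.Lib.Recog.EPOFive.NormalA6
import Cfsg.Agent.Lib.Pres.SLTwo
import Cfsg.Agent.S3331
import Cfsg.Agent.S2119

/-!
Insoluble groups with element orders at most five.
-/

set_option autoImplicit false

namespace CfsgLib.Recog.EPOFive

open Subgroup

universe u

variable {G : Type u} [Group G] [Finite G]

/-- There is a four group in a group of the shape of the conclusion. -/
theorem Spec.four_of_concl (hG : Spec G) (hc : Concl G) :
    ∃ a b : G, orderOf a = 2 ∧ orderOf b = 2 ∧ Commute a b ∧ a ≠ b := by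
  obtain ⟨f1, f2, f3, f4, f5, f6, f7, f8, f9, f10, f11, f12, f13, f14, f15, f16⟩ := Alt.five_facts
  obtain ⟨g1, g2, g3, g4, g5, g6, g7, g8, g9, g10, g11, g12, g13, g14, g15, g16, g17, g18, g19⟩ :=
    Alt.six_facts
  have : Fact (Nat.Prime 2) := ⟨Nat.prime_two⟩
  rcases hc with ⟨W, hWn, ⟨hWc, hW2⟩, ⟨e⟩⟩ | ⟨⟨e⟩⟩
  · by_cases hW : W = ⊥
    · subst hW
      have e' : G ≃* Alt.A5 := (QuotientGroup.quotientBot (G := G)).symm.trans e
      refine ⟨e'.symm Alt.a5, e'.symm Alt.b5, ?_, ?_, (show Commute Alt.a5 Alt.b5 from f5).map e'.symm.toMonoidHom,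
        fun h => f6 (e'.symm.injective h)⟩
      · rw [MulEquiv.orderOf_eq]; exact orderOf_eq_prime f1 f2
      · rw [MulEquiv.orderOf_eq]; exact orderOf_eq_prime f3 f4
    · obtain ⟨⟨a, ha⟩, ha'⟩ := Subgroup.ne_bot_iff_exists_ne_one.1 hW
      have ha1 : a ≠ 1 := fun e' => ha' (Subtype.ext e')
      have hord : ∀ w ∈ W, w ≠ 1 → orderOf w = 2 := fun w hw hw1 => orderOf_eq_prime (hW2 w hw) hw1
      by_cases hb : ∃ b ∈ W, b ≠ 1 ∧ b ≠ a
      · obtain ⟨b, hb, hb1, hba⟩ := hb
        exact ⟨a, b, hord a ha ha1, hord b hb hb1,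
          congrArg Subtype.val (hWc.is_comm.comm ⟨a, ha⟩ ⟨b, hb⟩), Ne.symm hba⟩
      push Not at hb
      exfalso
      have : Fact (Nat.Prime 3) := ⟨Nat.prime_three⟩
      obtain ⟨g, hg⟩ := (e.surjective.comp (QuotientGroup.mk'_surjective W)) Alt.x5
      have hg3 : orderOf g = 3 := hG.orderOf_lift (e.toMonoidHom.comp (QuotientGroup.mk' W)) (Or.inl rfl)
        (by
          show orderOf ((e ∘ QuotientGroup.mk' W) g) = 3
          rw [hg]; exact orderOf_eq_prime f12 f13)
      have hga : g * a * g⁻¹ = a :=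
        hb _ (hWn.conj_mem a ha g) fun e' => ha1 (conj_eq_one_iff.1 e')
      have hc : Commute g a := mul_inv_eq_iff_eq_mul.1 hga
      exact ha1 (hG.eq_one_of_commute hc (fun e' => by rw [e', orderOf_one] at hg3; omega)
        (by rw [hg3, hord a ha ha1]; norm_num))
  · refine ⟨e.symm (Alt.r6 ^ 2), e.symm Alt.s6, ?_, ?_, ?_, fun h => ?_⟩
    · rw [MulEquiv.orderOf_eq]; exact orderOf_eq_prime (by rw [← pow_mul]; exact g8) g9
    · rw [MulEquiv.orderOf_eq]; exact orderOf_eq_prime g12 g13
    · exact (show Commute (Alt.r6 ^ 2) Alt.s6 by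
        unfold Commute SemiconjBy; decide +kernel).map e.symm.toMonoidHom
    · exact absurd (e.symm.injective h) (by decide +kernel)

/-- An insoluble group has an element of order three or five, and every such group has order
divisible by three. -/
theorem Spec.three_dvd (hG : Spec G) (hns : ¬ Group.IsSolvable G) : 3 ∣ Nat.card G := by
  by_contra h3
  refine hns (CfsgLib.Char.burnside_pq 2 5 Nat.prime_two Nat.prime_five
    ((Nat.card G).factorization 2) ((Nat.card G).factorization 5) G ?_)
  have hb : (Nat.card G).factorization 3 = 0 := Nat.factorization_eq_zero_of_not_dvd h3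
  have := card_eq_primes hG
  rwa [hb, pow_zero, mul_one] at this

/-- The case of a Sylow 3-subgroup of order three. -/
theorem Spec.concl_three (hG : Spec G) (hns : ¬ Group.IsSolvable G) (h9 : ¬ 9 ∣ Nat.card G) :
    Concl G := by
  have : Fact (Nat.Prime 3) := ⟨Nat.prime_three⟩
  obtain ⟨x, hx⟩ := exists_prime_orderOf_dvd_card' (G := G) 3 (hG.three_dvd hns)
  set X := Subgroup.zpowers x with hXdef
  have hX : Nat.card X = 3 := by rw [hXdef, Nat.card_zpowers, hx]
  have hCX : Subgroup.centralizer (X : Set G) = X := by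
    have hle : X ≤ Subgroup.centralizer (X : Set G) := by
      intro a ha b hb
      obtain ⟨i, rfl⟩ := Subgroup.mem_zpowers_iff.1 ha
      obtain ⟨j, rfl⟩ := Subgroup.mem_zpowers_iff.1 hb
      exact ((Commute.refl x).zpow_zpow j i).eq
    refine (Subgroup.eq_of_le_of_card_ge hle ?_).symm
    have h3 : IsPGroup 3 (Subgroup.centralizer (X : Set G)) :=
      (hG.isPGroup_centralizer hx).to_le (Subgroup.centralizer_le (by
        rw [Set.singleton_subset_iff]; exact Subgroup.mem_zpowers x))
    obtain ⟨k, hk⟩ := IsPGroup.iff_card.1 h3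
    rw [hk, hX]
    rcases k with _ | _ | k
    · norm_num
    · norm_num
    · exfalso
      exact h9 (Dvd.dvd.trans ⟨3 ^ k, by ring⟩ (hk ▸ Subgroup.card_subgroup_dvd_card _))
  rcases Cfsg.Agent.S3331.result X hX hCX with ⟨N, hN, hnil, -, hq⟩ | ⟨N, hN, hc, h2, he⟩ | ⟨⟨e⟩⟩
  · exfalso
    refine hns ((Group.isSolvable_iff_subgroup_quotient N).2 ⟨inferInstance, ?_⟩)
    rcases hq with hq | ⟨⟨e⟩⟩
    · refine CfsgLib.Char.burnside_pq 2 3 Nat.prime_two Nat.prime_three 0 1 _ (by rw [hq]; rfl)
    · exact CfsgLib.Char.burnside_pq 2 3 Nat.prime_two Nat.prime_three 1 1 _ (by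
        rw [Nat.card_congr e.toEquiv, Nat.card_eq_fintype_card, Fintype.card_perm, Fintype.card_fin]; rfl)
  · exact Or.inl ⟨N, hN, ⟨hc, h2⟩, he⟩
  · exfalso
    have : Fact (Nat.Prime 7) := ⟨by norm_num⟩
    have hc := CfsgLib.Pres.two_mul_card_psl (ZMod 7) (by decide +revert)
    rw [ZMod.card] at hc
    obtain ⟨g, hg⟩ := exists_prime_orderOf_dvd_card' (G := G) 7 (by
      rw [Nat.card_congr e.toEquiv]
      exact ⟨24, by omega⟩)
    have := hG g
    omega

/-- In the remaining case there is no soluble normal subgroup. -/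
theorem Spec.no_solvable_normal (hG : Spec G) (hns : ¬ Group.IsSolvable G) (h9 : 9 ∣ Nat.card G)
    (ih : ∀ (H : Type u) [Group H] [Finite H], Nat.card H < Nat.card G → Spec H →
      ¬ Group.IsSolvable H → Concl H)
    {N : Subgroup G} (hN : N.Normal) (hs : Group.IsSolvable N) : N = ⊥ := by
  by_contra hne
  obtain ⟨M, hM, hM1, hMN, hmin⟩ := CfsgLib.Solvable.exists_minimal_normal_le hN hne
  have : Group.IsSolvable M :=
    Group.isSolvable_of_isSolvable_injective (f := Subgroup.inclusion hMN) (Subgroup.inclusion_injective _)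
  obtain ⟨p, hp, hMp, -, -⟩ := CfsgLib.Solvable.exists_isPGroup_of_minimal_normal hM1 hmin
  obtain ⟨a, b, ha, hb, hab, hba, hba'⟩ := hG.exists_nine h9
  have : Fact p.Prime := ⟨hp⟩
  have hn : ∀ g : G, g ∈ Subgroup.normalizer (M : Set G) := fun g => by
    rw [Subgroup.normalizer_eq_top_iff.2 hM]; exact Subgroup.mem_top g
  by_cases hp2 : p = 2
  · subst hp2
    exact hG.nine_contra ha hb hab hba hba' hM1 hMp (hn a) (hn b)
  have hodd : Odd (Nat.card M) := by
    obtain ⟨k, hk⟩ := IsPGroup.iff_card.1 hMp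
    rw [hk]
    exact (hp.odd_of_ne_two hp2).pow
  have hQ : ¬ Group.IsSolvable (G ⧸ M) := fun h =>
    hns ((Group.isSolvable_iff_subgroup_quotient M).2 ⟨inferInstance, h⟩)
  have hlt : Nat.card (G ⧸ M) < Nat.card G := by
    rw [Subgroup.card_eq_card_quotient_mul_card_subgroup M]
    exact lt_mul_of_one_lt_right Nat.card_pos ((Subgroup.one_lt_card_iff_ne_bot M).2 hM1)
  obtain ⟨q₁, q₂, hq₁, hq₂, hqc, hqne⟩ :=
    (hG.quotient M).four_of_concl (ih _ hlt (hG.quotient M) hQ)
  have h22 : ∀ (g : G) (q : G ⧸ M), orderOf q = 2 → (g : G ⧸ M) = q → orderOf g = 2 := by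
    intro g q hq hgq
    have hd : orderOf q ∣ orderOf g := hgq ▸ orderOf_map_dvd (QuotientGroup.mk' M) g
    rw [hq] at hd
    rcases hG.orderOf_cases g with e | e | e | e | e <;> rw [e] at hd <;> try omega
    exfalso
    have h2 : orderOf (g * g) = 2 := by rw [← pow_two, orderOf_pow' g two_ne_zero, e]; rfl
    have hm : g * g ∈ M := by
      rw [← QuotientGroup.eq_one_iff, QuotientGroup.mk_mul, hgq, ← pow_two, ← hq, pow_orderOf_eq_one]
    have := hodd.of_dvd_nat (orderOf_dvd_natCard (⟨g * g, hm⟩ : M))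
    rw [Subgroup.orderOf_mk, h2] at this
    exact absurd this (by decide)
  obtain ⟨a', rfl⟩ := QuotientGroup.mk_surjective q₁
  obtain ⟨b', rfl⟩ := QuotientGroup.mk_surjective q₂
  have ha' := h22 a' _ hq₁ rfl
  have hb' := h22 b' _ hq₂ rfl
  have hne' : ((a' * b' : G) : G ⧸ M) ≠ 1 := fun e => hqne (by
    rw [QuotientGroup.mk_mul] at e
    rw [eq_inv_of_mul_eq_one_left e, invol_inv hq₂])
  have hab' : orderOf (a' * b') = 2 := by
    refine h22 _ ((a' * b' : G) : G ⧸ M) ?_ rfl
    refine orderOf_eq_prime (hp := ⟨Nat.prime_two⟩) ?_ hne'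
    rw [QuotientGroup.mk_mul, hqc.mul_pow, ← hq₁, pow_orderOf_eq_one, hq₁, ← hq₂, pow_orderOf_eq_one,
      one_mul]
  have hc : Commute a' b' := by
    show a' * b' = b' * a'
    have := invol_inv hab'
    rw [mul_inv_rev, invol_inv ha', invol_inv hb'] at this
    exact this.symm
  exact hG.klein_contra ha' hb' hc (fun e => hqne (by rw [e])) hM1 hodd (hn a') (hn b')

/-- Insoluble groups with element orders at most five. -/
theorem Spec.concl : ∀ (n : ℕ) (G : Type u) [Group G] [Finite G], Nat.card G = n → Spec G →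
    ¬ Group.IsSolvable G → Concl G := by
  intro n
  induction n using Nat.strong_induction_on with
  | _ n ih =>
    intro G _ _ hn hG hns
    by_cases h9 : 9 ∣ Nat.card G
    swap
    · exact hG.concl_three hns h9
    have ih' : ∀ (H : Type u) [Group H] [Finite H], Nat.card H < Nat.card G → Spec H →
        ¬ Group.IsSolvable H → Concl H := fun H _ _ hH => ih _ (hn ▸ hH) H rfl
    have hsol : ∀ N : Subgroup G, N.Normal → Group.IsSolvable N → N = ⊥ := fun N hN hs =>
      hG.no_solvable_normal hns h9 ih' hN hs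
    have hsub : ∀ H : Subgroup G, H ≠ ⊤ → ¬ Group.IsSolvable H → Concl H := fun H hH hHs =>
      ih' H (lt_of_le_of_ne (Subgroup.card_le_card_group H) fun e =>
        hH ((Subgroup.card_eq_iff_eq_top H).1 e)) (hG.subgroup H) hHs
    have : Nontrivial G := by
      by_contra hc
      rw [not_nontrivial_iff_subsingleton] at hc
      exact hns (Group.isSolvable_of_comm fun a b => Subsingleton.elim _ _)
    have : Fact (Nat.Prime 2) := ⟨Nat.prime_two⟩
    have hO : Cfsg.pCore 2 G = ⊥ := by
      have : Group.IsNilpotent (Cfsg.pCore 2 G) := (CfsgLib.Solvable.pCore_isPGroup 2).isNilpotent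
      exact hsol _ (CfsgLib.Solvable.pCore_normal 2 G) inferInstance
    by_cases hsimple : ∀ M : Subgroup G, M.Normal → M = ⊥ ∨ M = ⊤
    · exact Or.inr (Ctx.isA6 ⟨hG, hns, h9, ⟨fun M hM => hsimple M hM⟩, hsub⟩)
    exfalso
    push Not at hsimple
    obtain ⟨M, hM, hM1, hM2⟩ := hsimple
    have hMs : ¬ Group.IsSolvable M := fun h => hM1 (hsol M hM h)
    -- the centraliser of `M` is trivial
    have hC : ∀ a : G, (∀ m ∈ M, a * m = m * a) → a = 1 := by
      intro a ha
      set C := Subgroup.centralizer (M : Set G) with hCdef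
      have hCn : C.Normal := inferInstance
      have haC : a ∈ C := fun m hm => (ha m hm).symm
      by_contra ha1
      have hC1 : C ≠ ⊥ := fun e => ha1 (by rwa [e, Subgroup.mem_bot] at haC)
      have hCs : ¬ Group.IsSolvable C := fun h => hC1 (hsol C hCn h)
      obtain ⟨p, u, x, hp, hu, hx, -⟩ := (hG.subgroup C).exists_real hCs
      obtain ⟨q, hq⟩ : ∃ q : M, orderOf (q : G) = 2 := by
        obtain ⟨-, u', -, -, hu', -, -⟩ := (hG.subgroup M).exists_real hMs
        exact ⟨u', by rw [Subgroup.orderOf_coe]; exact hu'⟩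
      have hxq : Commute (x : G) (q : G) := (x.2 (q : G) q.2).symm
      have hx' : orderOf (x : G) = p := by rw [Subgroup.orderOf_coe]; exact hx
      have := hG.eq_one_of_commute hxq (fun e => by rw [e, orderOf_one] at hx'; omega)
        (by rw [hx', hq]; rcases hp with e | e <;> subst e <;> norm_num)
      rw [this, orderOf_one] at hq
      omega
    rcases hsub M hM2 hMs with ⟨W, hWn, ⟨-, hW2⟩, ⟨e⟩⟩ | ⟨⟨e⟩⟩
    · have hW : W = ⊥ := by
        have h2 : IsPGroup 2 W := fun g => ⟨1, Subtype.ext (by simpa using hW2 g g.2)⟩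
        rw [← Subgroup.map_eq_bot_iff_of_injective (f := M.subtype) _ M.subtype_injective, eq_bot_iff,
          ← hO]
        exact (Subgroup.map_mono (CfsgLib.Solvable.le_pCore hWn h2)).trans
          (CfsgLib.Solvable.map_pCore_le 2 M)
      subst hW
      have e' : M ≃* Alt.A5 := (QuotientGroup.quotientBot (G := M)).symm.trans e
      have hinj : Function.Injective (MulAut.conjNormal : G →* MulAut M) := by
        rw [injective_iff_map_eq_one]
        intro g hg
        refine hC g fun m hm => ?_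
        have := congrArg Subtype.val (DFunLike.congr_fun hg ⟨m, hm⟩)
        rw [MulAut.conjNormal_apply] at this
        exact mul_inv_eq_iff_eq_mul.1 this
      have h120 : Nat.card (MulAut M) = 120 := by
        rw [Nat.card_congr (MulAut.congr e').toEquiv,
          ← Nat.card_congr (Equiv.ofBijective _ (Cfsg.Agent.S2119.result 5 (by norm_num) (by norm_num))),
          Nat.card_eq_fintype_card, Fintype.card_perm, Fintype.card_fin]
        rfl
      have := h9.trans (Subgroup.card_dvd_of_injective _ hinj)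
      rw [h120] at this
      norm_num at this
    · exact hM2 (hG.normal_A6 hO e)

/-- Insoluble groups with element orders at most five. -/
theorem Spec.concl_of_insol (hG : Spec G) (hns : ¬ Group.IsSolvable G) : Concl G :=
  Spec.concl _ G rfl hG hns

end CfsgLib.Recog.EPOFive
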