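import Cfsg.Agent.Lib.Recog.EPOFive.Context
import Cfsg.Prelude.Def_CaseTheorems

/-!
A maximal 2-local subgroup isomorphic to the symmetric group of degree four.
-/

set_option autoImplicit false

namespace CfsgLib.Recog.EPOFive

open Subgroup

universe u

namespace Sym4

open Equiv

/-- A four-cycle. -/
def r4 : Equiv.Perm (Fin 4) := swap 0 3 * swap 0 2 * swap 0 1

/-- A transposition inverting the four-cycle. -/
def s4 : Equiv.Perm (Fin 4) := swap 0 2

/-- The eight elements of the dihedral subgroup. -/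
def d4 : Finset (Equiv.Perm (Fin 4)) :=
  {1, r4, r4 ^ 2, r4 ^ 3, s4, s4 * r4, s4 * r4 ^ 2, s4 * r4 ^ 3}

/-- The normal four group. -/
def v4 : Finset (Equiv.Perm (Fin 4)) := {1, r4 ^ 2, s4 * r4, s4 * r4 ^ 3}

theorem facts : r4 ^ 4 = 1 ∧ r4 ^ 2 ≠ 1 ∧ s4 ^ 2 = 1 ∧ s4 ≠ 1 ∧ s4 * r4 * s4⁻¹ = r4⁻¹ ∧
    d4.card = 8 := by
  decide +kernel

theorem d4_mul : ∀ a ∈ d4, ∀ b ∈ d4, a * b ∈ d4 := by decide +kernel

theorem d4_inv : ∀ a ∈ d4, a⁻¹ ∈ d4 := by decide +kernel

theorem v4_mul : ∀ a ∈ v4, ∀ b ∈ v4, a * b ∈ v4 := by decide +kernel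

theorem v4_sq : ∀ a ∈ v4, a * a = 1 := by decide +kernel

theorem v4_conj : ∀ g : Equiv.Perm (Fin 4), ∀ a ∈ v4, g * a * g⁻¹ ∈ v4 := by decide +kernel

theorem v4_sub : ∀ a ∈ v4, a ∈ d4 := by decide +kernel

theorem order_four : ∀ a ∈ d4, a ^ 2 ≠ 1 → a = r4 ∨ a = r4⁻¹ := by decide +kernel

theorem s_image : ∀ a ∈ d4, a ^ 2 = 1 → a ≠ 1 → a ≠ r4 ^ 2 →
    a = s4 * r4 ∨ a = s4 * r4 ^ 3 ∨ a = s4 ∨ a = s4 * r4 ^ 2 := by decide +kernel

theorem cen_r : ∀ a ∈ d4, a * r4 = r4 * a → a = 1 ∨ a = r4 ∨ a = r4 ^ 2 ∨ a = r4 ^ 3 := by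
  decide +kernel

theorem cen_z : ∀ a ∈ d4, a * r4 ^ 2 = r4 ^ 2 * a := by decide +kernel

theorem v4_mem : r4 ^ 2 ∈ v4 ∧ (s4 * r4) ∈ v4 ∧ (s4 * r4 ^ 3) ∈ v4 := by decide +kernel

theorem card_sym : Nat.card (Equiv.Perm (Fin 4)) = 24 := by
  rw [Nat.card_eq_fintype_card, Fintype.card_perm, Fintype.card_fin]; rfl

end Sym4

namespace Ctx

variable {G : Type u} [Group G] [Finite G]

open Sym4 in
theorem of_maximal_S4 (h : Ctx G) {M : Subgroup G} (hM : Cfsg.IsMaximalTwoLocal M)
    (e : M ≃* Equiv.Perm (Fin 4)) : Nonempty (G ≃* ↥(alternatingGroup (Fin 6))) := by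
  classical
  obtain ⟨f1, f2, f3, f4, f5, f6⟩ := Sym4.facts
  have hG := h.spec
  have : Fact (Nat.Prime 2) := ⟨Nat.prime_two⟩
  let φ : Equiv.Perm (Fin 4) →* G := M.subtype.comp e.symm.toMonoidHom
  have hφ : Function.Injective φ := M.subtype_injective.comp e.symm.injective
  have hφM : ∀ q, φ q ∈ M := fun q => (e.symm q).2
  have hback : ∀ g ∈ M, ∃ q, φ q = g := fun g hg => ⟨e ⟨g, hg⟩, by simp [φ]⟩
  set r := φ r4 with hrdef
  set s := φ s4 with hsdef
  have hr : orderOf r = 4 := by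
    rw [orderOf_injective φ hφ]
    exact orderOf_eq_prime_pow (p := 2) (n := 1) (by simpa using f2) (by simpa using f1)
  have hs : orderOf s = 2 := by
    rw [orderOf_injective φ hφ]; exact orderOf_eq_prime f3 f4
  let D : Subgroup G :=
    { carrier := {g | ∃ q ∈ d4, φ q = g}
      one_mem' := ⟨1, by simp [d4], map_one φ⟩
      mul_mem' := by
        rintro _ _ ⟨a, ha, rfl⟩ ⟨b, hb, rfl⟩
        exact ⟨a * b, d4_mul a ha b hb, map_mul φ a b⟩
      inv_mem' := by
        rintro _ ⟨a, ha, rfl⟩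
        exact ⟨a⁻¹, d4_inv a ha, map_inv φ a⟩ }
  have hDmem : ∀ {g : G}, g ∈ D ↔ ∃ q ∈ d4, φ q = g := Iff.rfl
  have hDcard : Nat.card D = 8 := by
    have : Nat.card d4 = Nat.card D := Nat.card_congr (Equiv.ofBijective
      (fun q : d4 => (⟨φ q, q.1, q.2, rfl⟩ : D))
      ⟨fun a b hab => Subtype.ext (hφ (congrArg Subtype.val hab : _)),
        fun ⟨g, q, hq, hqg⟩ => ⟨⟨q, hq⟩, Subtype.ext hqg⟩⟩)
    rw [← this, Nat.card_eq_finsetCard, f6]
  have hD2 : IsPGroup 2 D := IsPGroup.of_card (n := 3) (by rw [hDcard]; rfl)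
  have hDM : D ≤ M := by rintro g ⟨q, -, rfl⟩; exact hφM q
  let V : Subgroup G :=
    { carrier := {g | ∃ q ∈ v4, φ q = g}
      one_mem' := ⟨1, by simp [v4], map_one φ⟩
      mul_mem' := by
        rintro _ _ ⟨a, ha, rfl⟩ ⟨b, hb, rfl⟩
        exact ⟨a * b, v4_mul a ha b hb, map_mul φ a b⟩
      inv_mem' := by
        rintro _ ⟨a, ha, rfl⟩
        exact ⟨a, ha, by rw [← map_inv, inv_eq_of_mul_eq_one_left (v4_sq a ha)]⟩ }
  have hV : M = Subgroup.normalizer (V : Set G) := by
    refine (hM.2 _ ⟨V, ?_, ?_, rfl⟩ fun g hg => ?_).symm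
    · rintro ⟨g, q, hq, rfl⟩
      refine ⟨1, Subtype.ext ?_⟩
      show φ q ^ 2 ^ 1 = 1
      rw [pow_one, pow_two, ← map_mul, v4_sq q hq, map_one]
    · intro hb
      have : φ (r4 ^ 2) ∈ V := ⟨_, v4_mem.1, rfl⟩
      rw [hb, Subgroup.mem_bot] at this
      exact f2 (hφ (this.trans (map_one φ).symm))
    · obtain ⟨p, rfl⟩ := hback g hg
      refine Subgroup.mem_normalizer_iff.2 fun x => ⟨?_, ?_⟩
      · rintro ⟨q, hq, rfl⟩
        exact ⟨p * q * p⁻¹, v4_conj p q hq, by simp⟩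
      · rintro ⟨q, hq, hqx⟩
        refine ⟨p⁻¹ * q * p⁻¹⁻¹, v4_conj p⁻¹ q hq, ?_⟩
        rw [map_mul, map_mul, map_inv, hqx, map_inv, map_inv, inv_inv]
        group
  -- `D` is a Sylow 2-subgroup
  have hmax : ∀ T : Subgroup G, IsPGroup 2 T → D ≤ T → T ≤ D := by
    intro T hT hDT
    by_contra hc
    have hTM : T ⊓ M ≤ D := by
      have hle : D ≤ T ⊓ M := le_inf hDT hDM
      refine (Subgroup.eq_of_le_of_card_ge hle ?_).ge
      obtain ⟨k, hk⟩ := IsPGroup.iff_card.1 (hT.to_le (inf_le_left : T ⊓ M ≤ T))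
      have hd : 2 ^ k ∣ 8 * 3 := by
        rw [← hk, show 8 * 3 = Nat.card M by rw [Nat.card_congr e.toEquiv, card_sym]]
        exact Subgroup.card_dvd_of_le inf_le_right
      rw [hDcard, hk]
      exact Nat.le_of_dvd (by norm_num) ((Nat.Coprime.pow_left k (by norm_num)).dvd_of_dvd_mul_right hd)
    obtain ⟨g, hgT, hgD, hg⟩ : ∃ g ∈ T, g ∉ D ∧ ((∀ x ∈ D, g * x * g⁻¹ ∈ D) ∧ g * g ∈ D) := by
      have := hT.isNilpotent
      have hlt : D.subgroupOf T < ⊤ := lt_top_iff_ne_top.2 fun e => hc fun g hg => by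
        have : (⟨g, hg⟩ : T) ∈ D.subgroupOf T := e ▸ Subgroup.mem_top _
        exact Subgroup.mem_subgroupOf.1 this
      obtain ⟨⟨g, hgT⟩, hg, hgD⟩ := SetLike.exists_of_lt
        (Group.normalizerCondition_of_isNilpotent (G := T) _ hlt)
      rw [Subgroup.mem_subgroupOf] at hgD
      have hn : ∀ x ∈ D, g * x * g⁻¹ ∈ D := fun x hx => Subgroup.mem_subgroupOf.1
        ((Subgroup.mem_normalizer_iff.1 hg ⟨x, hDT hx⟩).1 (Subgroup.mem_subgroupOf.2 hx))
      by_cases hgg : g * g ∈ D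
      · exact ⟨g, hgT, hgD, hn, hgg⟩
      · refine ⟨g * g, mul_mem hgT hgT, hgg, fun x hx => ?_, ?_⟩
        · rw [show g * g * x * (g * g)⁻¹ = g * (g * x * g⁻¹) * g⁻¹ by group]
          exact hn _ (hn x hx)
        · have h4 := hG.pow_four_of_isPGroup hT hgT
          rw [show g * g * (g * g) = g ^ 4 by simp [pow_succ, mul_assoc], h4]
          exact one_mem _
    obtain ⟨hn, hgg⟩ := hg
    have hgM : g ∉ M := fun e => hgD (hTM ⟨hgT, e⟩)
    have hsD : s ∈ D := ⟨s4, by simp [d4], rfl⟩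
    have hrD : r ∈ D := ⟨r4, by simp [d4], rfl⟩
    have hri : r⁻¹ = φ (r4⁻¹) := (map_inv φ r4).symm
    have hconj_r : g * r * g⁻¹ = r ∨ g * r * g⁻¹ = r⁻¹ := by
      obtain ⟨q, hq, hqg⟩ := hn r hrD
      have hq2 : q ^ 2 ≠ 1 := fun e => by
        have : (g * r * g⁻¹) ^ 2 = 1 := by rw [← hqg, ← map_pow, e, map_one]
        have hd : orderOf (g * r * g⁻¹) ∣ 2 := orderOf_dvd_of_pow_eq_one this
        rw [show orderOf (g * r * g⁻¹) = 4 from ((MulAut.conj g).orderOf_eq r).trans hr] at hd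
        omega
      rcases order_four q hq hq2 with e | e <;> subst e
      · exact Or.inl hqg.symm
      · exact Or.inr (by rw [← hqg, map_inv])
    have hconj_s : g * s * g⁻¹ = s * r ∨ g * s * g⁻¹ = s * r ^ 3 := by
      obtain ⟨q, hq, hqg⟩ := hn s hsD
      have hord : orderOf q = 2 := by
        rw [← orderOf_injective φ hφ, hqg]; exact invol_conj g hs
      have hq1 : q ≠ 1 := fun e => by rw [e, orderOf_one] at hord; omega
      have hqz : q ≠ r4 ^ 2 := by
        intro e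
        subst e
        have hsz : g * (r * r) * g⁻¹ = r * r := by
          rw [← conj_mul]
          rcases hconj_r with e | e <;> rw [e]
          rw [← mul_inv_rev]
          exact inv_eq_of_mul_eq_one_left (by
            rw [show r * r * (r * r) = r ^ 4 by simp [pow_succ, mul_assoc], ← hr, pow_orderOf_eq_one])
        rw [pow_two, map_mul, ← hrdef] at hqg
        have hsr : s = r * r := by
          have := hsz.trans hqg
          exact (mul_left_cancel (mul_right_cancel this)).symm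
        rw [hsdef, hrdef, ← map_mul] at hsr
        exact absurd (hφ hsr) (by decide +kernel)
      rcases s_image q hq (by rw [← hord]; exact pow_orderOf_eq_one q) hq1 hqz with e | e | e | e <;>
        subst e
      · exact Or.inl (by rw [← hqg, map_mul])
      · exact Or.inr (by rw [← hqg, map_mul, map_pow])
      all_goals
        exfalso
        apply hgM
        rw [hV]
        have hle : ∀ x ∈ V, g * x * g⁻¹ ∈ V := by
          rintro x ⟨a, ha, rfl⟩
          have hz : ∀ i : ℕ, g * r ^ i * g⁻¹ = r ^ i ∨ g * r ^ i * g⁻¹ = (r⁻¹) ^ i := fun i => by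
            rw [← conj_pow]; rcases hconj_r with e | e <;> simp [e]
          simp only [v4, Finset.mem_insert, Finset.mem_singleton] at ha
          have hval : ∀ p : Equiv.Perm (Fin 4), p ∈ v4 → φ p ∈ V := fun p hp => ⟨p, hp, rfl⟩
          rcases ha with rfl | rfl | rfl | rfl
          · simp
          · rcases hz 2 with e | e <;> rw [map_pow, ← hrdef, e]
            · exact ⟨_, v4_mem.1, map_pow φ r4 2⟩
            · exact ⟨(r4⁻¹) ^ 2, by decide +kernel, by rw [map_pow, map_inv]⟩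
          · rw [map_mul, ← conj_mul, ← hsdef, ← hrdef, ← hqg]
            rcases hconj_r with e | e <;> rw [e]
            · rw [hrdef, ← map_mul]; exact hval _ (by decide +kernel)
            · rw [hri, ← map_mul]; exact hval _ (by decide +kernel)
          · rw [map_mul, map_pow, ← conj_mul, ← conj_pow, ← hsdef, ← hrdef, ← hqg]
            rcases hconj_r with e | e <;> rw [e]
            · rw [hrdef, ← map_pow, ← map_mul]; exact hval _ (by decide +kernel)
            · rw [hri, ← map_pow, ← map_mul]; exact hval _ (by decide +kernel)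
        refine Subgroup.mem_normalizer_iff.2 fun x => ⟨hle x, fun hx => ?_⟩
        have heq : V.map (MulAut.conj g).toMonoidHom = V := by
          refine Subgroup.eq_of_le_of_card_ge ?_ (Nat.card_congr
            (Subgroup.equivMapOfInjective V _ (MulAut.conj g).injective).toEquiv).le
          rintro _ ⟨y, hy, rfl⟩
          exact hle y hy
        have : g * x * g⁻¹ ∈ V.map (MulAut.conj g).toMonoidHom := by rw [heq]; exact hx
        obtain ⟨y, hy, hy'⟩ := this
        rwa [show x = y from (mul_left_cancel (mul_right_cancel hy')).symm]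
    -- adjust `g` to centralise `r`
    obtain ⟨k, hkT, hkk, hkr, i, hi, hks⟩ : ∃ k ∈ T, k * k ∈ D ∧ k * r * k⁻¹ = r ∧
        ∃ i, (i = 1 ∨ i = 3) ∧ k * s * k⁻¹ = s * r ^ i := by
      have hsi : ∃ i, (i = 1 ∨ i = 3) ∧ g * s * g⁻¹ = s * r ^ i := by
        rcases hconj_s with e | e
        · exact ⟨1, Or.inl rfl, by rw [pow_one, e]⟩
        · exact ⟨3, Or.inr rfl, e⟩
      rcases hconj_r with e | e
      · exact ⟨g, hgT, hgg, e, hsi⟩
      · refine ⟨g * s, mul_mem hgT (hDT hsD), ?_, ?_, ?_⟩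
        · have h1 : g⁻¹ * s * g ∈ D := by
            have := hn _ hsD
            have h2 := mul_mem (mul_mem (inv_mem hgg) this) hgg
            rwa [show (g * g)⁻¹ * (g * s * g⁻¹) * (g * g) = g⁻¹ * s * g by group] at h2
          rw [show g * s * (g * s) = g * g * (g⁻¹ * s * g) * s by group]
          exact mul_mem (mul_mem hgg h1) hsD
        · have hsr : s * r * s⁻¹ = r⁻¹ := by rw [hsdef, hrdef, ← map_inv, ← map_mul, ← map_mul, f5, map_inv]
          calc g * s * r * (g * s)⁻¹ = g * (s * r * s⁻¹) * g⁻¹ := by group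
            _ = r := by rw [hsr, ← conj_inv, e, inv_inv]
        · obtain ⟨i, hi, hgs⟩ := hsi
          exact ⟨i, hi, by rw [show g * s * s * (g * s)⁻¹ = g * s * g⁻¹ by group]; exact hgs⟩
    obtain ⟨q, hq, hqk⟩ := hkk
    have hqr : q * r4 = r4 * q := by
      apply hφ
      rw [map_mul, map_mul, hqk, ← hrdef]
      have hc : Commute k r := mul_inv_eq_iff_eq_mul.1 hkr
      exact (hc.mul_left hc).eq
    have hk4 := hG.pow_four_of_isPGroup hT hkT
    have hk2s : k * k * s * (k * k)⁻¹ = s * r ^ (2 * i) := by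
      calc k * k * s * (k * k)⁻¹ = k * (k * s * k⁻¹) * k⁻¹ := by group
        _ = k * s * k⁻¹ * (k * r * k⁻¹) ^ i := by
            conv_lhs => rw [hks]
            rw [conj_pow, conj_mul]
        _ = s * r ^ i * r ^ i := by rw [hkr, hks]
        _ = s * r ^ (2 * i) := by rw [mul_assoc, ← pow_add, two_mul]
    have hqq : q * q = 1 := by
      apply hφ
      rw [map_mul, hqk, map_one, ← hk4]
      simp [pow_succ, mul_assoc]
    have hfin : q * s4 * q⁻¹ = s4 * r4 ^ (2 * i) := by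
      apply hφ
      rw [map_mul, map_mul, map_inv, map_mul, map_pow, hqk]
      exact hk2s
    rcases cen_r q hq hqr with rfl | rfl | rfl | rfl <;> rcases hi with rfl | rfl <;>
      revert hqq hfin <;> decide +kernel
  refine h.of_centralizer_eight hr hs ?_ ?_ ?_
  · rw [hsdef, hrdef, ← map_inv, ← map_mul, ← map_mul, f5, map_inv]
  · intro i hi
    rw [hsdef, hrdef, ← map_pow] at hi
    have hh := hφ hi
    have h5 := f5
    rw [hh, ← pow_succ, pow_succ', mul_inv_cancel_right] at h5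
    apply f2
    rw [pow_two]
    exact mul_eq_one_iff_eq_inv.2 h5
  · intro g hg
    have hz : orderOf (r ^ 2) = 2 := by rw [orderOf_pow' r two_ne_zero, hr]; rfl
    have hle : Subgroup.centralizer ({r ^ 2} : Set G) ≤ D := by
      refine hmax _ (hG.isPGroup_centralizer hz) ?_
      rintro x ⟨q, hq, rfl⟩
      refine mem_centralizer_of_commute ?_
      show φ q * r ^ 2 = r ^ 2 * φ q
      rw [hrdef, ← map_pow, ← map_mul, ← map_mul]
      rw [cen_z q hq]
    obtain ⟨q, hq, rfl⟩ := hle (mem_centralizer_of_commute hg)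
    simp only [d4, Finset.mem_insert, Finset.mem_singleton] at hq
    rcases hq with rfl | rfl | rfl | rfl | rfl | rfl | rfl | rfl
    · exact ⟨0, Or.inl (by simp)⟩
    · exact ⟨1, Or.inl (by rw [pow_one])⟩
    · exact ⟨2, Or.inl (by rw [map_pow])⟩
    · exact ⟨3, Or.inl (by rw [map_pow])⟩
    · exact ⟨0, Or.inr (by simp [hsdef])⟩
    · exact ⟨1, Or.inr (by rw [pow_one, map_mul])⟩
    · exact ⟨2, Or.inr (by rw [map_mul, map_pow])⟩
    · exact ⟨3, Or.inr (by rw [map_mul, map_pow])⟩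

end Ctx

end CfsgLib.Recog.EPOFive
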