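import Cfsg.Agent.Lib.Recog.EPOFive.LocalA5
import Cfsg.Agent.Lib.Recog.EPOFive.StrongCount
import Cfsg.Agent.Lib.Recog.EPOFive.TwoS4
import Cfsg.Agent.S0518

/-!
The simple case.
-/

set_option autoImplicit false

namespace CfsgLib.Recog.EPOFive

open Subgroup

universe u

namespace Ctx

variable {G : Type u} [Group G] [Finite G]

theorem exists_order_three (h : Ctx G) : ∃ g : G, orderOf g = 3 := by
  have : Fact (Nat.Prime 3) := ⟨Nat.prime_three⟩
  exact exists_prime_orderOf_dvd_card' 3 (dvd_trans (by norm_num) h.nine)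

theorem charTwo (h : Ctx G) : Cfsg.IsCharacteristicTwoType G := by
  refine ⟨h.even, fun T hT hT1 => ?_⟩
  set N := Subgroup.normalizer (T : Set G) with hN
  have : Fact (Nat.Prime 2) := ⟨Nat.prime_two⟩
  have hTn : (T.subgroupOf N).Normal := Subgroup.normal_in_normalizer
  have hT2 : IsPGroup 2 (T.subgroupOf N) :=
    hT.of_equiv (Subgroup.subgroupOfEquivOfLe Subgroup.le_normalizer).symm
  obtain ⟨t, ht, ht2⟩ : ∃ t : N, t ∈ T.subgroupOf N ∧ orderOf t = 2 := by
    have : Nontrivial (T.subgroupOf N) := (Subgroup.nontrivial_iff_ne_bot _).2 fun e => hT1 (by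
      rw [Subgroup.subgroupOf_eq_bot] at e
      exact disjoint_self.1 (e.mono_right Subgroup.le_normalizer))
    obtain ⟨k, hk⟩ := IsPGroup.iff_card.1 hT2
    have h1 : 1 < Nat.card (T.subgroupOf N) := Finite.one_lt_card
    have hk0 : k ≠ 0 := fun e => by rw [hk, e] at h1; omega
    obtain ⟨⟨t, ht⟩, ht2⟩ := exists_prime_orderOf_dvd_card' (G := T.subgroupOf N) 2
      (hk ▸ dvd_pow_self 2 hk0)
    exact ⟨t, ht, (Subgroup.orderOf_coe ⟨t, ht⟩).trans ht2⟩
  show Subgroup.centralizer (Cfsg.pCore 2 N : Set N) ≤ Cfsg.pCore 2 N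
  have := CfsgLib.Solvable.pCore_normal 2 N
  refine CfsgLib.Solvable.le_pCore inferInstance ?_
  refine ((h.spec.subgroup N).isPGroup_centralizer ht2).to_le (Subgroup.centralizer_le ?_)
  rw [Set.singleton_subset_iff]
  exact CfsgLib.Solvable.le_pCore hTn hT2 ht

theorem sylow_centralizer (h : Ctx G) (S : Sylow 2 G) :
    Subgroup.centralizer {z : G | z ∈ (S : Subgroup G) ∧ z ^ 2 = 1 ∧ ∀ s ∈ (S : Subgroup G), s * z = z * s} ≤
      Subgroup.normalizer ((S : Subgroup G) : Set G) := by
  have : Fact (Nat.Prime 2) := ⟨Nat.prime_two⟩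
  set X := {z : G | z ∈ (S : Subgroup G) ∧ z ^ 2 = 1 ∧ ∀ s ∈ (S : Subgroup G), s * z = z * s}
  have hS1 : Nontrivial (S : Subgroup G) := by
    rw [Subgroup.nontrivial_iff_ne_bot]
    exact Sylow.ne_bot_of_dvd_card S (even_iff_two_dvd.1 h.even)
  have hc : Nontrivial (Subgroup.center (S : Subgroup G)) := S.2.center_nontrivial
  obtain ⟨k, hk⟩ := IsPGroup.iff_card.1 (S.2.to_subgroup (Subgroup.center (S : Subgroup G)))
  have h1 : 1 < Nat.card (Subgroup.center (S : Subgroup G)) := Finite.one_lt_card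
  have hk0 : k ≠ 0 := fun e => by rw [hk, e] at h1; omega
  obtain ⟨⟨⟨z, hzS⟩, hzc⟩, hz2⟩ := exists_prime_orderOf_dvd_card'
    (G := Subgroup.center (S : Subgroup G)) 2 (hk ▸ dvd_pow_self 2 hk0)
  rw [← Subgroup.orderOf_coe, ← Subgroup.orderOf_coe] at hz2
  have hzX : z ∈ X := ⟨hzS, by rw [← hz2]; exact pow_orderOf_eq_one z, fun s hs =>
    congrArg Subtype.val (Subgroup.mem_center_iff.1 hzc ⟨s, hs⟩)⟩
  have h2 : IsPGroup 2 (Subgroup.centralizer X) :=
    (h.spec.isPGroup_centralizer hz2).to_le (Subgroup.centralizer_le (by simpa using hzX))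
  have hle : (S : Subgroup G) ≤ Subgroup.centralizer X := fun s hs x hx => (hx.2.2 s hs).symm
  rw [S.3 h2 hle]
  exact Subgroup.le_normalizer

theorem odd_closure (h : Ctx G) : Subgroup.closure {g : G | Odd (orderOf g)} = ⊤ := by
  have := h.simple
  have hn : (Subgroup.closure {g : G | Odd (orderOf g)}).Normal := by
    refine ⟨fun x hx c => ?_⟩
    induction hx using Subgroup.closure_induction with
    | mem y hy =>
      refine Subgroup.subset_closure ?_
      show Odd (orderOf (c * y * c⁻¹))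
      rwa [show orderOf (c * y * c⁻¹) = orderOf y from (MulAut.conj c).orderOf_eq y]
    | one => rw [mul_one, mul_inv_cancel]; exact one_mem _
    | mul a b _ _ ha hb => rw [← conj_mul]; exact mul_mem ha hb
    | inv a _ ha => rw [← conj_inv]; exact inv_mem ha
  refine hn.eq_bot_or_eq_top.resolve_left fun e => ?_
  obtain ⟨g, hg⟩ := h.exists_order_three
  have : g ∈ Subgroup.closure {g : G | Odd (orderOf g)} :=
    Subgroup.subset_closure (by show Odd (orderOf g); rw [hg]; decide)
  rw [e, Subgroup.mem_bot] at this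
  rw [this, orderOf_one] at hg
  omega

/-- The simple case gives the alternating group of degree six. -/
theorem isA6 (h : Ctx G) : Nonempty (G ≃* ↥(alternatingGroup (Fin 6))) := by
  set H := Subgroup.closure {g : G | Odd (orderOf g)} with hHdef
  rcases Cfsg.Agent.S0518.result h.charTwo h.pCore_two
      (fun N ⟨T, hT, hT1, hN⟩ => hN ▸ h.twoLocal_solvable hT hT1) h.sylow_centralizer
      H hHdef with ⟨K, hK⟩ | ⟨M, -, -, hM, -, ⟨e⟩, -, -⟩
  · exact h.of_stronglyEmbedded hK
  · have hH : H = ⊤ := h.odd_closure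
    have hinj := H.subtype_injective
    have hsurj : Function.Surjective H.subtype := fun g => ⟨⟨g, hH ▸ Subgroup.mem_top g⟩, rfl⟩
    have hbij : Function.Bijective H.subtype := ⟨hinj, hsurj⟩
    let E : H ≃* G := MulEquiv.ofBijective H.subtype hbij
    have hnm : ∀ T : Subgroup H, (Subgroup.normalizer (T : Set H)).map E.toMonoidHom =
        Subgroup.normalizer (T.map E.toMonoidHom : Set G) := fun T => by
      ext x
      rw [Subgroup.mem_map_equiv, Subgroup.mem_normalizer_iff, Subgroup.mem_normalizer_iff]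
      constructor
      · intro hx y
        rw [Subgroup.mem_map_equiv, Subgroup.mem_map_equiv, hx (E.symm y)]
        simp [map_mul]
      · intro hx y
        have := hx (E y)
        rw [Subgroup.mem_map_equiv, Subgroup.mem_map_equiv] at this
        simpa [map_mul] using this
    refine h.of_maximal_S4 (M := M.map E.toMonoidHom) ⟨?_, ?_⟩
      ((Subgroup.equivMapOfInjective M _ E.injective).symm.trans e)
    · obtain ⟨⟨T, hT, hT1, hMT⟩, -⟩ := hM
      refine ⟨T.map E.toMonoidHom, hT.map _, ?_, by rw [hMT, hnm]⟩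
      rwa [Ne, Subgroup.map_eq_bot_iff_of_injective (f := E.toMonoidHom) _ E.injective]
    · rintro N ⟨T, hT, hT1, rfl⟩ hle
      set T' := T.map E.symm.toMonoidHom with hT'
      have hTeq : T'.map E.toMonoidHom = T := by
        rw [hT', Subgroup.map_map]; convert Subgroup.map_id T; ext x; simp
      have hN' : Subgroup.normalizer (T' : Set H) = M := by
        refine hM.2 _ ⟨T', hT.map _, ?_, rfl⟩ ?_
        · rwa [Ne, Subgroup.map_eq_bot_iff_of_injective (f := E.symm.toMonoidHom) _ E.symm.injective]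
        · rw [← Subgroup.map_le_map_iff_of_injective (f := E.toMonoidHom) E.injective, hnm, hTeq]
          exact hle
      rw [← hN', hnm, hTeq]

end Ctx

end CfsgLib.Recog.EPOFive
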