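import Cfsg.Agent.Lib.Recog.EPOFive.Context
import Cfsg.Agent.Lib.Recog.EPOFive.Lift
import Cfsg.Prelude.Def_Involutions
import Cfsg.Agent.S3278

/-!
A strongly embedded subgroup in the simple case: first facts, and the insoluble possibility.
-/

set_option autoImplicit false

namespace CfsgLib.Recog.EPOFive

open Subgroup

universe u

namespace Ctx

variable {G : Type u} [Group G] [Finite G]

/-- The centraliser of an involution of a strongly embedded subgroup lies in it. -/
theorem se_centralizer {K : Subgroup G} (hK : Cfsg.IsStronglyEmbedded K) {t : G} (htK : t ∈ K)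
    (ht : orderOf t = 2) : Subgroup.centralizer ({t} : Set G) ≤ K := by
  intro g hg
  by_contra hgK
  have hodd := hK.2.2 g hgK
  have hmem : t ∈ K ⊓ K.map (MulAut.conj g).toMonoidHom := by
    refine ⟨htK, ⟨t, htK, ?_⟩⟩
    show g * t * g⁻¹ = t
    rw [Subgroup.mem_centralizer_singleton_iff.1 hg, mul_inv_cancel_right]
  have h2 := hodd.of_dvd_nat (orderOf_dvd_natCard (⟨t, hmem⟩ : ↥(K ⊓ K.map (MulAut.conj g).toMonoidHom)))
  rw [Subgroup.orderOf_mk, ht] at h2
  exact absurd h2 (by decide)

/-- The involutions of a strongly embedded subgroup are conjugate in it. -/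
theorem se_conj (h : Ctx G) {K : Subgroup G} (hK : Cfsg.IsStronglyEmbedded K) {w v : G}
    (hw : w ∈ K) (hw2 : orderOf w = 2) (hv : v ∈ K) (hv2 : orderOf v = 2) :
    ∃ k ∈ K, k * w * k⁻¹ = v := by
  obtain ⟨g, hg⟩ := h.all_conj hK.1 (fun t ht ht2 => se_centralizer hK ht ht2) hw hw2 v hv2
  refine ⟨g, ?_, hg⟩
  by_contra hgK
  have hodd := hK.2.2 g hgK
  have hmem : v ∈ K ⊓ K.map (MulAut.conj g).toMonoidHom := ⟨hv, ⟨w, hw, hg⟩⟩
  have h2 := hodd.of_dvd_nat (orderOf_dvd_natCard (⟨v, hmem⟩ : ↥(K ⊓ K.map (MulAut.conj g).toMonoidHom)))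
  rw [Subgroup.orderOf_mk, hv2] at h2
  exact absurd h2 (by decide)

/-- A strongly embedded subgroup contains a four group. -/
theorem se_four (h : Ctx G) {K : Subgroup G} (hK : Cfsg.IsStronglyEmbedded K) :
    ∃ a b : G, a ∈ K ∧ b ∈ K ∧ orderOf a = 2 ∧ orderOf b = 2 ∧ Commute a b ∧ a ≠ b := by
  have : Fact (Nat.Prime 2) := ⟨Nat.prime_two⟩
  obtain ⟨t, ht⟩ := exists_prime_orderOf_dvd_card' (G := K) 2 (even_iff_two_dvd.1 hK.2.1)
  rw [← Subgroup.orderOf_coe] at ht
  obtain ⟨a, b, ha, hb, hab, hne⟩ := h.four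
  obtain ⟨g, hg⟩ := h.all_conj hK.1 (fun t ht ht2 => se_centralizer hK ht ht2) t.2 ht a ha
  have ha' : g⁻¹ * a * g = t := by rw [← hg]; group
  have hc : Commute (g⁻¹ * a * g) (g⁻¹ * b * g) := by
    show g⁻¹ * a * g * (g⁻¹ * b * g) = g⁻¹ * b * g * (g⁻¹ * a * g)
    calc g⁻¹ * a * g * (g⁻¹ * b * g) = g⁻¹ * (a * b) * g := by group
      _ = g⁻¹ * (b * a) * g := by rw [hab.eq]
      _ = _ := by group
  have hord : ∀ c : G, orderOf c = 2 → orderOf (g⁻¹ * c * g) = 2 := fun c hc' => by
    have := invol_conj g⁻¹ hc'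
    rwa [inv_inv] at this
  refine ⟨g⁻¹ * a * g, g⁻¹ * b * g, ha' ▸ t.2, se_centralizer hK t.2 ht (mem_centralizer_of_commute ?_),
    hord a ha, hord b hb, hc, fun e => hne (mul_left_cancel (mul_right_cancel e))⟩
  rw [← ha']; exact hc.symm

/-- The insoluble possibility for a strongly embedded subgroup. -/
theorem of_se_insol (h : Ctx G) {K : Subgroup G} (hK : Cfsg.IsStronglyEmbedded K)
    (hns : ¬ Group.IsSolvable K) : Nonempty (G ≃* ↥(alternatingGroup (Fin 6))) := by
  rcases h.ih K hK.1 hns with ⟨W, hWn, ⟨-, hW2⟩, ⟨e⟩⟩ | ⟨⟨e⟩⟩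
  · exfalso
    obtain ⟨f1, f2, f3, f4, f5, f6, f7, f8, f9, f10, f11, f12, f13, f14, f15, f16⟩ := Alt.five_facts
    by_cases hWb : W = ⊥
    · subst hWb
      have e' : K ≃* Alt.A5 := (QuotientGroup.quotientBot (G := K)).symm.trans e
      set t : K := e'.symm Alt.a5 with ht
      have htord : orderOf (t : G) = 2 := by
        rw [Subgroup.orderOf_coe, ht, MulEquiv.orderOf_eq]
        exact orderOf_eq_prime f1 f2
      set C := Subgroup.centralizer ({(t : G)} : Set G) with hC
      have hCK : C ≤ K := se_centralizer hK t.2 htord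
      have hmem : ∀ g : G, g ∈ C ↔ ∃ q : Alt.A5, (e'.symm q : G) = g ∧
          (q = 1 ∨ q = Alt.a5 ∨ q = Alt.b5 ∨ q = Alt.a5 * Alt.b5) := by
        intro g
        constructor
        · intro hg
          refine ⟨e' ⟨g, hCK hg⟩, by simp, Alt.five_centralizer _ ?_⟩
          have hc := Subgroup.mem_centralizer_singleton_iff.1 hg
          have : (⟨g, hCK hg⟩ : K) * t = t * ⟨g, hCK hg⟩ := Subtype.ext hc
          have := congrArg e' this
          rw [map_mul, map_mul, ht, MulEquiv.apply_symm_apply] at this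
          exact this
        · rintro ⟨q, rfl, hq⟩
          refine mem_centralizer_of_commute ?_
          have hq' : q * Alt.a5 = Alt.a5 * q := by
            rcases hq with e | e | e | e <;> subst e
            · simp
            · rfl
            · exact f5.symm
            · rw [mul_assoc, ← f5]
          have := congrArg (fun z : Alt.A5 => ((e'.symm z : K) : G)) hq'
          simp only [map_mul, Subgroup.coe_mul] at this
          exact this
      have hkl : IsKleinFour C := by
        have hC4 : Nat.card C = 4 := by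
          have e4 : C ≃ {q : Alt.A5 // q = 1 ∨ q = Alt.a5 ∨ q = Alt.b5 ∨ q = Alt.a5 * Alt.b5} :=
            { toFun := fun g => ⟨e' ⟨g, hCK g.2⟩, by
                obtain ⟨q, hq, hq'⟩ := (hmem g).1 g.2
                have : (⟨(g : G), hCK g.2⟩ : K) = e'.symm q := Subtype.ext hq.symm
                rw [this, MulEquiv.apply_symm_apply]
                exact hq'⟩
              invFun := fun q => ⟨e'.symm q, (hmem _).2 ⟨q, rfl, q.2⟩⟩
              left_inv := fun g => Subtype.ext (by simp)
              right_inv := fun q => Subtype.ext (by simp) }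
          rw [Nat.card_congr e4, Nat.card_eq_fintype_card]
          decide +kernel
        refine ⟨hC4, ?_⟩
        refine Nat.dvd_antisymm (Monoid.exponent_dvd_of_forall_pow_eq_one fun g => ?_) ?_
        · obtain ⟨q, hq, hq'⟩ := (hmem g).1 g.2
          have hq2 : q ^ 2 = 1 := by
            rcases hq' with e | e | e | e <;> subst e
            · simp
            · exact f1
            · exact f3
            · rw [(Commute.mul_pow (show Commute Alt.a5 Alt.b5 from f5)), f1, f3, one_mul]
          refine Subtype.ext ?_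
          show (g : G) ^ 2 = 1
          rw [← hq, ← Subgroup.coe_pow, ← map_pow, hq2, map_one, Subgroup.coe_one]
        · have := Monoid.order_dvd_exponent (⟨(t : G), mem_centralizer_of_commute (Commute.refl _)⟩ : C)
          rwa [Subgroup.orderOf_mk, htord] at this
      have := h.simple
      obtain ⟨e5⟩ := Cfsg.Agent.S3278.result (t : G) htord C le_rfl hkl
        (by rw [Subgroup.relIndex_self]; decide) (by rw [Subgroup.subgroupOf_self]; infer_instance)
      have h9 := h.nine
      rw [Nat.card_congr e5.toEquiv, Alt.five_card] at h9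
      norm_num at h9
    · obtain ⟨w, hw, hw1⟩ := (Subgroup.ne_bot_iff_exists_ne_one.1 hWb) |>.elim
        fun w hw => (⟨w.1, w.2, fun e => hw (Subtype.ext e)⟩ : ∃ w : K, w ∈ W ∧ w ≠ 1)
      have hw2 : orderOf (w : G) = 2 := by
        rw [Subgroup.orderOf_coe]; exact orderOf_eq_prime (hW2 w hw) hw1
      let π : K →* Alt.A5 := e.toMonoidHom.comp (QuotientGroup.mk' W)
      have hker : π.ker = W := by
        ext g; simp [π, MonoidHom.mem_ker]
      have hsurj : Function.Surjective π := e.surjective.comp (QuotientGroup.mk'_surjective W)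
      have hW2g : IsPGroup 2 W := fun g => ⟨1, Subtype.ext (by simpa using hW2 g g.2)⟩
      obtain ⟨y, hy⟩ := hsurj Alt.x5
      have : Fact (Nat.Prime 3) := ⟨Nat.prime_three⟩
      have : Fact (Nat.Prime 2) := ⟨Nat.prime_two⟩
      have hy3 : orderOf y = 3 := (h.spec.subgroup K).orderOf_lift π (Or.inl rfl)
        (hy ▸ orderOf_eq_prime f12 f13)
      obtain ⟨v, hv2, hπv, -⟩ := (h.spec.subgroup K).exists_inverting_lift hW2g π hker hsurj
        (orderOf_eq_prime f1 f2) f14 (Or.inl hy3) hy
      obtain ⟨k, hk, hkv⟩ := h.se_conj hK w.2 hw2 v.2 (by rw [Subgroup.orderOf_coe]; exact hv2)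
      have hvW : v ∈ W := by
        have : v = (⟨k, hk⟩ : K) * w * (⟨k, hk⟩ : K)⁻¹ := Subtype.ext hkv.symm
        rw [this]
        exact hWn.conj_mem w hw _
      rw [← hker, MonoidHom.mem_ker, hπv] at hvW
      exact f2 hvW
  · obtain ⟨g1, g2, g3, g4, g5, g6, g7, g8, g9, g10, g11, g12, g13, g14, g15, g16, g17, g18, g19⟩ :=
      Alt.six_facts
    set r : G := ((e.symm Alt.r6 : K) : G) with hr
    set s : G := ((e.symm Alt.s6 : K) : G) with hs
    have hord6 : ∀ q : Alt.A6, orderOf ((e.symm q : K) : G) = orderOf q := fun q => by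
      rw [Subgroup.orderOf_coe, MulEquiv.orderOf_eq]
    have hr4 : orderOf r = 4 := by
      rw [hr, hord6]
      have : Fact (Nat.Prime 2) := ⟨Nat.prime_two⟩
      exact orderOf_eq_prime_pow (p := 2) (n := 1) (by simpa using g9) (by simpa using g8)
    have : Fact (Nat.Prime 2) := ⟨Nat.prime_two⟩
    refine h.of_centralizer_eight (r := r) (s := s) hr4 (by rw [hs, hord6]; exact orderOf_eq_prime g12 g13)
      ?_ ?_ ?_
    · have := congrArg (fun z : Alt.A6 => ((e.symm z : K) : G)) g14
      simpa [hr, hs] using this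
    · intro i hi
      have h1 : Alt.s6 = Alt.r6 ^ i := by
        apply e.symm.injective
        apply Subtype.ext
        rw [map_pow, Subgroup.coe_pow]
        exact hi
      have h2 : Alt.s6 * Alt.r6 * Alt.s6⁻¹ = Alt.r6 := by
        rw [h1, ← pow_succ, pow_succ', mul_inv_cancel_right]
      rw [g14] at h2
      apply g9
      rw [pow_two]
      nth_rw 1 [← h2]
      exact inv_mul_cancel _
    · intro g hg
      have hz : orderOf (r ^ 2) = 2 := by rw [orderOf_pow' r two_ne_zero, hr4]; rfl
      have hgK : g ∈ K := se_centralizer hK (pow_mem (e.symm Alt.r6).2 2) hz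
        (mem_centralizer_of_commute hg)
      have hc : (⟨g, hgK⟩ : K) * (e.symm Alt.r6) ^ 2 = (e.symm Alt.r6) ^ 2 * ⟨g, hgK⟩ :=
        Subtype.ext hg
      have hc' := congrArg e hc
      simp only [map_mul, map_pow, MulEquiv.apply_symm_apply] at hc'
      have hback : ∀ q : Alt.A6, e ⟨g, hgK⟩ = q → g = ((e.symm q : K) : G) := fun q hq => by
        rw [← hq, MulEquiv.symm_apply_apply]
      rcases Alt.six_centralizer_z _ hc' with q | q | q | q | q | q | q | q <;> have q' := hback _ q
      · exact ⟨0, Or.inl (by simpa [hr] using q')⟩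
      · exact ⟨1, Or.inl (by simpa [hr] using q')⟩
      · exact ⟨2, Or.inl (by simpa [hr] using q')⟩
      · exact ⟨3, Or.inl (by simpa [hr] using q')⟩
      · exact ⟨0, Or.inr (by simpa [hr, hs] using q')⟩
      · exact ⟨1, Or.inr (by simpa [hr, hs] using q')⟩
      · exact ⟨2, Or.inr (by simpa [hr, hs] using q')⟩
      · exact ⟨3, Or.inr (by simpa [hr, hs] using q')⟩

end Ctx

end CfsgLib.Recog.EPOFive
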