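import Cfsg.Agent.Lib.Recog.EPOFive.StrongNonsolvable
import Cfsg.Agent.Lib.Solvable.Nilpotent

/-!
A soluble strongly embedded subgroup: it would be a Sylow 2-subgroup extended by a group of
order three.
-/

set_option autoImplicit false

namespace CfsgLib.Recog.EPOFive

open Subgroup

universe u

section Arith

theorem odd_part_cases {k x y : ℕ} (hk : 2 ≤ k) (hx : x ≤ 1) (he : 2 ^ k = 3 ^ x * 5 ^ y + 1) :
    3 ^ x * 5 ^ y = 3 ∨ 3 ^ x * 5 ^ y = 15 := by
  interval_cases x
  · exfalso
    have h4 : 2 ^ k % 4 = 0 := by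
      rw [← Nat.sub_add_cancel hk, pow_add]; simp
    rw [he] at h4
    have : (5 ^ y) % 4 = 1 := by rw [Nat.pow_mod]; simp
    omega
  · rcases y with _ | _ | y
    · left; rfl
    · right; rfl
    exfalso
    have h25 : 2 ^ k % 25 = 1 := by
      rw [he, show 3 ^ 1 * 5 ^ (y + 1 + 1) + 1 = 1 + 25 * (3 * 5 ^ y) by ring,
        Nat.add_mul_mod_self_left]
    have hk20 : k % 20 = 0 := by
      have hr : 2 ^ (k % 20) % 25 = 1 := by
        have h20 : (2 ^ 20) ^ (k / 20) % 25 = 1 := by
          rw [Nat.pow_mod]; norm_num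
        have e : 2 ^ k = 2 ^ (k % 20) * (2 ^ 20) ^ (k / 20) := by
          rw [← pow_mul, ← pow_add, Nat.mod_add_div]
        rw [← h25, e, Nat.mul_mod, h20, mul_one, Nat.mod_mod]
      have : ∀ r < 20, 2 ^ r % 25 = 1 → r = 0 := by decide
      exact this _ (Nat.mod_lt _ (by norm_num)) hr
    obtain ⟨q, hq⟩ := Nat.dvd_of_mod_eq_zero hk20
    have h11 : 2 ^ k % 11 = 1 := by
      rw [hq, pow_mul, Nat.pow_mod, show 2 ^ 20 % 11 = 1 by norm_num, one_pow, Nat.one_mod]
    have hz : (3 ^ 1 * 5 ^ (y + 2)) % 11 = 0 := by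
      rw [he, show y + 1 + 1 = y + 2 by rfl] at h11
      generalize 3 ^ 1 * 5 ^ (y + 2) = X at h11 ⊢
      omega
    have hd : 11 ∣ 3 ^ 1 * 5 ^ (y + 2) := Nat.dvd_of_mod_eq_zero hz
    rcases (Nat.Prime.dvd_mul (by norm_num)).1 hd with h | h
    · norm_num at h
    · exact absurd ((Nat.Prime.dvd_of_dvd_pow (by norm_num)) h) (by norm_num)

end Arith

/-- In a group with element orders at most five, a subgroup of order five or three is normalised
by no element of the other order. -/
theorem Spec.not_normalize_coprime {G : Type*} [Group G] [Finite G] (hG : Spec G) {N : Subgroup G}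
    [N.Normal] {p q : ℕ} (hpq : p = 3 ∧ q = 5 ∨ p = 5 ∧ q = 3) (hN : Nat.card N = p) {f : G}
    (hf : orderOf f = q) : False := by
  classical
  have hp : p.Prime := by rcases hpq with ⟨h, -⟩ | ⟨h, -⟩ <;> subst h <;> norm_num
  have := Fact.mk hp
  obtain ⟨⟨x, hxN⟩, hx⟩ := exists_prime_orderOf_dvd_card' (G := N) p (by rw [hN])
  rw [Subgroup.orderOf_mk] at hx
  have hzp : Subgroup.zpowers x = N :=
    Subgroup.eq_of_le_of_card_ge (Subgroup.zpowers_le.2 hxN) (by rw [Nat.card_zpowers, hx, hN])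
  have hmem := Subgroup.Normal.conj_mem (inferInstance : N.Normal) x hxN f
  rw [← hzp, mem_zpowers_iff_mem_range_orderOf, Finset.mem_image] at hmem
  obtain ⟨i, hi, hxi⟩ := hmem
  rw [Finset.mem_range, hx] at hi
  have hiter : ∀ n : ℕ, f ^ n * x * (f ^ n)⁻¹ = x ^ (i ^ n) := by
    intro n
    induction n with
    | zero => simp
    | succ n ih =>
      rw [pow_succ', pow_succ, pow_mul]
      calc f * f ^ n * x * (f * f ^ n)⁻¹ = f * (f ^ n * x * (f ^ n)⁻¹) * f⁻¹ := by group
        _ = (f * x * f⁻¹) ^ i ^ n := by rw [ih, conj_pow]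
        _ = (x ^ i ^ n) ^ i := by rw [← hxi, ← pow_mul, mul_comm, pow_mul]
  have h1 := hiter q
  rw [← hf, pow_orderOf_eq_one, hf, one_mul, inv_one, mul_one] at h1
  have hmod : i ^ q % p = 1 := by
    have : x ^ (i ^ q) = x ^ 1 := by rw [← h1, pow_one]
    rw [pow_inj_mod, hx] at this
    rw [this, Nat.mod_eq_of_lt hp.one_lt]
  have hi1 : i = 1 := by
    rcases hpq with ⟨h, h'⟩ | ⟨h, h'⟩ <;> subst h h' <;> interval_cases i <;> first | rfl | (exfalso; norm_num at hmod)
  rw [hi1, pow_one] at hxi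
  have hc : Commute x f := (mul_inv_eq_iff_eq_mul.1 hxi.symm).symm
  have hx1 : x ≠ 1 := fun e => by rw [e, orderOf_one] at hx; exact hp.ne_one hx.symm
  have hf1 := hG.eq_one_of_commute hc hx1 (by
    rw [hx, hf]; rcases hpq with ⟨h, h'⟩ | ⟨h, h'⟩ <;> subst h h' <;> norm_num)
  rw [hf1, orderOf_one] at hf
  rcases hpq with ⟨-, h'⟩ | ⟨-, h'⟩ <;> omega

namespace Ctx

variable {G : Type u} [Group G] [Finite G]

/-- The shape of a soluble strongly embedded subgroup. -/
structure SolShape (K : Subgroup G) where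
  t₀ : G
  x : G
  t₀K : t₀ ∈ K
  xK : x ∈ K
  ht₀ : orderOf t₀ = 2
  hx : orderOf x = 3
  T : Subgroup G
  hT : T ≤ K
  hTC : Subgroup.centralizer ({t₀} : Set G) = T
  hcard : Nat.card K = 3 * Nat.card T
  two : IsPGroup 2 T
  central : ∀ v ∈ K, orderOf v = 2 → v ∈ T ∧ ∀ g ∈ T, g * v = v * g
  card_invol : Nat.card {v : G // v ∈ K ∧ orderOf v = 2} = 3
  norm_x : ∀ g ∈ K, g * x * g⁻¹ ∈ Subgroup.zpowers x → g ∈ Subgroup.zpowers x

theorem solShape (h : Ctx G) {K : Subgroup G} (hK : Cfsg.IsStronglyEmbedded K)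
    [hs : Group.IsSolvable K] : Nonempty (SolShape K) := by
  classical
  have : Fact (Nat.Prime 2) := ⟨Nat.prime_two⟩
  have hSK : Spec K := h.spec.subgroup K
  obtain ⟨a, b, haK, hbK, ha, hb, hab, hne⟩ := h.se_four hK
  set a' : K := ⟨a, haK⟩
  set b' : K := ⟨b, hbK⟩
  have ha' : orderOf a' = 2 := by rw [← Subgroup.orderOf_coe]; exact ha
  have hb' : orderOf b' = 2 := by rw [← Subgroup.orderOf_coe]; exact hb
  have hKnt : Nontrivial K := ⟨a', b', fun e => hne (congrArg Subtype.val e)⟩
  have hnormal_two : ∀ (N : Subgroup K), N.Normal → N ≠ ⊥ → Odd (Nat.card N) → False := by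
    intro N hN hNb hodd
    exact hSK.klein_contra ha' hb' (Subtype.ext hab) (fun e => hne (congrArg Subtype.val e)) hNb hodd
      (by rw [Subgroup.normalizer_eq_top]; trivial) (by rw [Subgroup.normalizer_eq_top]; trivial)
  set Q : Subgroup K := Cfsg.pCore 2 K with hQdef
  have hQn : Q.Normal := CfsgLib.Solvable.pCore_normal 2 K
  have hQp : IsPGroup 2 Q := CfsgLib.Solvable.pCore_isPGroup 2
  have hQne : Q ≠ ⊥ := by
    obtain ⟨M, hMn, hMb, hMmin⟩ := CfsgLib.Solvable.exists_minimal_normal (G := K)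
    obtain ⟨p, hp, hMp, -, -⟩ := CfsgLib.Solvable.exists_isPGroup_of_minimal_normal hMb hMmin
    by_cases hp2 : p = 2
    · subst hp2
      intro e
      exact hMb (le_bot_iff.1 (e ▸ CfsgLib.Solvable.le_pCore hMn hMp))
    · have := Fact.mk hp
      obtain ⟨n, hn⟩ := IsPGroup.iff_card.1 hMp
      exact (hnormal_two M hMn hMb (hn ▸ (hp.odd_of_ne_two hp2).pow)).elim
  obtain ⟨S⟩ : Nonempty (Sylow 2 K) := inferInstance
  obtain ⟨S', hS'⟩ := hQp.exists_le_sylow
  -- an involution of the core central in a Sylow subgroup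
  have : Group.IsNilpotent (S' : Subgroup K) := S'.isPGroup'.isNilpotent
  have : (Q.subgroupOf (S' : Subgroup K)).Normal := Subgroup.Normal.subgroupOf hQn _
  have hint : (Q.subgroupOf (S' : Subgroup K)) ⊓ Subgroup.center _ ≠ ⊥ :=
    CfsgLib.Solvable.normal_inf_center_ne_bot _ (fun e => hQne (by
      rw [Subgroup.subgroupOf_eq_bot, disjoint_comm, disjoint_iff] at e
      rw [← e, inf_eq_right.2 hS']))
  obtain ⟨c, hc, hc1⟩ := (Subgroup.ne_bot_iff_exists_ne_one.1 hint) |>.elim
    fun w hw => (⟨w.1, w.2, fun e => hw (Subtype.ext e)⟩ :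
      ∃ c, c ∈ (Q.subgroupOf (S' : Subgroup K)) ⊓ Subgroup.center _ ∧ c ≠ 1)
  obtain ⟨n, hn⟩ := S'.isPGroup'.exists_orderOf_eq_pow c
  obtain ⟨n, rfl⟩ : ∃ m, n = m + 1 := ⟨n - 1, by
    rcases n with _ | n
    · rw [pow_zero, orderOf_eq_one_iff] at hn; exact absurd hn hc1
    · omega⟩
  set t₁ := c ^ 2 ^ n with ht₁def
  have ht₁ord : orderOf t₁ = 2 := by
    rw [ht₁def, orderOf_pow' _ (by positivity), hn, Nat.gcd_eq_right (pow_dvd_pow 2 n.le_succ),
      pow_succ, Nat.mul_div_cancel_left _ (by positivity)]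
  have ht₁mem : t₁ ∈ (Q.subgroupOf (S' : Subgroup K)) ⊓ Subgroup.center _ := pow_mem hc _
  set t₀K : K := t₁.1
  have ht₀K2 : orderOf t₀K = 2 := by rw [Subgroup.orderOf_coe]; exact ht₁ord
  have ht₀Q : t₀K ∈ Q := Subgroup.mem_subgroupOf.1 ht₁mem.1
  set t₀ : G := t₀K.1 with ht₀def
  have ht₀ : orderOf t₀ = 2 := by rw [Subgroup.orderOf_coe]; exact ht₀K2
  -- the centraliser
  set T : Subgroup G := Subgroup.centralizer ({t₀} : Set G) with hTdef
  have hTK : T ≤ K := se_centralizer hK t₀K.2 ht₀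
  have hTp : IsPGroup 2 T := h.spec.isPGroup_centralizer ht₀
  have hS'T : ((S' : Subgroup K).map K.subtype) ≤ T := by
    rintro _ ⟨g, hg, rfl⟩
    refine mem_centralizer_of_commute ?_
    have := Subgroup.mem_center_iff.1 ht₁mem.2 ⟨g, hg⟩
    exact congrArg (fun z : (S' : Subgroup K) => ((z : K) : G)) this
  have hTeq : T.subgroupOf K = (S' : Subgroup K) := by
    refine S'.3 (hTp.comap_of_injective K.subtype K.subtype_injective) ?_
    intro g hg
    exact Subgroup.mem_subgroupOf.2 (hS'T ⟨g, hg, rfl⟩)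
  have hQT : ∀ q ∈ Q, ((q : K) : G) ∈ T := fun q hq => hS'T ⟨q, hS' hq, rfl⟩
  -- all involutions lie in the centre of the core
  have hinv : ∀ v : K, orderOf v = 2 → v ∈ Q ∧ ∀ q ∈ Q, q * v = v * q := by
    intro v hv
    obtain ⟨k, hk, hkv⟩ := h.se_conj hK t₀K.2 ht₀ v.2 (by rw [Subgroup.orderOf_coe]; exact hv)
    set kk : K := ⟨k, hk⟩
    have hv' : v = kk * t₀K * kk⁻¹ := Subtype.ext hkv.symm
    refine ⟨hv' ▸ hQn.conj_mem _ ht₀Q kk, fun q hq => ?_⟩
    have hq' : kk⁻¹ * q * kk ∈ Q := by simpa using hQn.conj_mem q hq kk⁻¹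
    have := Subgroup.mem_centralizer_singleton_iff.1 (hQT _ hq')
    have hcomm : kk⁻¹ * q * kk * t₀K = t₀K * (kk⁻¹ * q * kk) := Subtype.ext this
    rw [hv']
    calc q * (kk * t₀K * kk⁻¹) = kk * (kk⁻¹ * q * kk * t₀K) * kk⁻¹ := by group
      _ = kk * (t₀K * (kk⁻¹ * q * kk)) * kk⁻¹ := by rw [hcomm]
      _ = kk * t₀K * kk⁻¹ * q := by group
  let V : Subgroup K :=
    { carrier := {v | v * v = 1}
      one_mem' := one_mul 1
      mul_mem' := fun {u w} (hu : u * u = 1) (hw : w * w = 1) => by
        by_cases hu1 : u = 1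
        · show u * w * (u * w) = 1
          rw [hu1, one_mul, hw]
        by_cases hw1 : w = 1
        · show u * w * (u * w) = 1
          rw [hw1, mul_one, hu]
        have h2u := orderOf_eq_prime (p := 2) (by rw [pow_two, hu]) hu1
        have h2w := orderOf_eq_prime (p := 2) (by rw [pow_two, hw]) hw1
        show u * w * (u * w) = 1
        have hc : Commute w u := ((hinv u h2u).2 w (hinv w h2w).1)
        rw [mul_assoc, ← mul_assoc w u, hc.eq, mul_assoc u w w, hw, mul_one, hu]
      inv_mem' := fun {u} (hu : u * u = 1) => by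
        show u⁻¹ * u⁻¹ = 1
        rw [← mul_inv_rev, hu, inv_one] }
  have hVmem : ∀ v : K, v ∈ V ↔ v = 1 ∨ orderOf v = 2 := fun v => by
    constructor
    · intro (hv : v * v = 1)
      by_cases hv1 : v = 1
      · exact Or.inl hv1
      · exact Or.inr (orderOf_eq_prime (by rw [pow_two, hv]) hv1)
    · rintro (rfl | hv)
      · exact one_mem _
      · exact invol_sq hv
  have hVp : IsPGroup 2 V := fun v => ⟨1, Subtype.ext (by
    show (v : K) ^ 2 ^ 1 = 1
    rw [pow_one, pow_two]; exact v.2)⟩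
  obtain ⟨k, hk⟩ := IsPGroup.iff_card.1 hVp
  have hVn : ∀ g : K, g ∈ Subgroup.normalizer (V : Set K) := fun g =>
    Subgroup.mem_normalizer_fintype fun v (hv : v * v = 1) => by
      show g * v * g⁻¹ * (g * v * g⁻¹) = 1
      rw [show g * v * g⁻¹ * (g * v * g⁻¹) = g * (v * v) * g⁻¹ by group, hv, mul_one, mul_inv_cancel]
  -- the number of involutions is the odd part of the order
  have hVcard : Nat.card V = Nat.card {v : K // orderOf v = 2} + 1 := by
    have e : V ≃ Option {v : K // orderOf v = 2} :=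
      { toFun := fun v => if hv : (v : K) = 1 then none else some ⟨v, ((hVmem v).1 v.2).resolve_left hv⟩
        invFun := fun o => match o with
          | none => 1
          | some v => ⟨v, (hVmem v).2 (Or.inr v.2)⟩
        left_inv := fun v => by
          by_cases hv : (v : K) = 1
          · simp only [hv, dif_pos]; exact Subtype.ext hv.symm
          · simp only [hv, dif_neg, not_false_iff]
        right_inv := fun o => by
          rcases o with _ | ⟨v, hv⟩
          · simp
          · have : v ≠ 1 := fun e => by rw [e, orderOf_one] at hv; omega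
            simp [this] }
    rw [Nat.card_congr e, Finite.card_option]
  have hcount : Nat.card {v : K // orderOf v = 2} * Nat.card (S' : Subgroup K) = Nat.card K := by
    have hC : Subgroup.centralizer ({t₀K} : Set K) = (S' : Subgroup K) := by
      rw [← hTeq]
      ext g
      rw [Subgroup.mem_subgroupOf, hTdef, Subgroup.mem_centralizer_singleton_iff,
        Subgroup.mem_centralizer_singleton_iff, Subtype.ext_iff]
      rfl
    rw [← hC]
    refine card_conj_invol t₀K ht₀K2 fun v hv => ?_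
    obtain ⟨g, hgK, hg⟩ := h.se_conj hK t₀K.2 ht₀ v.2 (by rw [Subgroup.orderOf_coe]; exact hv)
    exact ⟨⟨g, hgK⟩, Subtype.ext hg⟩
  set m := Nat.card {v : K // orderOf v = 2} with hm
  have hmodd : ¬ 2 ∣ m := by
    have h2 := Sylow.not_dvd_index S'
    rwa [show (S' : Subgroup K).index = m from by
      have := Subgroup.card_mul_index (S' : Subgroup K)
      have hp : 0 < Nat.card (S' : Subgroup K) := Nat.card_pos
      nlinarith] at h2
  have hmdvd : m ∣ Nat.card K := Dvd.intro _ hcount
  have hmne : m ≠ 0 := fun e => hmodd (e ▸ dvd_zero 2)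
  have hm35 : m = 3 ^ m.factorization 3 * 5 ^ m.factorization 5 := by
    conv_lhs => rw [← Nat.prod_factorization_pow_eq_self hmne]
    rw [Finsupp.prod_of_support_subset _ (s := {3, 5}) ?_ _ (fun i _ => pow_zero i)]
    · simp
    intro p hp
    have hp' := Nat.prime_of_mem_primeFactors (Nat.support_factorization m ▸ hp)
    have hpd := Nat.dvd_of_mem_primeFactors (Nat.support_factorization m ▸ hp)
    rcases hSK.prime_cases hp' (hpd.trans hmdvd) with e | e | e <;> subst e
    · exact absurd hpd hmodd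
    · simp
    · simp
  have hk2 : 2 ≤ k := by
    by_contra hcon
    have h3 : 3 ≤ Nat.card V := by
      let f : Fin 3 → V := ![1, ⟨a', (hVmem _).2 (Or.inr ha')⟩, ⟨b', (hVmem _).2 (Or.inr hb')⟩]
      have hf : Function.Injective f := by
        have h1 : (1 : K) ≠ a' := fun e => by rw [← e, orderOf_one] at ha'; omega
        have h2 : (1 : K) ≠ b' := fun e => by rw [← e, orderOf_one] at hb'; omega
        have h3 : a' ≠ b' := fun e => hne (congrArg Subtype.val e)
        intro i j hij
        have hij' := congrArg Subtype.val hij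
        fin_cases i <;> fin_cases j <;> simp [f] at hij' ⊢
        all_goals first
          | exact h1 hij' | exact h1 hij'.symm | exact h2 hij' | exact h2 hij'.symm
          | exact h3 hij' | exact h3 hij'.symm
      simpa using Nat.card_le_card_of_injective f hf
    rw [hk] at h3
    interval_cases k <;> omega
  have hx1 : m.factorization 3 ≤ 1 := by
    by_contra hcon
    have h9 : 9 ∣ Nat.card K := (show 3 ^ 2 ∣ m from (Nat.pow_dvd_pow 3 (by omega)).trans
      (Nat.ordProj_dvd m 3)).trans hmdvd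
    obtain ⟨p, q, hp, hq, hpq, hne1, hne2⟩ := hSK.exists_nine h9
    refine hSK.nine_contra hp hq hpq hne1 hne2 (P := V) ?_ hVp (hVn p) (hVn q)
    intro e
    rw [e, Subgroup.card_bot] at hk
    have : 2 ^ 2 ≤ 2 ^ k := Nat.pow_le_pow_right (by norm_num) hk2
    omega
  have hm3 : m = 3 := by
    rcases odd_part_cases hk2 hx1 (by rw [← hm35, ← hk, hVcard]) with e | e
    · rw [hm35, e]
    exfalso
    rw [← hm35] at e
    have h15 : 15 ∣ Nat.card K := e ▸ hmdvd
    have hQK : Spec (K ⧸ Q) := hSK.quotient Q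
    have hnt : Nontrivial (K ⧸ Q) := by
      have : Fact (Nat.Prime 3) := ⟨Nat.prime_three⟩
      obtain ⟨g, hg⟩ := exists_prime_orderOf_dvd_card' (G := K) 3 ((by norm_num : 3 ∣ 15).trans h15)
      refine ⟨QuotientGroup.mk g, 1, fun e => ?_⟩
      rw [QuotientGroup.eq_one_iff] at e
      obtain ⟨j, hj⟩ := hQp.exists_orderOf_eq_pow ⟨g, e⟩
      rw [Subgroup.orderOf_mk, hg] at hj
      rcases j with _ | j
      · simp at hj
      · rw [pow_succ] at hj; omega
    obtain ⟨M, hMn, hMb, hMmin⟩ := CfsgLib.Solvable.exists_minimal_normal (G := K ⧸ Q)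
    obtain ⟨p, hp, hMp, hMexp, -⟩ := CfsgLib.Solvable.exists_isPGroup_of_minimal_normal hMb hMmin
    have := Fact.mk hp
    have hpd : p ∣ Nat.card (K ⧸ Q) := by
      obtain ⟨i, hi⟩ := IsPGroup.iff_card.1 hMp
      rcases i with _ | i
      · exact absurd (Subgroup.card_eq_one.1 (by simpa using hi)) hMb
      · exact (Dvd.intro_left _ (pow_succ p i).symm).trans (hi ▸ Subgroup.card_subgroup_dvd_card M)
    rcases hQK.prime_cases hp hpd with e' | e'
    · subst e'
      have hcom : IsPGroup 2 (M.comap (QuotientGroup.mk' Q)) :=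
        hMp.comap_of_ker_isPGroup _ (by rwa [QuotientGroup.ker_mk'])
      have hle := CfsgLib.Solvable.le_pCore (hMn.comap _) hcom
      exact hMb (le_bot_iff.1 fun g hg => by
        obtain ⟨g, rfl⟩ := QuotientGroup.mk'_surjective Q g
        rw [Subgroup.mem_bot, QuotientGroup.mk'_apply, QuotientGroup.eq_one_iff]
        exact hle hg)
    · have hq : ∀ q, q.Prime → q ∣ 15 → ∃ f : K ⧸ Q, orderOf f = q := by
        intro q hq hqd
        have := Fact.mk hq
        obtain ⟨g, hg⟩ := exists_prime_orderOf_dvd_card' (G := K) q (hqd.trans h15)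
        refine ⟨QuotientGroup.mk g, orderOf_eq_prime (by
          rw [← QuotientGroup.mk_pow, ← hg, pow_orderOf_eq_one, QuotientGroup.mk_one]) fun e => ?_⟩
        rw [QuotientGroup.eq_one_iff] at e
        obtain ⟨j, hj⟩ := hQp.exists_orderOf_eq_pow ⟨g, e⟩
        rw [Subgroup.orderOf_mk, hg] at hj
        have : q = 2 := by
          rcases j with _ | j
          · rw [pow_zero] at hj; exact absurd hj hq.ne_one
          · exact (Nat.prime_dvd_prime_iff_eq hq Nat.prime_two).1
              (hq.dvd_of_dvd_pow (show q ∣ 2 ^ (j + 1) by rw [← hj]))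
        subst this
        norm_num at hqd
      have hcardM : Nat.card M = p := by
        obtain ⟨i, hi⟩ := IsPGroup.iff_card.1 hMp
        have hd : p ^ i ∣ Nat.card K := hi ▸ (Subgroup.card_subgroup_dvd_card M).trans
          (Subgroup.card_quotient_dvd_card Q)
        have hco : Nat.Coprime (p ^ i) (Nat.card (S' : Subgroup K)) := by
          obtain ⟨l, hl⟩ := IsPGroup.iff_card.1 S'.isPGroup'
          rw [hl]
          refine Nat.Coprime.pow _ _ ((Nat.coprime_primes hp Nat.prime_two).2 ?_)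
          omega
        rw [← hcount] at hd
        have hd15 : p ^ i ∣ 15 := e ▸ hco.dvd_of_dvd_mul_right hd
        rw [hi]
        rcases i with _ | _ | i
        · exact absurd (Subgroup.card_eq_one.1 (by simpa using hi)) hMb
        · rw [pow_one]
        · exfalso
          have h2 : p ^ 2 ∣ 15 := (Nat.pow_dvd_pow p (by omega)).trans hd15
          rcases e' with e' | e' <;> subst e' <;> norm_num at h2
      rcases e' with e' | e' <;> subst e'
      · obtain ⟨f, hf⟩ := hq 5 (by norm_num) (by norm_num)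
        exact hQK.not_normalize_coprime (Or.inl ⟨rfl, rfl⟩) hcardM hf
      · obtain ⟨f, hf⟩ := hq 3 (by norm_num) (by norm_num)
        exact hQK.not_normalize_coprime (Or.inr ⟨rfl, rfl⟩) hcardM hf
  -- the element of order three
  have : Fact (Nat.Prime 3) := ⟨Nat.prime_three⟩
  have hS3 : Nat.card K = 3 * Nat.card (S' : Subgroup K) := by rw [← hcount, hm3]
  obtain ⟨x, hx⟩ := exists_prime_orderOf_dvd_card' (G := K) 3 (Dvd.intro _ hS3.symm)
  set X := Subgroup.zpowers x with hX
  have hnormX : ∀ g : K, g ∈ Subgroup.normalizer (X : Set K) → g ∈ X := by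
    intro g hg
    set N := Subgroup.normalizer (X : Set K)
    have hXN : X ≤ N := Subgroup.le_normalizer
    have hodd : Odd (Nat.card N) := by
      rw [← Nat.not_even_iff_odd, even_iff_two_dvd]
      intro hd
      obtain ⟨⟨u, huN⟩, hu⟩ := exists_prime_orderOf_dvd_card' (G := N) 2 hd
      rw [Subgroup.orderOf_mk] at hu
      have huQ := (hinv u hu).1
      have h1 : u * x * u⁻¹ * x⁻¹ ∈ Q := by
        rw [show u * x * u⁻¹ * x⁻¹ = u * (x * u⁻¹ * x⁻¹) by group]
        exact mul_mem huQ (hQn.conj_mem _ (inv_mem huQ) x)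
      have h2 : u * x * u⁻¹ * x⁻¹ ∈ X :=
        mul_mem ((Subgroup.mem_normalizer_iff.1 huN x).1 (Subgroup.mem_zpowers x))
          (inv_mem (Subgroup.mem_zpowers x))
      have h3 : u * x * u⁻¹ * x⁻¹ = 1 := by
        obtain ⟨j, hj⟩ := hQp.exists_orderOf_eq_pow ⟨_, h1⟩
        have hd3 := orderOf_dvd_natCard (⟨_, h2⟩ : X)
        rw [Nat.card_zpowers, hx, Subgroup.orderOf_mk] at hd3
        rw [Subgroup.orderOf_mk] at hj
        rw [← orderOf_eq_one_iff, hj]
        rw [hj] at hd3
        exact Nat.eq_one_of_dvd_coprimes ((Nat.coprime_primes Nat.prime_two Nat.prime_three).2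
          (by norm_num) |>.pow_left j) dvd_rfl hd3
      have hc : Commute u x := mul_inv_eq_iff_eq_mul.1 (mul_inv_eq_one.1 h3)
      have := hSK.eq_one_of_commute hc (fun e => by rw [e, orderOf_one] at hu; omega)
        (by rw [hu, hx]; norm_num)
      rw [this, orderOf_one] at hx
      omega
    have hd : Nat.card N ∣ 3 := by
      have hd := Subgroup.card_subgroup_dvd_card N
      rw [hS3] at hd
      refine Nat.Coprime.dvd_of_dvd_mul_right ?_ hd
      obtain ⟨l, hl⟩ := IsPGroup.iff_card.1 S'.isPGroup'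
      rw [hl]
      exact (Nat.coprime_two_right.2 hodd).pow_right l
    have hXeq : X = N := Subgroup.eq_of_le_of_card_ge hXN (by
      rw [hX, Nat.card_zpowers, hx]; exact Nat.le_of_dvd (by norm_num) hd)
    exact hXeq ▸ hg
  -- the core is the Sylow subgroup
  have hQS : Q = (S' : Subgroup K) := by
    have hQK : Spec (K ⧸ Q) := hSK.quotient Q
    have hnt : Nontrivial (K ⧸ Q) := ⟨QuotientGroup.mk x, 1, fun e => by
      rw [QuotientGroup.eq_one_iff] at e
      obtain ⟨j, hj⟩ := hQp.exists_orderOf_eq_pow ⟨x, e⟩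
      rw [Subgroup.orderOf_mk, hx] at hj
      rcases j with _ | j
      · simp at hj
      · rw [pow_succ] at hj; omega⟩
    obtain ⟨M, hMn, hMb, hMmin⟩ := CfsgLib.Solvable.exists_minimal_normal (G := K ⧸ Q)
    obtain ⟨p, hp, hMp, -, -⟩ := CfsgLib.Solvable.exists_isPGroup_of_minimal_normal hMb hMmin
    have := Fact.mk hp
    have hp3 : p = 3 := by
      obtain ⟨i, hi⟩ := IsPGroup.iff_card.1 hMp
      rcases i with _ | i
      · exact absurd (Subgroup.card_eq_one.1 (by simpa using hi)) hMb
      have hpK : p ∣ Nat.card K := ((Dvd.intro_left _ (pow_succ p i).symm).trans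
        (hi ▸ Subgroup.card_subgroup_dvd_card M)).trans (Subgroup.card_quotient_dvd_card Q)
      rw [hS3] at hpK
      rcases hp.dvd_mul.1 hpK with h' | h'
      · exact (Nat.prime_dvd_prime_iff_eq hp Nat.prime_three).1 h'
      · exfalso
        obtain ⟨l, hl⟩ := IsPGroup.iff_card.1 S'.isPGroup'
        have hp2 : p = 2 := (Nat.prime_dvd_prime_iff_eq hp Nat.prime_two).1
          (hp.dvd_of_dvd_pow (hl ▸ h'))
        subst hp2
        have hcom : IsPGroup 2 (M.comap (QuotientGroup.mk' Q)) :=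
          hMp.comap_of_ker_isPGroup _ (by rwa [QuotientGroup.ker_mk'])
        have hle := CfsgLib.Solvable.le_pCore (hMn.comap _) hcom
        exact hMb (le_bot_iff.1 fun g hg => by
          obtain ⟨g, rfl⟩ := QuotientGroup.mk'_surjective Q g
          rw [Subgroup.mem_bot, QuotientGroup.mk'_apply, QuotientGroup.eq_one_iff]
          exact hle hg)
    subst hp3
    obtain ⟨i, hi⟩ := IsPGroup.iff_card.1 hMp
    have hxM : QuotientGroup.mk x ∈ M := by
      -- a Sylow 3-subgroup of the quotient has order three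
      have hord : orderOf (QuotientGroup.mk x : K ⧸ Q) = 3 := orderOf_eq_prime (by
        rw [← QuotientGroup.mk_pow, ← hx, pow_orderOf_eq_one, QuotientGroup.mk_one]) fun e => by
        rw [QuotientGroup.eq_one_iff] at e
        obtain ⟨j, hj⟩ := hQp.exists_orderOf_eq_pow ⟨x, e⟩
        rw [Subgroup.orderOf_mk, hx] at hj
        rcases j with _ | j
        · simp at hj
        · rw [pow_succ] at hj; omega
      set Y := Subgroup.zpowers (QuotientGroup.mk x : K ⧸ Q)
      have hsup : IsPGroup 3 ↥(Y ⊔ M) :=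
        (IsPGroup.of_card (n := 1) (by rw [Nat.card_zpowers, hord, pow_one])).to_sup_of_normal_right hMp
      obtain ⟨j, hj⟩ := IsPGroup.iff_card.1 hsup
      have hd : 3 ^ j ∣ 3 * Nat.card (S' : Subgroup K) := by
        rw [← hj, ← hS3]
        exact (Subgroup.card_subgroup_dvd_card _).trans (Subgroup.card_quotient_dvd_card Q)
      obtain ⟨l, hl⟩ := IsPGroup.iff_card.1 S'.isPGroup'
      rw [hl] at hd
      have hd3 : 3 ^ j ∣ 3 := Nat.Coprime.dvd_of_dvd_mul_right
        (Nat.Coprime.pow _ _ (by norm_num)) hd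
      have hle : Nat.card ↥(Y ⊔ M) ≤ Nat.card M := by
        rw [hj]
        refine (Nat.le_of_dvd (by norm_num) hd3).trans ?_
        rw [hi]
        rcases i with _ | i
        · exact absurd (Subgroup.card_eq_one.1 (by simpa using hi)) hMb
        · exact Nat.le_of_dvd (by positivity) (dvd_pow_self 3 (by omega))
      rw [Subgroup.eq_of_le_of_card_ge le_sup_right hle]
      exact Subgroup.mem_sup_left (Subgroup.mem_zpowers _)
    have hcomap : ∀ g : K, ∃ w ∈ Q, g * w⁻¹ ∈ X ∨ g ∈ X := by
      intro g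
      set N := M.comap (QuotientGroup.mk' Q)
      have : N.Normal := hMn.comap _
      have hXN : X ≤ N := Subgroup.zpowers_le.2 hxM
      have hxN : g * x * g⁻¹ ∈ N := Subgroup.Normal.conj_mem inferInstance x (hXN (Subgroup.mem_zpowers x)) g
      -- `g x g⁻¹` is congruent to a power of `x`
      have hMX : M = Subgroup.zpowers (QuotientGroup.mk x : K ⧸ Q) := by
        refine (Subgroup.eq_of_le_of_card_ge (Subgroup.zpowers_le.2 hxM) ?_).symm
        have hd : 3 ^ i ∣ 3 * Nat.card (S' : Subgroup K) := by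
          rw [← hi, ← hS3]
          exact (Subgroup.card_subgroup_dvd_card _).trans (Subgroup.card_quotient_dvd_card Q)
        obtain ⟨l, hl⟩ := IsPGroup.iff_card.1 S'.isPGroup'
        rw [hl] at hd
        rw [hi]
        refine (Nat.le_of_dvd (by norm_num) (Nat.Coprime.dvd_of_dvd_mul_right
          (Nat.Coprime.pow _ _ (by norm_num)) hd)).trans ?_
        rw [Nat.card_zpowers]
        refine le_of_eq (Eq.symm ?_)
        exact orderOf_eq_prime (by
          rw [← QuotientGroup.mk_pow, ← hx, pow_orderOf_eq_one, QuotientGroup.mk_one]) fun e => by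
          rw [QuotientGroup.eq_one_iff] at e
          obtain ⟨j, hj⟩ := hQp.exists_orderOf_eq_pow ⟨x, e⟩
          rw [Subgroup.orderOf_mk, hx] at hj
          rcases j with _ | j
          · simp at hj
          · rw [pow_succ] at hj; omega
      have hz : QuotientGroup.mk (g * x * g⁻¹) ∈ Subgroup.zpowers (QuotientGroup.mk x : K ⧸ Q) :=
        hMX ▸ hxN
      obtain ⟨z, hz'⟩ := Subgroup.mem_zpowers_iff.1 hz
      rw [← QuotientGroup.mk_zpow] at hz'
      have hordxz : orderOf (x ^ z) = 3 := by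
        refine orderOf_eq_prime ?_ fun e => ?_
        · rw [← zpow_natCast, ← zpow_mul, mul_comm, zpow_mul, zpow_natCast, ← hx,
            pow_orderOf_eq_one, one_zpow]
        · rw [e] at hz'
          have hq := (QuotientGroup.eq_one_iff (N := Q) (g * x * g⁻¹)).1 hz'.symm
          have hxQ : x ∈ Q := by simpa [mul_assoc] using hQn.conj_mem _ hq g⁻¹
          obtain ⟨j, hj⟩ := hQp.exists_orderOf_eq_pow ⟨x, hxQ⟩
          rw [Subgroup.orderOf_mk, hx] at hj
          rcases j with _ | j
          · simp at hj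
          · rw [pow_succ] at hj; omega
      obtain ⟨w, hw, hwx⟩ := hSK.exists_conj_coset hQp (Or.inl hordxz) (z := g * x * g⁻¹) (by
        have h2 := QuotientGroup.eq.1 hz'
        have h3 := hQn.conj_mem _ h2 (x ^ z)
        simpa [mul_assoc] using h3)
      have hn : w⁻¹ * g ∈ X := by
        refine hnormX _ (Subgroup.mem_normalizer_fintype fun y hy => ?_)
        obtain ⟨j, rfl⟩ := Subgroup.mem_zpowers_iff.1 hy
        rw [← conj_zpow, show w⁻¹ * g * x * (w⁻¹ * g)⁻¹ = w⁻¹ * (g * x * g⁻¹) * w by group, ← hwx]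
        rw [show w⁻¹ * (w * x ^ z * w⁻¹) * w = x ^ z by group, ← zpow_mul]
        exact zpow_mem (Subgroup.mem_zpowers x) _
      refine ⟨g⁻¹ * w * g, by simpa using hQn.conj_mem w hw g⁻¹, Or.inl ?_⟩
      rw [show g * (g⁻¹ * w * g)⁻¹ = w⁻¹ * g by group]
      exact hn
    refine Subgroup.eq_of_le_of_card_ge hS' ?_
    have hle : Nat.card K ≤ 3 * Nat.card Q := by
      choose w hw hg using hcomap
      let f : K → X × Q := fun g =>
        if hX' : g * (w g)⁻¹ ∈ X then (⟨_, hX'⟩, ⟨w g, hw g⟩) else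
          (⟨g, (hg g).resolve_left hX'⟩, 1)
      have hf : Function.Injective f := by
        intro g g' e
        have key : ∀ g, ((f g).1 : K) * ((f g).2 : K) = g := fun g => by
          by_cases hX' : g * (w g)⁻¹ ∈ X <;> simp [f, hX']
        rw [← key g, ← key g', e]
      refine (Nat.card_le_card_of_injective f hf).trans ?_
      rw [Nat.card_prod, hX, Nat.card_zpowers, hx]
    omega
  refine ⟨{
    t₀ := t₀
    x := x
    t₀K := t₀K.2
    xK := x.2
    ht₀ := ht₀
    hx := by rw [Subgroup.orderOf_coe]; exact hx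
    T := T
    hT := hTK
    hTC := rfl
    hcard := ?_
    two := hTp
    central := fun v hvK hv => ?_
    card_invol := ?_
    norm_x := fun g hgK hg => ?_ }⟩
  · rw [hS3, ← hTeq, Nat.card_congr (Subgroup.subgroupOfEquivOfLe hTK).toEquiv]
  · have hv' : orderOf (⟨v, hvK⟩ : K) = 2 := by rw [← Subgroup.orderOf_coe]; exact hv
    refine ⟨hQT ⟨v, hvK⟩ (hinv _ hv').1, fun g hg => ?_⟩
    have hgQ : (⟨g, hTK hg⟩ : K) ∈ Q := by
      rw [hQS, ← hTeq, Subgroup.mem_subgroupOf]; exact hg
    exact congrArg Subtype.val ((hinv _ hv').2 _ hgQ)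
  · rw [← hm3, hm]
    exact Nat.card_congr
      { toFun := fun v => ⟨⟨v.1, v.2.1⟩, by rw [← Subgroup.orderOf_coe]; exact v.2.2⟩
        invFun := fun v => ⟨v.1, v.1.2, by rw [Subgroup.orderOf_coe]; exact v.2⟩
        left_inv := fun v => rfl
        right_inv := fun v => rfl }
  · have hmem : (⟨g, hgK⟩ : K) ∈ Subgroup.normalizer (X : Set K) := by
      refine Subgroup.mem_normalizer_fintype fun y hy => ?_
      obtain ⟨j, rfl⟩ := Subgroup.mem_zpowers_iff.1 hy
      rw [← conj_zpow]
      refine zpow_mem ?_ j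
      obtain ⟨i, hi⟩ := Subgroup.mem_zpowers_iff.1 hg
      exact ⟨i, Subtype.ext (by simpa using hi)⟩
    obtain ⟨i, hi⟩ := Subgroup.mem_zpowers_iff.1 (hnormX _ hmem)
    exact ⟨i, by simpa using congrArg Subtype.val hi⟩

end Ctx

end CfsgLib.Recog.EPOFive
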